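import Mathlib
import Cfsg.Prelude.Def_KGroupFacts
import Cfsg.Agent.Lib.Schur.Hopf
import Cfsg.Agent.Lib.OmegaSevenMult.Combine
import Cfsg.Agent.Lib.Chev.StUniversal

/-!
Exponents of kernels of stem extensions from subgroups: the transfer into the abelianised preimage
of a subgroup, and subgroups whose preimages have derived groups meeting the kernel trivially.
-/

set_option autoImplicit false
set_option linter.style.haveILetI false
set_option linter.unusedSectionVars false

open scoped commutatorElement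

namespace CfsgLib.LyCent

variable {Δ G : Type} [Group Δ] [Finite Δ] [Group G] {τ : Δ →* G}

/-- If the part of the kernel in the derived preimage of `U` has exponent `m`, then `m` times the
index of `U` annihilates the kernel. -/
theorem pow_index (hs : Function.Surjective τ) (hc : τ.ker ≤ Subgroup.center Δ)
    (hd : τ.ker ≤ commutator Δ) (U : Subgroup G) {m : ℕ}
    (h : ∀ z ∈ τ.ker, z ∈ ⁅U.comap τ, U.comap τ⁆ → z ^ m = 1) :
    ∀ z ∈ τ.ker, z ^ (U.index * m) = 1 := by
  intro z hz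
  set W := U.comap τ with hW
  have hidx : W.index = U.index := Subgroup.index_comap_of_surjective U hs
  have hzc := Subgroup.mem_center_iff.mp (hc hz)
  have key : ∀ (k : ℕ) (g₀ : Δ), g₀⁻¹ * z ^ k * g₀ ∈ W → g₀⁻¹ * z ^ k * g₀ = z ^ k := fun k g₀ _ => by
    rw [mul_assoc, ← (show Commute g₀ z from hzc g₀).pow_right k |>.eq, inv_mul_cancel_left]
  let φ : W →* Abelianization W := Abelianization.of
  have h1 : MonoidHom.transfer φ z = 1 :=
    Abelianization.commutator_subset_ker (MonoidHom.transfer φ) (hd hz)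
  rw [MonoidHom.transfer_eq_pow φ z key] at h1
  have h2 : (⟨z ^ W.index, MonoidHom.transfer_eq_pow_aux z key⟩ : W) ∈ commutator W := by
    rw [← Abelianization.ker_of, MonoidHom.mem_ker]; exact h1
  have h3 := Subgroup.mem_map_of_mem W.subtype h2
  rw [Subgroup.map_subtype_commutator] at h3
  rw [← hidx, pow_mul]
  exact h _ (pow_mem hz _) h3

/-- The preimage of a cyclic subgroup is commutative. -/
theorem cyclic_kill (hc : τ.ker ≤ Subgroup.center Δ) (hs : Function.Surjective τ) (g : G) :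
    ∀ z ∈ τ.ker, z ∈ ⁅(Subgroup.zpowers g).comap τ, (Subgroup.zpowers g).comap τ⁆ → z ^ 1 = 1 := by
  intro z _ hz
  have hbot : ⁅(Subgroup.zpowers g).comap τ, (Subgroup.zpowers g).comap τ⁆ = ⊥ := by
    rw [eq_bot_iff, Subgroup.commutator_le]
    intro a ha b hb
    obtain ⟨g', hg⟩ := hs g
    obtain ⟨i, hi⟩ := Subgroup.mem_zpowers_iff.mp ha
    obtain ⟨j, hj⟩ := Subgroup.mem_zpowers_iff.mp hb
    rw [Subgroup.mem_bot, CfsgLib.Schur.commutatorElement_congr τ hc (a' := g' ^ i) (b' := g' ^ j)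
      (by rw [map_zpow, hg, hi]) (by rw [map_zpow, hg, hj]), commutatorElement_eq_one_iff_commute]
    exact Commute.zpow_zpow_self g' i j
  rw [hbot, Subgroup.mem_bot] at hz
  rw [hz, one_pow]

/-- A perfect subgroup with a quotient whose covers are small. -/
theorem perfect_kill (hs : Function.Surjective τ) (hc : τ.ker ≤ Subgroup.center Δ) (U : Subgroup G)
    (hU : commutator U = ⊤) [Finite U] {A : Type} [Group A] (π : U →* A) (hπ : Function.Surjective π)
    (hπc : π.ker ≤ Subgroup.center U)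
    (bound : ∀ (L : Type) [Group L] [Finite L] (σ : L →* A), Function.Surjective σ →
      σ.ker ≤ Subgroup.center L → commutator L = ⊤ → Nat.card σ.ker ≤ Nat.card π.ker) :
    ∀ z ∈ τ.ker, z ∈ ⁅U.comap τ, U.comap τ⁆ → z ^ 1 = 1 := by
  intro z hz hzW
  set W := U.comap τ with hW
  let τW : W →* U := τ.subgroupComap U
  have hsW : Function.Surjective τW := fun u => by
    obtain ⟨a, ha⟩ := hs u.1
    exact ⟨⟨a, show τ a ∈ U from ha ▸ u.2⟩, Subtype.ext ha⟩
  have hcW : τW.ker ≤ Subgroup.center W := fun x hx => Subgroup.mem_center_iff.mpr fun y =>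
    Subtype.ext (Subgroup.mem_center_iff.mp (hc (show τ x.1 = 1 from congrArg Subtype.val hx)) y.1)
  obtain ⟨hperf, hsurj⟩ := OmegaSevenMult.derived_perfect hsW hcW hU
  set L := commutator W
  set τL : L →* U := τW.comp L.subtype
  set σ : L →* A := π.comp τL
  have hσc : σ.ker ≤ Subgroup.center L := by
    intro x hx
    refine CfsgLib.Chev.central_of_perfect hperf fun y => ?_
    have h1 : τL ⁅x, y⁆ = 1 := by
      rw [map_commutatorElement, commutatorElement_eq_one_iff_commute]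
      exact (Subgroup.mem_center_iff.mp (hπc (show π (τL x) = 1 from hx)) (τL y)).symm
    exact Subgroup.mem_center_iff.mpr fun w => Subtype.ext
      (Subgroup.mem_center_iff.mp (hcW (show τW (⁅x, y⁆ : L).1 = 1 from h1)) w.1)
  have hb := bound L σ (hπ.comp hsurj) hσc hperf
  haveI : Finite A := Finite.of_surjective π hπ
  have hcardL : ∀ {B C : Type} [Group B] [Group C] [Finite B] (f : B →* C),
      Function.Surjective f → Nat.card B = Nat.card C * Nat.card f.ker := by
    intro B C _ _ _ f hf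
    rw [Subgroup.card_eq_card_quotient_mul_card_subgroup f.ker,
      Nat.card_congr (QuotientGroup.quotientKerEquivOfSurjective f hf).toEquiv]
  have e1 := hcardL σ (hπ.comp hsurj)
  rw [hcardL τL hsurj, hcardL π hπ, mul_assoc] at e1
  have e2 : Nat.card π.ker * Nat.card τL.ker = Nat.card σ.ker :=
    Nat.eq_of_mul_eq_mul_left Nat.card_pos e1
  have hbot : τL.ker = ⊥ := by
    refine Subgroup.eq_bot_of_card_le _ ?_
    rw [← e2] at hb
    have hpos : 0 < Nat.card π.ker := Nat.card_pos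
    exact Nat.le_of_mul_le_mul_left (by rwa [mul_one]) hpos
  rw [← Subgroup.map_subtype_commutator W, Subgroup.mem_map] at hzW
  obtain ⟨x, hxL, hxz⟩ := hzW
  have hx : (⟨x, hxL⟩ : L) ∈ τL.ker := Subtype.ext (show τ x.1 = 1 from by
    rw [show x.1 = z from hxz]; exact hz)
  rw [hbot, Subgroup.mem_bot] at hx
  rw [← hxz, show x = 1 from congrArg Subtype.val hx, map_one, one_pow]

/-- Commutators of a closure lie in a normalised subgroup if those of the generators do. -/
theorem commutator_closure_le {S : Set Δ} {M : Subgroup Δ}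
    (hn : S ⊆ Subgroup.normalizer (M : Set Δ)) (h : ∀ x ∈ S, ∀ y ∈ S, ⁅x, y⁆ ∈ M) :
    ⁅Subgroup.closure S, Subgroup.closure S⁆ ≤ M := by
  have hN : Subgroup.closure S ≤ Subgroup.normalizer (M : Set Δ) := (Subgroup.closure_le _).mpr hn
  have conj : ∀ g ∈ Subgroup.closure S, ∀ m ∈ M, g * m * g⁻¹ ∈ M := fun g hg m hm =>
    (Subgroup.mem_normalizer_iff.mp (hN hg) m).mp hm
  have flip : ∀ x y : Δ, ⁅x, y⁆ ∈ M → ⁅y, x⁆ ∈ M := fun x y e => by
    rw [← commutatorElement_inv]; exact inv_mem e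
  have step : ∀ x ∈ Subgroup.closure S, (∀ y ∈ S, ⁅x, y⁆ ∈ M) →
      ∀ y ∈ Subgroup.closure S, ⁅x, y⁆ ∈ M := by
    intro x hx hxS y hy
    induction hy using Subgroup.closure_induction with
    | mem y hy => exact hxS y hy
    | one => simp
    | mul a b ha hb iha ihb =>
      rw [show ⁅x, a * b⁆ = ⁅x, a⁆ * (a * ⁅x, b⁆ * a⁻¹) by
        simp only [commutatorElement_def]; group]
      exact mul_mem iha (conj a ha _ ihb)
    | inv a ha iha =>
      rw [show ⁅x, a⁻¹⁆ = a⁻¹ * ⁅x, a⁆⁻¹ * a⁻¹⁻¹ by simp only [commutatorElement_def]; group]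
      exact conj _ (inv_mem ha) _ (inv_mem iha)
  rw [Subgroup.commutator_le]
  intro x hx y hy
  refine step x hx (fun y' hy' => flip y' x ?_) y hy
  exact step y' (Subgroup.subset_closure hy') (h y' hy') x hx

/-- The commutators of `s` with the preimage of `P`. -/
def sec (τ : Δ →* G) (P : Subgroup G) (s : Δ) : Subgroup Δ :=
  Subgroup.closure {d | ∃ a, τ a ∈ P ∧ ⁅s, a⁆ = d}

/-- an abelian group of exponent 3 with commutative preimage, inverted by an element -/
structure Inverted (τ : Δ →* G) (P : Subgroup G) (s : Δ) : Prop where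
  cube : ∀ x ∈ P, x ^ 3 = 1
  comm : ∀ a b, τ a ∈ P → τ b ∈ P → Commute a b
  inv : ∀ x ∈ P, τ s * x * (τ s)⁻¹ = x⁻¹

variable {P : Subgroup G} {s : Δ}

theorem Inverted.comm_image (I : Inverted τ P s) {a : Δ} (ha : τ a ∈ P) : τ ⁅s, a⁆ = τ a := by
  rw [map_commutatorElement, commutatorElement_def, I.inv _ ha, ← mul_inv_rev,
    inv_eq_iff_mul_eq_one]
  calc τ a * τ a * τ a = τ a ^ 3 := by rw [pow_succ, pow_two]
    _ = 1 := I.cube _ ha

theorem Inverted.mem_sec (I : Inverted τ P s) {d : Δ} :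
    d ∈ sec τ P s ↔ ∃ a, τ a ∈ P ∧ ⁅s, a⁆ = d := by
  refine ⟨fun hd => ?_, fun h => Subgroup.subset_closure h⟩
  induction hd using Subgroup.closure_induction with
  | mem d hd => exact hd
  | one => exact ⟨1, by rw [map_one]; exact one_mem P, by simp⟩
  | mul d d' _ _ ih ih' =>
    obtain ⟨a, ha, rfl⟩ := ih
    obtain ⟨b, hb, rfl⟩ := ih'
    refine ⟨a * b, by rw [map_mul]; exact mul_mem ha hb, ?_⟩
    have hcm : Commute a ⁅s, b⁆ := I.comm _ _ ha (by rw [I.comm_image hb]; exact hb)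
    calc ⁅s, a * b⁆ = ⁅s, a⁆ * (a * ⁅s, b⁆ * a⁻¹) := by simp only [commutatorElement_def]; group
      _ = _ := by rw [hcm.eq, mul_inv_cancel_right]
  | inv d _ ih =>
    obtain ⟨a, ha, rfl⟩ := ih
    refine ⟨a⁻¹, by rw [map_inv]; exact inv_mem ha, ?_⟩
    have hcm : Commute a ⁅s, a⁆⁻¹ := I.comm _ _ ha (by
      rw [map_inv, I.comm_image ha]; exact inv_mem ha)
    calc ⁅s, a⁻¹⁆ = a⁻¹ * ⁅s, a⁆⁻¹ * a := by simp only [commutatorElement_def]; group
      _ = _ := by rw [mul_assoc, ← hcm.eq, inv_mul_cancel_left]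

theorem Inverted.map_mem (I : Inverted τ P s) {d : Δ} (hd : d ∈ sec τ P s) : τ d ∈ P := by
  obtain ⟨a, ha, rfl⟩ := I.mem_sec.mp hd
  rw [I.comm_image ha]; exact ha

theorem Inverted.commute (I : Inverted τ P s) {d d' : Δ} (hd : d ∈ sec τ P s)
    (hd' : d' ∈ sec τ P s) : Commute d d' := I.comm _ _ (I.map_mem hd) (I.map_mem hd')

theorem Inverted.inj (I : Inverted τ P s) (hc : τ.ker ≤ Subgroup.center Δ) {d : Δ}
    (hd : d ∈ sec τ P s) (h : τ d = 1) : d = 1 := by
  obtain ⟨a, ha, rfl⟩ := I.mem_sec.mp hd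
  rw [I.comm_image ha] at h
  rw [commutatorElement_eq_one_iff_commute]
  exact Subgroup.mem_center_iff.mp (hc h) s

theorem Inverted.exists_lift (I : Inverted τ P s) (hs : Function.Surjective τ) {x : G} (hx : x ∈ P) :
    ∃ d ∈ sec τ P s, τ d = x := by
  obtain ⟨a, rfl⟩ := hs x
  exact ⟨⁅s, a⁆, I.mem_sec.mpr ⟨a, hx, rfl⟩, I.comm_image hx⟩

theorem Inverted.normalises (I : Inverted τ P s) (hc : τ.ker ≤ Subgroup.center Δ) {g : Δ}
    (hn : ∀ x ∈ P, τ g * x * (τ g)⁻¹ ∈ P) (hg : Commute (τ g) (τ s)) :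
    g ∈ Subgroup.normalizer (sec τ P s : Set Δ) := by
  refine Subgroup.mem_normalizer_fintype ?_
  intro d hd
  obtain ⟨a, ha, rfl⟩ := I.mem_sec.mp hd
  refine I.mem_sec.mpr ⟨g * a * g⁻¹, ?_, ?_⟩
  · rw [map_mul, map_mul, map_inv]; exact hn _ ha
  · rw [CfsgLib.Schur.commutatorElement_congr τ hc (a := s) (a' := g * s * g⁻¹)
      (b := g * a * g⁻¹) (b' := g * a * g⁻¹) (by
        rw [map_mul, map_mul, map_inv, hg.eq, mul_inv_cancel_right]) rfl]
    simp only [commutatorElement_def]; group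

/-- Two inverted abelian groups with commuting complements: the kernel part of the derived
preimage has exponent two. -/
theorem three_kill (hs : Function.Surjective τ) (hc : τ.ker ≤ Subgroup.center Δ)
    {E A : Subgroup G} {s r sA : G}
    (hEc : ∀ x ∈ E, x ^ 3 = 1) (hAc : ∀ x ∈ A, x ^ 3 = 1)
    (hE : ∀ a b, τ a ∈ E → τ b ∈ E → Commute a b) (hA : ∀ a b, τ a ∈ A → τ b ∈ A → Commute a b)
    (hEi : ∀ x ∈ E, s * x * s⁻¹ = x⁻¹) (hAi : ∀ x ∈ A, sA * x * sA⁻¹ = x⁻¹)
    (hnE : ∀ g, g = r ∨ g ∈ A → ∀ x ∈ E, g * x * g⁻¹ ∈ E) (hnA : ∀ x ∈ A, r * x * r⁻¹ ∈ A)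
    (hsA : ∀ x ∈ A, Commute s x) (hsr : Commute s r) (hrsA : Commute r sA) (hssA : Commute s sA)
    (hs2 : s * s = 1) (hdis : E ⊓ A = ⊥) {U : Subgroup G}
    (hU : U ≤ Subgroup.closure ((E : Set G) ∪ (A : Set G) ∪ {s, r})) :
    ∀ z ∈ τ.ker, z ∈ ⁅U.comap τ, U.comap τ⁆ → z ^ 2 = 1 := by
  intro z hz hzW
  obtain ⟨s', hs'⟩ := hs s
  obtain ⟨r', hr'⟩ := hs r
  obtain ⟨v, hv⟩ := hs sA
  have IE : Inverted τ E s' := ⟨hEc, hE, by rw [hs']; exact hEi⟩
  have IA : Inverted τ A v := ⟨hAc, hA, by rw [hv]; exact hAi⟩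
  set KE := sec τ E s'
  set KA := sec τ A v
  set c := ⁅s', r'⁆
  have hck : c ∈ τ.ker := by
    show τ c = 1
    simp only [c, map_commutatorElement, hs', hr', commutatorElement_eq_one_iff_commute]
    exact hsr
  have hcz := Subgroup.mem_center_iff.mp (hc hck)
  have hc2 : c * c = 1 := by
    have hs2' : s' * s' ∈ Subgroup.center Δ := hc (by
      show τ (s' * s') = 1
      rw [map_mul, hs', hs2])
    have e : ⁅s' * s', r'⁆ = 1 :=
      commutatorElement_eq_one_iff_commute.mpr (Subgroup.mem_center_iff.mp hs2' r').symm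
    rw [show ⁅s' * s', r'⁆ = s' * c * s'⁻¹ * c by simp only [c, commutatorElement_def]; group,
      hcz s', mul_inv_cancel_right] at e
    exact e
  set M := (KE ⊔ KA) ⊔ Subgroup.zpowers c
  set S : Set Δ := ((KE : Set Δ) ∪ KA) ∪ {s', r'} ∪ (τ.ker : Set Δ)
  have nEA : KA ≤ Subgroup.normalizer (KE : Set Δ) := fun d hd =>
    IE.normalises hc (hnE _ (Or.inr (IA.map_mem hd))) (by rw [hs']; exact (hsA _ (IA.map_mem hd)).symm)
  have nsE : s' ∈ Subgroup.normalizer (KE : Set Δ) := IE.normalises hc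
    (fun x hx => by rw [hs', hEi x hx]; exact inv_mem hx) (Commute.refl _)
  have nrE : r' ∈ Subgroup.normalizer (KE : Set Δ) :=
    IE.normalises hc (by rw [hr']; exact hnE r (Or.inl rfl)) (by rw [hr', hs']; exact hsr.symm)
  have nsA : s' ∈ Subgroup.normalizer (KA : Set Δ) := IA.normalises hc
    (fun x hx => by rw [hs', (hsA x hx).eq, mul_inv_cancel_right]; exact hx)
    (by rw [hs', hv]; exact hssA)
  have nrA : r' ∈ Subgroup.normalizer (KA : Set Δ) :=
    IA.normalises hc (by rw [hr']; exact hnA) (by rw [hr', hv]; exact hrsA)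
  have central : ∀ k ∈ τ.ker, ∀ N : Subgroup Δ, k ∈ Subgroup.normalizer (N : Set Δ) :=
    fun k hk N => Subgroup.mem_normalizer_fintype fun d hd => by
      rw [← Subgroup.mem_center_iff.mp (hc hk) d, mul_inv_cancel_right]
      exact hd
  have ncz : ∀ g, g ∈ Subgroup.normalizer (Subgroup.zpowers c : Set Δ) := fun g =>
    Subgroup.mem_normalizer_fintype fun d hd => by
      obtain ⟨i, rfl⟩ := Subgroup.mem_zpowers_iff.mp hd
      rw [((show Commute g c from hcz g).zpow_right i).eq, mul_inv_cancel_right]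
      exact hd
  have hN : S ⊆ Subgroup.normalizer (M : Set Δ) := by
    intro g hg
    refine Subgroup.mem_normalizer_fintype fun d hd => ?_
    have hKEA : ∀ d ∈ KE ⊔ KA, g * d * g⁻¹ ∈ M := by
      rcases hg with ((hg | hg) | hg) | hg
      · intro d hd
        have hgM : g ∈ M := Subgroup.mem_sup_left (Subgroup.mem_sup_left hg)
        exact mul_mem (mul_mem hgM (Subgroup.mem_sup_left hd)) (inv_mem hgM)
      · intro d hd
        have hgM : g ∈ M := Subgroup.mem_sup_left (Subgroup.mem_sup_right hg)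
        exact mul_mem (mul_mem hgM (Subgroup.mem_sup_left hd)) (inv_mem hgM)
      all_goals
        have hgn : g ∈ Subgroup.normalizer (KE : Set Δ) ∧ g ∈ Subgroup.normalizer (KA : Set Δ) := by
          first
            | exact ⟨central g hg _, central g hg _⟩
            | (rcases hg with rfl | rfl
               exacts [⟨nsE, nsA⟩, ⟨nrE, nrA⟩])
        intro d hd
        have h1 : (KE ⊔ KA).map (MulAut.conj g).toMonoidHom ≤ KE ⊔ KA := by
          rw [Subgroup.map_sup]
          refine sup_le ?_ ?_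
          · rintro _ ⟨x, hx, rfl⟩
            exact Subgroup.mem_sup_left ((Subgroup.mem_normalizer_iff.mp hgn.1 x).mp hx)
          · rintro _ ⟨x, hx, rfl⟩
            exact Subgroup.mem_sup_right ((Subgroup.mem_normalizer_iff.mp hgn.2 x).mp hx)
        exact Subgroup.mem_sup_left (h1 (Subgroup.mem_map_of_mem _ hd))
    have h2 : M.map (MulAut.conj g).toMonoidHom ≤ M := by
      rw [Subgroup.map_sup]
      refine sup_le ?_ ?_
      · rintro _ ⟨x, hx, rfl⟩; exact hKEA x hx
      · rintro _ ⟨x, hx, rfl⟩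
        exact Subgroup.mem_sup_right ((Subgroup.mem_normalizer_iff.mp (ncz g) x).mp hx)
    exact h2 (Subgroup.mem_map_of_mem _ hd)
  have inKE : ∀ {d}, d ∈ KE → d ∈ M := fun h => Subgroup.mem_sup_left (Subgroup.mem_sup_left h)
  have inKA : ∀ {d}, d ∈ KA → d ∈ M := fun h => Subgroup.mem_sup_left (Subgroup.mem_sup_right h)
  have byNorm : ∀ {K : Subgroup Δ} {g d : Δ}, g ∈ Subgroup.normalizer (K : Set Δ) → d ∈ K →
      ⁅g, d⁆ ∈ K ∧ ⁅d, g⁆ ∈ K := fun {K g d} hg hd => by
    have h1 : ⁅g, d⁆ ∈ K := by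
      rw [commutatorElement_def]
      exact mul_mem ((Subgroup.mem_normalizer_iff.mp hg d).mp hd) (inv_mem hd)
    exact ⟨h1, by rw [← commutatorElement_inv]; exact inv_mem h1⟩
  have hpair : ∀ x ∈ S, ∀ y ∈ S, ⁅x, y⁆ ∈ M := by
    have triv : ∀ x y : Δ, Commute x y → ⁅x, y⁆ ∈ M := fun x y h => by
      rw [commutatorElement_eq_one_iff_commute.mpr h]; exact one_mem M
    have hcM : c ∈ M := Subgroup.mem_sup_right (Subgroup.mem_zpowers c)
    have kerc : ∀ k ∈ τ.ker, ∀ y : Δ, Commute k y := fun k hk y =>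
      (Subgroup.mem_center_iff.mp (hc hk) y).symm
    rintro x (((hx | hx) | (rfl | rfl)) | hx) y (((hy | hy) | (rfl | rfl)) | hy)
    all_goals first
      | exact triv _ _ (kerc _ hx _)
      | exact triv _ _ (kerc _ hy _).symm
      | exact triv _ _ (Commute.refl _)
      | exact triv _ _ (IE.commute hx hy)
      | exact triv _ _ (IA.commute hx hy)
      | exact inKE (byNorm (nEA hy) hx).2
      | exact inKE (byNorm (nEA hx) hy).1
      | exact inKE (byNorm nsE hx).2
      | exact inKE (byNorm nsE hy).1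
      | exact inKE (byNorm nrE hx).2
      | exact inKE (byNorm nrE hy).1
      | exact inKA (byNorm nsA hx).2
      | exact inKA (byNorm nsA hy).1
      | exact inKA (byNorm nrA hx).2
      | exact inKA (byNorm nrA hy).1
      | exact hcM
      | (rw [← commutatorElement_inv]; exact inv_mem hcM)
  have hWle : U.comap τ ≤ Subgroup.closure S := by
    intro d hd
    have key : ∀ x ∈ Subgroup.closure ((E : Set G) ∪ (A : Set G) ∪ {s, r}),
        x ∈ (Subgroup.closure S).map τ := by
      refine fun x hx => ((Subgroup.closure_le _).mpr ?_) hx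
      intro y hy
      have put : ∀ d ∈ S, τ d ∈ ((Subgroup.closure S).map τ : Set G) := fun d hd =>
        Subgroup.mem_map_of_mem τ (Subgroup.subset_closure hd)
      rcases hy with (hy | hy) | (rfl | rfl)
      · obtain ⟨d, hd, rfl⟩ := IE.exists_lift hs hy
        exact put d (Or.inl (Or.inl (Or.inl hd)))
      · obtain ⟨d, hd, rfl⟩ := IA.exists_lift hs hy
        exact put d (Or.inl (Or.inl (Or.inr hd)))
      · exact hs' ▸ put s' (Or.inl (Or.inr (Or.inl rfl)))
      · exact hr' ▸ put r' (Or.inl (Or.inr (Or.inr rfl)))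
    obtain ⟨e, he, hed⟩ := key (τ d) (hU hd)
    have hk : e⁻¹ * d ∈ τ.ker := by
      rw [MonoidHom.mem_ker, map_mul, map_inv, hed, inv_mul_cancel]
    have h2 := mul_mem he (Subgroup.subset_closure (k := S) (Or.inr hk))
    rwa [mul_inv_cancel_left] at h2
  have hzM : z ∈ M :=
    (Subgroup.commutator_mono hWle hWle).trans (commutator_closure_le hN hpair) hzW
  have hm := hzM
  rw [← SetLike.mem_coe, Subgroup.coe_mul_of_right_le_normalizer_left (KE ⊔ KA) (Subgroup.zpowers c)
    (fun d hd => by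
      obtain ⟨i, rfl⟩ := Subgroup.mem_zpowers_iff.mp hd
      exact central _ (zpow_mem hck i) _), Set.mem_mul] at hm
  obtain ⟨n, hn, d, hd, rfl⟩ := hm
  obtain ⟨i, rfl⟩ := Subgroup.mem_zpowers_iff.mp hd
  have hn' : τ n = 1 := by
    have h1 : τ (n * c ^ i) = 1 := hz
    rwa [map_mul, map_zpow, show τ c = 1 from hck, one_zpow, mul_one] at h1
  have hn1 : n = 1 := by
    rw [SetLike.mem_coe, ← SetLike.mem_coe,
      Subgroup.coe_mul_of_right_le_normalizer_left KE KA nEA, Set.mem_mul] at hn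
    obtain ⟨a, ha, b, hb, rfl⟩ := hn
    rw [map_mul, mul_eq_one_iff_eq_inv] at hn'
    have hmem : τ a ∈ E ⊓ A :=
      Subgroup.mem_inf.mpr ⟨IE.map_mem ha, by rw [hn']; exact inv_mem (IA.map_mem hb)⟩
    rw [hdis, Subgroup.mem_bot] at hmem
    rw [hmem, eq_comm, inv_eq_one] at hn'
    rw [IE.inj hc ha hmem, IA.inj hc hb hn', one_mul]
  rw [hn1, one_mul, ← zpow_natCast, ← zpow_mul, mul_comm, zpow_mul, zpow_natCast, pow_two, hc2,
    one_zpow]

end CfsgLib.LyCent
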