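import Cfsg.Agent.Lib.LyCent.Rels

/-!
Kernel checks of the definitions and of the relations.
-/

set_option autoImplicit false
set_option Elab.async false

namespace CfsgLib.LyCent

theorem defs0 : ((List.range 6).all fun k => defOK defWords defVals (0 + k)) = true := by decide +kernel

theorem defs1 : ((List.range 4).all fun k => defOK defWords defVals (6 + k)) = true := by decide +kernel

theorem defs2 : ((List.range 7).all fun k => defOK defWords defVals (10 + k)) = true := by decide +kernel

theorem defs3 : ((List.range 6).all fun k => defOK defWords defVals (17 + k)) = true := by decide +kernel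

theorem defs4 : ((List.range 12).all fun k => defOK defWords defVals (23 + k)) = true := by decide +kernel

theorem defs5 : ((List.range 6).all fun k => defOK defWords defVals (35 + k)) = true := by decide +kernel

theorem defs6 : ((List.range 8).all fun k => defOK defWords defVals (41 + k)) = true := by decide +kernel

theorem defs7 : ((List.range 5).all fun k => defOK defWords defVals (49 + k)) = true := by decide +kernel

theorem rels0 :
    ((List.range 42).all fun k => relOK defVals keyPos (rels.getD (0 + k) ([], []))) = true := by
  decide +kernel

theorem rels1 :
    ((List.range 8).all fun k => relOK defVals keyPos (rels.getD (42 + k) ([], []))) = true := by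
  decide +kernel

theorem rels2 :
    ((List.range 6).all fun k => relOK defVals keyPos (rels.getD (50 + k) ([], []))) = true := by
  decide +kernel

theorem rels3 :
    ((List.range 4).all fun k => relOK defVals keyPos (rels.getD (56 + k) ([], []))) = true := by
  decide +kernel

theorem rels4 :
    ((List.range 2).all fun k => relOK defVals keyPos (rels.getD (60 + k) ([], []))) = true := by
  decide +kernel

theorem rels5 :
    ((List.range 14).all fun k => relOK defVals keyPos (rels.getD (62 + k) ([], []))) = true := by
  decide +kernel

theorem rels6 :
    ((List.range 25).all fun k => relOK defVals keyPos (rels.getD (76 + k) ([], []))) = true := by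
  decide +kernel

theorem rels7 :
    ((List.range 17).all fun k => relOK defVals keyPos (rels.getD (101 + k) ([], []))) = true := by
  decide +kernel

theorem offs_ok : (offs.all fun p => offOK defVals keyPos p) = true := by decide +kernel

theorem defs_ok : ∀ k < defWords.length, defOK defWords defVals k = true := by
  intro k hk
  have hl : defWords.length = 54 := rfl
  by_cases h0 : k < 6
  · have h := List.all_eq_true.mp defs0 (k - 0) (List.mem_range.mpr (by omega))
    rwa [show 0 + (k - 0) = k by omega] at h
  by_cases h1 : k < 10
  · have h := List.all_eq_true.mp defs1 (k - 6) (List.mem_range.mpr (by omega))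
    rwa [show 6 + (k - 6) = k by omega] at h
  by_cases h2 : k < 17
  · have h := List.all_eq_true.mp defs2 (k - 10) (List.mem_range.mpr (by omega))
    rwa [show 10 + (k - 10) = k by omega] at h
  by_cases h3 : k < 23
  · have h := List.all_eq_true.mp defs3 (k - 17) (List.mem_range.mpr (by omega))
    rwa [show 17 + (k - 17) = k by omega] at h
  by_cases h4 : k < 35
  · have h := List.all_eq_true.mp defs4 (k - 23) (List.mem_range.mpr (by omega))
    rwa [show 23 + (k - 23) = k by omega] at h
  by_cases h5 : k < 41
  · have h := List.all_eq_true.mp defs5 (k - 35) (List.mem_range.mpr (by omega))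
    rwa [show 35 + (k - 35) = k by omega] at h
  by_cases h6 : k < 49
  · have h := List.all_eq_true.mp defs6 (k - 41) (List.mem_range.mpr (by omega))
    rwa [show 41 + (k - 41) = k by omega] at h
  by_cases h7 : k < 54
  · have h := List.all_eq_true.mp defs7 (k - 49) (List.mem_range.mpr (by omega))
    rwa [show 49 + (k - 49) = k by omega] at h
  omega

theorem rels_getD : ∀ k < 118, relOK defVals keyPos (rels.getD k ([], [])) = true := by
  intro k hk
  by_cases h0 : k < 42
  · have h := List.all_eq_true.mp rels0 (k - 0) (List.mem_range.mpr (by omega))
    rwa [show 0 + (k - 0) = k by omega] at h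
  by_cases h1 : k < 50
  · have h := List.all_eq_true.mp rels1 (k - 42) (List.mem_range.mpr (by omega))
    rwa [show 42 + (k - 42) = k by omega] at h
  by_cases h2 : k < 56
  · have h := List.all_eq_true.mp rels2 (k - 50) (List.mem_range.mpr (by omega))
    rwa [show 50 + (k - 50) = k by omega] at h
  by_cases h3 : k < 60
  · have h := List.all_eq_true.mp rels3 (k - 56) (List.mem_range.mpr (by omega))
    rwa [show 56 + (k - 56) = k by omega] at h
  by_cases h4 : k < 62
  · have h := List.all_eq_true.mp rels4 (k - 60) (List.mem_range.mpr (by omega))
    rwa [show 60 + (k - 60) = k by omega] at h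
  by_cases h5 : k < 76
  · have h := List.all_eq_true.mp rels5 (k - 62) (List.mem_range.mpr (by omega))
    rwa [show 62 + (k - 62) = k by omega] at h
  by_cases h6 : k < 101
  · have h := List.all_eq_true.mp rels6 (k - 76) (List.mem_range.mpr (by omega))
    rwa [show 76 + (k - 76) = k by omega] at h
  by_cases h7 : k < 118
  · have h := List.all_eq_true.mp rels7 (k - 101) (List.mem_range.mpr (by omega))
    rwa [show 101 + (k - 101) = k by omega] at h
  omega

theorem rels_len : rels.length = 118 := by decide +kernel

end CfsgLib.LyCent
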