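import Mathlib.Data.List.Basic

/-!
Programs for elements of centralisers in the presented Lyons group, and the coordinates of
their conjugates.
-/

set_option autoImplicit false
set_option linter.style.longLine false

namespace CfsgLib.LyCent

/-- each word uses the twelve letters and the values of the earlier words, numbered from 12 -/
def defWords : List (List ℕ) := [
  [1,1,1,1],
  [2,5,3,2,11,11,11,2,12,3,10,10,10,3,2,4,3,12],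
  [7,3,5,7,2,5,12,4,3,6,4,2,6,12,7,3,5,7,2,5,12,4,3,6,4,2,6,12],
  [7,3,5,7,2,5,12,4,3,6,4,2,6,12,14,7,3,5,7,2,5],
  [4,0,5,3,3,7,4,1,5,12,4,0,5,6,2,2,4,1,5,12],
  [2,5,0,11,7,2,6,4,0,3,1,12,0,2,1,5,7,3,6,10,1,4,3,12],
  [15,17,17,2,5,0,11,7,2,6,4,0,3,1,15,17,17,2,5,0,11,7,2,6,4,0,3,1],
  [15,17,17,2,5,0,11,7,2,6,4,0,3,1,18,15,17,17,2,5,0,11,7,2,6,4,0,3,1,18],
  [15,17,17,2,5,0,11,7,2,6,4,0,3,1,19,15,17,17,2,5,0,11,7,2,6,4,0,3,1,19],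
  [16,16,16,16,16,16,16,16,16,16,16,16,20,16,16,16,16,16,16,16,16,16,16,16,16],
  [13,13,2,5,3,2,11,11,11,2,15,21,15,3,10,10,10,3],
  [3,22,2],
  [23,23],
  [20,20],
  [3,3,6,5,5,3,0,12,1,2,4,4,7,2,2,12,3,3,6,5,5,3,0,12,1,2,4,4,7,2,2,12],
  [16,16,16,16,16,16,16,16,16,16,16,16,25,16,16,16,16,16,16,16,16,16,16,16,16],
  [13,13,2,5,3,2,11,11,11,2,15,27,15,3,10,10,10,3],
  [12,3,3,6,5,5,3,0,12,1,2,4,4,7,2,2,12,3,3,6,5,5,3,0,12,1,2,4,4,7,2,2],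
  [26,3,3,6,5,5,3,0,28,1,2,4,4,7,2,2,29],
  [30,30],
  [2,6,1,11,11,5,5,4,5,5,12,5,4,5,5,10,10,0,7,3,12],
  [12,2,6,1,11,11,5,5,4,5,5,12,5,4,5,5,10,10,0,7,3],
  [32,32,2,6,1,11,11,5,5,4,5,5,21,5,4,5,5,10,10,0,7,3,33,33],
  [13,13,2,5,3,2,11,11,11,2,34,3,10,10,10,3,0],
  [1,35],
  [36,36],
  [1,20,0],
  [38,38],
  [34,34],
  [12,24,25,31,37,39,25,28,25,25,40,25,25,21,25,39,25],
  [12,2,5,0,11,7,2,6,4,0,3,1,12,0,2,1,5,7,3,6,10,1,4,3],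
  [17,17,2,5,0,11,7,2,6,4,0,3,1,7,21,6,0,2,1,5,7,3,6,10,1,4,3,42,42],
  [15,43,15],
  [44,44],
  [31,25,24,39,25,37,40,25,45,25,25,28,40,25,25,21,39],
  [4,1,1,5,11,6,11,4,11,7,12,6,10,5,10,7,10,4,0,0,5],
  [41,12,40,25,46,41,12,40,25,46,47,41,12,40,25,46,41,12,40,25,46,47],
  [48,48,48,48,4,1,1,5,11,6,11,4,11,7,20,22,20,27],
  [47,41,12,40,25,46,41,12,40,25,46,47,41,12,40,25,46,41,12,40,25,46],
  [49,6,10,5,10,7,10,4,0,0,5,50,50,50,50],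
  [21,25,28,25,6,10,5,10,7,10,4,0,0,5,50,50,50,50],
  [48,48,48,48,4,1,1,5,11,6,11,4,11,7,52],
  [25,38,20,27,20,34,20,22,20,44,20,36,20,23,20,30,20],
  [25,31,25,24,25,37,25,45,25,28,25,40,25,21,25,39,20],
  [1,1,20,20,27,20,34,20,38,22,44,20,27,23,20,27,30],
  [54,56,20,44,56,20,44],
  [31,21,25,24,21,25,45,28,39,25,40,25,21,25,25,39,25],
  [45,25,58,45,25,58,55],
  [54,54,56,20,44,56,20,44,54,56,20,44,56,20,44,56,20,44],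
  [60,54,56,20,44,54],
  [45,25,58,54,54,56,20,44,56,20,44,54,56,20,44,56,20,44],
  [55,45,25,58,55,62],
  [54,56,20,44,54],
  [55,45,25,58,55]]

/-- places of the named elements and of their inverses: `e`, `g`, `a₁`, `a₂`, `r`, `t`, `y₀, …, y₈` -/
def keyPos : List ℕ :=
  [51, 53, 54, 55, 57, 59, 61, 63, 64, 65, 12, 12, 25, 20, 39, 38, 21, 27, 40, 34, 28, 22, 45, 44, 37, 36, 24, 23, 31, 30]

/-- coordinates of the conjugates of `e₀, …, e₄` -/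
def rowG : List (List ℕ) := [[0, 1, 0, 0, 0], [0, 0, 1, 0, 0], [0, 0, 0, 1, 0], [0, 0, 0, 0, 1], [1, 0, 2, 1, 2]]

/-- coordinates of the conjugates of `e₀, …, e₄` -/
def rowA : List (List ℕ) := [[0, 1, 0, 0, 0], [0, 1, 2, 1, 1], [0, 0, 0, 0, 1], [0, 0, 0, 1, 0], [1, 2, 1, 1, 0]]

/-- coordinates of the conjugates of `e₀, …, e₄` -/
def rowB : List (List ℕ) := [[0, 0, 1, 0, 0], [0, 0, 0, 0, 1], [1, 1, 0, 2, 2], [0, 0, 0, 1, 0], [2, 0, 1, 2, 1]]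

/-- coordinates of the conjugates of `e₀, …, e₄` -/
def rowR : List (List ℕ) := [[0, 0, 2, 0, 0], [2, 2, 2, 0, 2], [0, 2, 1, 2, 2], [1, 2, 2, 2, 1], [0, 0, 0, 0, 2]]

/-- coordinates of the conjugates of `a₁, a₂` under `r` -/
def rowRA : List (List ℕ) := [[2, 1], [2, 2]]

/-- entries where `e`, `y₀`, `t` differ from the unit matrix -/
def offPos : List ℕ := [0, 3, 112]

end CfsgLib.LyCent
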