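import Cfsg.Agent.Lib.LyCent.Check

/-!
The named elements of the presented Lyons group and their relations.
-/

set_option autoImplicit false

namespace CfsgLib.LyCent

open CfsgLib.LyPres CfsgLib.CosetEnum

theorem list_mat : List.Forall₂ IsMat (nInit ++ defVals.map spread) (gStep defWords gInit) :=
  defs_mat (by decide +kernel) defs_ok

theorem rel_of_mem {l m : List ℕ} (h : (l, m) ∈ rels) : prodW el l = prodW el m := by
  obtain ⟨k, hk, e⟩ := List.getElem_of_mem h
  have hr := rels_getD k (rels_len ▸ hk)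
  rw [List.getD_eq_getElem _ _ hk, e] at hr
  exact relOK_spec list_mat hr

/-- `e`, an element of order three -/
noncomputable def E0 : G := el 0
/-- `g`, an element normalising the elementary abelian group of order 243 -/
noncomputable def Eg : G := el 2
/-- `a₁` -/
noncomputable def A1 : G := el 4
/-- `a₂` -/
noncomputable def A2 : G := el 6
/-- `r` -/
noncomputable def Er : G := el 8
/-- the involution `t` -/
noncomputable def T : G := el 10
/-- `yᵢ`, over the three-cycles -/
noncomputable def Y (i : ℕ) : G := el (12 + 2 * i)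

theorem el_inv (k : ℕ) (hk : k < 15) : el (2 * k + 1) = (el (2 * k))⁻¹ := by
  have hm : ∀ k < 15, ([2 * k, 2 * k + 1], ([] : List ℕ)) ∈ rels := by decide +kernel
  have h := rel_of_mem (hm k hk)
  simp only [prodW_cons, prodW_nil, mul_one] at h
  exact (inv_eq_of_mul_eq_one_right h).symm

theorem el_1 : el 1 = E0⁻¹ := el_inv 0 (by norm_num)
theorem el_3 : el 3 = Eg⁻¹ := el_inv 1 (by norm_num)
theorem el_5 : el 5 = A1⁻¹ := el_inv 2 (by norm_num)
theorem el_7 : el 7 = A2⁻¹ := el_inv 3 (by norm_num)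
theorem el_9 : el 9 = Er⁻¹ := el_inv 4 (by norm_num)
theorem el_11 : el 11 = T⁻¹ := el_inv 5 (by norm_num)

/-- the conjugate of `e` by the `k`th power of `g` -/
noncomputable def ek (k : ℕ) : G := (Eg ^ k)⁻¹ * E0 * Eg ^ k

theorem prodW_replicate (c : ℕ) : ∀ n : ℕ, prodW el (List.replicate n c) = el c ^ n
  | 0 => by simp
  | n + 1 => by rw [List.replicate_succ, prodW_cons, prodW_replicate c n, pow_succ']

theorem prodW_eW (k : ℕ) : prodW el (eW k) = ek k := by
  rw [eW, prodW_append, prodW_cons, prodW_replicate, prodW_replicate, el_3, inv_pow, ek, mul_assoc]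
  rfl

/-- the product of the `ek` with the given exponents -/
noncomputable def eVec (v : List ℕ) : G :=
  ek 0 ^ v.getD 0 0 * ek 1 ^ v.getD 1 0 * ek 2 ^ v.getD 2 0 * ek 3 ^ v.getD 3 0 * ek 4 ^ v.getD 4 0

theorem prodW_flat (w : List ℕ) : ∀ n : ℕ, prodW el (List.replicate n w).flatten = prodW el w ^ n
  | 0 => by simp
  | n + 1 => by rw [List.replicate_succ, List.flatten_cons, prodW_append, prodW_flat w n, pow_succ']

theorem prodW_vW (v : List ℕ) : prodW el (vW v) = eVec v := by
  simp only [vW, eVec, List.range, List.range.loop, List.flatMap_cons, List.flatMap_nil,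
    List.append_nil, prodW_append, prodW_flat, prodW_eW, mul_assoc]

theorem E0_cube : E0 * E0 * E0 = 1 := by
  have h := rel_of_mem (show ([0, 0, 0], ([] : List ℕ)) ∈ rels by decide +kernel)
  simpa [prodW_cons, E0, mul_assoc] using h

theorem T_sq : T * T = 1 := by
  have h := rel_of_mem (show ([10, 10], ([] : List ℕ)) ∈ rels by decide +kernel)
  simpa [prodW_cons, T] using h

theorem T_inv : T⁻¹ = T := inv_eq_of_mul_eq_one_right T_sq

theorem T_E0 : T * E0 * T = E0⁻¹ := by
  have h := rel_of_mem (show ([10, 0, 10], [1]) ∈ rels by decide +kernel)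
  simpa [prodW_cons, el_1, T, E0, mul_assoc] using h

theorem A1_cube : A1 * A1 * A1 = 1 := by
  have h := rel_of_mem (show ([4, 4, 4], ([] : List ℕ)) ∈ rels by decide +kernel)
  simpa [prodW_cons, A1, mul_assoc] using h

theorem A2_cube : A2 * A2 * A2 = 1 := by
  have h := rel_of_mem (show ([6, 6, 6], ([] : List ℕ)) ∈ rels by decide +kernel)
  simpa [prodW_cons, A2, mul_assoc] using h

theorem A_comm : Commute A1 A2 := by
  have h := rel_of_mem (show ([4, 6], [6, 4]) ∈ rels by decide +kernel)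
  simpa [prodW_cons, A1, A2, commute_iff_eq] using h

theorem r_A1 : Er⁻¹ * A1 * Er = A1 ^ 2 * A2 := by
  have h := rel_of_mem (show ([9, 4, 8], [4, 4, 6]) ∈ rels by decide +kernel)
  simpa [prodW_cons, el_9, Er, A1, A2, pow_two, mul_assoc] using h

theorem r_A2 : Er⁻¹ * A2 * Er = A1 ^ 2 * A2 ^ 2 := by
  have h := rel_of_mem (show ([9, 6, 8], [4, 4, 6, 6]) ∈ rels by decide +kernel)
  simpa [prodW_cons, el_9, Er, A1, A2, pow_two, mul_assoc] using h

theorem r4_A1 : (Er ^ 4)⁻¹ * A1 * Er ^ 4 = A1⁻¹ := by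
  have h := rel_of_mem (show ([9, 9, 9, 9, 4, 8, 8, 8, 8], [5]) ∈ rels by decide +kernel)
  simpa [prodW_cons, el_9, el_5, Er, A1, pow_succ, mul_assoc] using h

theorem r4_A2 : (Er ^ 4)⁻¹ * A2 * Er ^ 4 = A2⁻¹ := by
  have h := rel_of_mem (show ([9, 9, 9, 9, 6, 8, 8, 8, 8], [7]) ∈ rels by decide +kernel)
  simpa [prodW_cons, el_9, el_7, Er, A2, pow_succ, mul_assoc] using h

theorem T_g : Commute T Eg := by
  have h := rel_of_mem (show ([10, 2], [2, 10]) ∈ rels by decide +kernel)
  simpa [prodW_cons, T, Eg, commute_iff_eq] using h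

theorem T_A1 : Commute T A1 := by
  have h := rel_of_mem (show ([10, 4], [4, 10]) ∈ rels by decide +kernel)
  simpa [prodW_cons, T, A1, commute_iff_eq] using h

theorem T_A2 : Commute T A2 := by
  have h := rel_of_mem (show ([10, 6], [6, 10]) ∈ rels by decide +kernel)
  simpa [prodW_cons, T, A2, commute_iff_eq] using h

theorem T_r : Commute T Er := by
  have h := rel_of_mem (show ([10, 8], [8, 10]) ∈ rels by decide +kernel)
  simpa [prodW_cons, T, Er, commute_iff_eq] using h

theorem E0_ek {k : ℕ} (hk : k < 4) : Commute E0 (ek (k + 1)) := by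
  have hm : ∀ k < 4, (0 :: eW (k + 1), eW (k + 1) ++ [0]) ∈ rels := by decide +kernel
  have h := rel_of_mem (hm k hk)
  rw [prodW_cons, prodW_append, prodW_eW, prodW_cons, prodW_nil, mul_one] at h
  exact h

theorem ek_five : ek 5 = eVec [1, 0, 2, 1, 2] := by
  have h := rel_of_mem (show (eW 5, vW [1, 0, 2, 1, 2]) ∈ rels by decide +kernel)
  rwa [prodW_eW, prodW_vW] at h

theorem cj_rel (x : ℕ) (rows : List (List ℕ)) (hx : x < 15) (hm : ∀ k < 5, cjRel x rows k ∈ rels)
    {k : ℕ} (hk : k < 5) :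
    (el (2 * x))⁻¹ * ek k * el (2 * x) = eVec (rows.getD k []) := by
  have h := rel_of_mem (l := (cjRel x rows k).1) (m := (cjRel x rows k).2) (hm k hk)
  simp only [cjRel, prodW_cons, prodW_append, prodW_eW, prodW_nil, mul_one, prodW_vW,
    el_inv x hx] at h
  rwa [mul_assoc]

theorem A1_ek {k : ℕ} (hk : k < 5) : A1⁻¹ * ek k * A1 = eVec (rowA.getD k []) :=
  cj_rel 2 rowA (by norm_num) (by decide +kernel) hk

theorem A2_ek {k : ℕ} (hk : k < 5) : A2⁻¹ * ek k * A2 = eVec (rowB.getD k []) :=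
  cj_rel 3 rowB (by norm_num) (by decide +kernel) hk

theorem r_ek {k : ℕ} (hk : k < 5) : Er⁻¹ * ek k * Er = eVec (rowR.getD k []) :=
  cj_rel 4 rowR (by norm_num) (by decide +kernel) hk

theorem Y_cube {i : ℕ} (hi : i < 9) : Y i * Y i * Y i = 1 := by
  have hm : ∀ i < 9, ([12 + 2 * i, 12 + 2 * i, 12 + 2 * i], ([] : List ℕ)) ∈ rels := by decide +kernel
  have h := rel_of_mem (hm i hi)
  simpa [prodW_cons, Y, mul_assoc] using h

theorem T_Y {i : ℕ} (hi : i < 9) : Commute T (Y i) := by
  have hm : ∀ i < 9, ([10, 12 + 2 * i], [12 + 2 * i, 10]) ∈ rels := by decide +kernel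
  have h := rel_of_mem (hm i hi)
  simpa [prodW_cons, Y, T, commute_iff_eq] using h

theorem Y_pair {i j : ℕ} (hi : i < 9) (hj : j < 9) (hij : i ≠ j) :
    Y i * Y j * (Y i * Y j) = T := by
  have hall : ((List.range 9).all fun i => (List.range 9).all fun j => !(Nat.blt i j) ||
      rels.contains ([12 + 2 * i, 12 + 2 * j, 12 + 2 * i, 12 + 2 * j], [10])) = true := by
    decide +kernel
  have hm : ∀ i < 9, ∀ j < 9, i < j →
      ([12 + 2 * i, 12 + 2 * j, 12 + 2 * i, 12 + 2 * j], [10]) ∈ rels := fun i hi j hj h => by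
    have := List.all_eq_true.mp (List.all_eq_true.mp hall i (List.mem_range.mpr hi)) j
      (List.mem_range.mpr hj)
    rw [Bool.or_eq_true, Bool.not_eq_true', List.contains_iff_mem] at this
    rcases this with e | e
    · rw [← Bool.not_eq_true, Nat.blt_eq] at e; exact absurd h e
    · exact e
  have key : ∀ i j, i < 9 → j < 9 → i < j → Y i * Y j * (Y i * Y j) = T := fun i j hi hj h => by
    simpa [prodW_cons, Y, T, mul_assoc] using rel_of_mem (hm i hi j hj h)
  rcases lt_or_gt_of_ne hij with h | h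
  · exact key i j hi hj h
  · have e := key j i hj hi h
    calc Y i * Y j * (Y i * Y j) = Y i * (Y j * Y i * (Y j * Y i)) * (Y i)⁻¹ := by group
      _ = T := by rw [e, ← (T_Y hi).eq, mul_inv_cancel_right]

theorem off_ne {p : ℕ × ℕ} (hp : p ∈ offs) : el p.1 ≠ 1 :=
  offOK_spec list_mat (List.all_eq_true.mp offs_ok p hp)

theorem E0_ne : E0 ≠ 1 := off_ne (p := (0, offPos.getD 0 0)) (by decide +kernel)
theorem T_ne : T ≠ 1 := off_ne (p := (10, offPos.getD 2 0)) (by decide +kernel)
theorem Y0_ne : Y 0 ≠ 1 := off_ne (p := (12, offPos.getD 1 0)) (by decide +kernel)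

attribute [irreducible] E0 Eg A1 A2 Er T Y

end CfsgLib.LyCent
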