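import Cfsg.Agent.Lib.LyCent.Elems
import Cfsg.Agent.Lib.AltPres.Multiplier
import Cfsg.Agent.Lib.AltPres.Glue

/-!
A perfect subgroup of the presented Lyons group, a double cover of the alternating group on
eleven points.
-/

set_option autoImplicit false
set_option linter.style.haveILetI false

open scoped commutatorElement

namespace CfsgLib.LyCent

open CfsgLib.LyPres CfsgLib.AltPres

theorem exists_altHom {Q : Type} [Group Q] (y : Fin 9 → Q) (h3 : ∀ i, y i * y i * y i = 1)
    (h2 : ∀ i j, i ≠ j → y i * y j * (y i * y j) = 1) :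
    ∃ θ : alternatingGroup (Bool ⊕ Fin 9) →* Q, ∀ i, θ (cycA i) = y i := by
  classical
  let w : Fin 9 → FreeGroup (Fin 9) := fun i => .of i
  let π : FreeGroup (Fin 9) →* alternatingGroup (Bool ⊕ Fin 9) := FreeGroup.lift cycA
  let D : List (Fin 9 × Fin 9) :=
    (((Finset.univ : Finset (Fin 9 × Fin 9)).filter fun x => x.1 ≠ x.2)).toList
  let L : List (FreeGroup (Fin 9)) := (List.finRange 9).map (fun i => w i * w i * w i) ++
    D.map (fun x => w x.1 * w x.2 * (w x.1 * w x.2))
  have hπw : ∀ i, π (w i) = cycA i := fun i => by simp [π, w]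
  have hs : Function.Surjective π := by
    rw [← MonoidHom.range_eq_top, eq_top_iff, ← closure_cycA, Subgroup.closure_le]
    rintro _ ⟨i, rfl⟩
    exact ⟨w i, hπw i⟩
  have hrel : ∀ r ∈ L, (∃ i, w i * w i * w i = r) ∨ ∃ i j, i ≠ j ∧ w i * w j * (w i * w j) = r := by
    intro r hr
    simp only [L, D, List.mem_append, List.mem_map, Finset.mem_toList, Finset.mem_filter,
      Finset.mem_univ, true_and, List.mem_finRange] at hr
    rcases hr with ⟨i, rfl⟩ | ⟨x, hx, rfl⟩
    · exact Or.inl ⟨i, rfl⟩
    · exact Or.inr ⟨x.1, x.2, hx, rfl⟩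
  obtain ⟨θ, hθ⟩ := factor_of_card L π hs
    (fun r hr => by
      rcases hrel r hr with ⟨i, rfl⟩ | ⟨i, j, h, rfl⟩
      · rw [map_mul, map_mul, hπw]; exact cycA_cube i
      · rw [map_mul, map_mul, hπw, hπw]; exact cycA_pair i j h)
    (fun G _ ψ hψ hL => by
      refine card_of_family (fun i => ψ (w i)) (fun i => ?_) (fun i j hij => ?_) ?_
      · rw [← map_mul, ← map_mul]
        refine hL _ ?_
        simp only [L, List.mem_append, List.mem_map]
        exact Or.inl ⟨i, List.mem_finRange i, rfl⟩
      · rw [← map_mul, ← map_mul]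
        refine hL _ ?_
        simp only [L, List.mem_append, List.mem_map]
        exact Or.inr ⟨(i, j), by simp [D, hij], rfl⟩
      · rw [eq_top_iff]
        rintro g -
        obtain ⟨x, rfl⟩ := hψ g
        induction x using FreeGroup.induction_on with
        | C1 => simpa using one_mem _
        | of k => exact Subgroup.subset_closure ⟨k, rfl⟩
        | inv_of i ih => rw [map_inv]; exact inv_mem ih
        | mul a b ha hb => rw [map_mul]; exact mul_mem ha hb)
    Q (FreeGroup.lift y) (fun r hr => by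
      rcases hrel r hr with ⟨i, rfl⟩ | ⟨i, j, h, rfl⟩
      · simpa [w] using h3 i
      · simpa [w] using h2 i j h)
  exact ⟨θ, fun i => by rw [← hπw, hθ]; simp [w]⟩

/-- the group of the `yᵢ` -/
noncomputable def subX : Subgroup G := Subgroup.closure (Set.range fun i : Fin 9 => Y i)

theorem Y_mem (i : Fin 9) : Y i ∈ subX := Subgroup.subset_closure ⟨i, rfl⟩

/-- `yᵢ` inside -/
noncomputable def yX (i : Fin 9) : subX := ⟨Y i, Y_mem i⟩

theorem T_mem : T ∈ subX := by
  rw [← Y_pair (show 0 < 9 by norm_num) (show 1 < 9 by norm_num) (by norm_num)]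
  exact mul_mem (mul_mem (Y_mem 0) (Y_mem 1)) (mul_mem (Y_mem 0) (Y_mem 1))

/-- `t` inside -/
noncomputable def tX : subX := ⟨T, T_mem⟩

theorem closure_yX : Subgroup.closure (Set.range yX) = ⊤ := by
  refine Subgroup.map_injective subX.subtype_injective ?_
  rw [MonoidHom.map_closure, ← MonoidHom.range_eq_map, Subgroup.range_subtype, ← Set.range_comp]
  rfl

theorem tX_central : tX ∈ Subgroup.center subX := by
  rw [Subgroup.mem_center_iff]
  intro g
  have h : g ∈ Subgroup.centralizer ({tX} : Set subX) := by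
    have : Subgroup.closure (Set.range yX) ≤ Subgroup.centralizer ({tX} : Set subX) := by
      rw [Subgroup.closure_le]
      rintro _ ⟨i, rfl⟩
      rw [SetLike.mem_coe, Subgroup.mem_centralizer_singleton_iff]
      exact Subtype.ext (T_Y i.2).eq.symm
    exact this (closure_yX ▸ Subgroup.mem_top g)
  exact Subgroup.mem_centralizer_singleton_iff.mp h

theorem orderOf_tX : orderOf tX = 2 := by
  rw [orderOf_eq_prime_iff]
  refine ⟨Subtype.ext ?_, fun h => T_ne (congrArg Subtype.val h)⟩
  simp [tX, pow_two, T_sq]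

theorem perfect_subX : commutator subX = ⊤ := by
  let q : subX →* Abelianization subX := Abelianization.of
  set a : Fin 9 → Abelianization subX := fun i => q (yX i)
  have h3 : ∀ i, a i * a i * a i = 1 := fun i => by
    simp only [a, ← map_mul]
    rw [show yX i * yX i * yX i = 1 from Subtype.ext (Y_cube i.2), map_one]
  have hp : ∀ i j, i ≠ j → a i * a j * (a i * a j) = q tX := fun i j h => by
    simp only [a, ← map_mul]
    exact congrArg q (Subtype.ext (Y_pair i.2 j.2 fun e => h (Fin.ext e)))
  have inv2 : ∀ i, a i * a i = (a i)⁻¹ := fun i => eq_inv_of_mul_eq_one_left (h3 i)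
  have heq : ∀ i j, a i = a j := by
    intro i j
    obtain ⟨k, hki, hkj⟩ : ∃ k, k ≠ i ∧ k ≠ j := by
      revert i j
      decide
    have h1 := (hp i k hki.symm).trans (hp j k hkj.symm).symm
    rw [mul_mul_mul_comm, mul_mul_mul_comm (a j), mul_left_inj, inv2, inv2, inv_inj] at h1
    exact h1
  have ht : q tX = a 0 := by
    rw [← hp 0 1 (by decide), heq 1 0]
    calc a 0 * a 0 * (a 0 * a 0) = a 0 * a 0 * a 0 * a 0 := (mul_assoc _ _ _).symm
      _ = a 0 := by rw [h3, one_mul]
  have h0 : a 0 = 1 := by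
    have h2 : a 0 * a 0 = 1 := by
      rw [← ht, ← map_mul, show tX * tX = 1 from Subtype.ext T_sq, map_one]
    have h := h3 0
    rwa [h2, one_mul] at h
  have hall : ∀ x, q x = 1 := fun x => by
    have : Subgroup.closure (Set.range yX) ≤ q.ker := by
      rw [Subgroup.closure_le]
      rintro _ ⟨i, rfl⟩
      show a i = 1
      rw [heq i 0, h0]
    exact this (closure_yX ▸ Subgroup.mem_top x)
  rw [← Abelianization.ker_of, eq_top_iff]
  exact fun x _ => hall x

theorem simple_alt : IsSimpleGroup (alternatingGroup (Bool ⊕ Fin 9)) :=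
  alternatingGroup.isSimpleGroup (by simp)

/-- the map onto the alternating group -/
theorem exists_piX_cyc : ∃ π : subX →* alternatingGroup (Bool ⊕ Fin 9),
    Function.Surjective π ∧ π.ker = Subgroup.zpowers tX ∧ ∀ i, π (yX i) = cycA i := by
  have hN : (Subgroup.zpowers tX).Normal := ⟨fun x hx g => by
    have hx' := Subgroup.zpowers_le.mpr tX_central hx
    rw [Subgroup.mem_center_iff.mp hx' g, mul_inv_cancel_right]
    exact hx⟩
  haveI := hN
  let q := QuotientGroup.mk' (Subgroup.zpowers tX)
  obtain ⟨θ, hθ⟩ := exists_altHom (fun i => q (yX i))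
    (fun i => by
      rw [← map_mul, ← map_mul, show yX i * yX i * yX i = 1 from Subtype.ext (Y_cube i.2), map_one])
    (fun i j h => by
      rw [← map_mul, ← map_mul, show yX i * yX j * (yX i * yX j) = tX from
        Subtype.ext (Y_pair i.2 j.2 fun e => h (Fin.ext e))]
      exact (QuotientGroup.eq_one_iff _).mpr (Subgroup.mem_zpowers tX))
  have hsur : Function.Surjective θ := by
    rw [← MonoidHom.range_eq_top, eq_top_iff]
    rintro x -
    obtain ⟨g, rfl⟩ := QuotientGroup.mk'_surjective _ x
    have : Subgroup.closure (Set.range yX) ≤ θ.range.comap q := by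
      rw [Subgroup.closure_le]
      rintro _ ⟨i, rfl⟩
      exact ⟨cycA i, hθ i⟩
    exact this (closure_yX ▸ Subgroup.mem_top g)
  have hinj : Function.Injective θ := by
    rw [← MonoidHom.ker_eq_bot_iff]
    haveI := simple_alt
    rcases θ.normal_ker.eq_bot_or_eq_top with h | h
    · exact h
    · exfalso
      have h1 : θ (cycA 0) = 1 := MonoidHom.mem_ker.mp (h ▸ Subgroup.mem_top _)
      rw [hθ] at h1
      have h2 : yX 0 ∈ Subgroup.zpowers tX := (QuotientGroup.eq_one_iff _).mp h1
      obtain ⟨k, hk⟩ := Subgroup.mem_zpowers_iff.mp h2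
      have h4 : yX 0 * yX 0 = 1 := by
        rw [← hk, ← zpow_add, ← two_mul, zpow_mul,
          show tX ^ (2 : ℤ) = 1 by rw [zpow_two]; exact Subtype.ext T_sq, one_zpow]
      have h5 : yX 0 = 1 := by
        have h6 : yX 0 * yX 0 * yX 0 = 1 := Subtype.ext (Y_cube (by norm_num))
        rwa [h4, one_mul] at h6
      exact Y0_ne (congrArg Subtype.val h5)
  let e := MulEquiv.ofBijective θ ⟨hinj, hsur⟩
  refine ⟨e.symm.toMonoidHom.comp q, e.symm.surjective.comp (QuotientGroup.mk'_surjective _), ?_,
    fun i => e.symm_apply_eq.mpr (hθ i).symm⟩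
  ext x
  rw [MonoidHom.mem_ker, MonoidHom.comp_apply, MulEquiv.coe_toMonoidHom, MulEquiv.map_eq_one_iff]
  exact QuotientGroup.eq_one_iff x

theorem exists_piX : ∃ π : subX →* alternatingGroup (Bool ⊕ Fin 9),
    Function.Surjective π ∧ π.ker = Subgroup.zpowers tX :=
  let ⟨π, h1, h2, _⟩ := exists_piX_cyc
  ⟨π, h1, h2⟩

theorem card_altEleven : Nat.card (alternatingGroup (Bool ⊕ Fin 9)) = 19958400 := by
  haveI : Nontrivial (Bool ⊕ Fin 9) := ⟨⟨Sum.inl true, Sum.inl false, by simp⟩⟩
  have h := two_mul_card_alternatingGroup (α := Bool ⊕ Fin 9)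
  rw [Fintype.card_perm, Fintype.card_sum, Fintype.card_bool, Fintype.card_fin] at h
  rw [Nat.card_eq_fintype_card]
  have e : Nat.factorial (2 + 9) = 39916800 := by decide +kernel
  omega

theorem card_subX : Nat.card subX = 39916800 := by
  haveI := finite_G
  obtain ⟨π, hs, hk⟩ := exists_piX
  rw [Subgroup.card_eq_card_quotient_mul_card_subgroup π.ker,
    Nat.card_congr (QuotientGroup.quotientKerEquivOfSurjective π hs).toEquiv, card_altEleven, hk,
    Nat.card_zpowers, orderOf_tX]

theorem alt_bound (L : Type) [Group L] [Finite L] (σ : L →* alternatingGroup (Bool ⊕ Fin 9))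
    (hs : Function.Surjective σ) (hc : σ.ker ≤ Subgroup.center L) (hp : commutator L = ⊤) :
    Nat.card σ.ker ≤ 2 :=
  Mult.card_le_two σ hc hs (hp ▸ le_top) (Or.inr (by norm_num))

end CfsgLib.LyCent
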