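import Mathlib.Data.List.Basic

/-!
For each vector of five digits in base 3, coefficients that carry it to the first unit vector
through the powers of the companion matrix.
-/

set_option autoImplicit false

namespace CfsgLib.LyCent

/-- the coefficient vectors, coded in base 3 -/
def invCoef : List ℕ := [
  0, 1, 2, 129, 176, 211, 231, 152, 106, 43, 89, 73, 199, 181, 111, 82, 237, 93,
  77, 38, 166, 164, 186, 123, 155, 222, 92, 116, 226, 108, 179, 51, 190, 117, 159, 209,
  87, 42, 19, 99, 195, 69, 37, 9, 167, 156, 240, 134, 79, 196, 101, 31, 135, 102,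
  220, 216, 128, 234, 145, 201, 103, 137, 66, 204, 229, 120, 62, 177, 189, 41, 172, 140,
  165, 11, 75, 74, 88, 18, 171, 48, 138, 188, 15, 124, 96, 142, 147, 36, 76, 10,
  200, 113, 26, 17, 162, 125, 84, 192, 215, 39, 139, 50, 53, 60, 191, 210, 8, 130,
  29, 221, 127, 14, 153, 91, 126, 218, 27, 33, 202, 144, 65, 157, 133, 23, 83, 95,
  114, 110, 56, 3, 107, 151, 205, 122, 47, 52, 178, 61, 80, 100, 71, 185, 85, 214,
  119, 58, 160, 86, 184, 193, 174, 131, 7, 112, 180, 24, 45, 121, 228, 34, 146, 236,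
  94, 239, 21, 72, 20, 44, 183, 213, 194, 78, 70, 197, 150, 233, 4, 67, 136, 30,
  154, 13, 223, 168, 148, 141, 22, 238, 81, 68, 32, 104, 97, 149, 170, 40, 49, 173,
  224, 12, 90, 59, 118, 208, 63, 132, 242, 235, 203, 35, 105, 5, 232, 169, 143, 98,
  55, 227, 115, 225, 54, 109, 25, 182, 198, 219, 28, 217, 158, 64, 241, 6, 212, 175,
  57, 207, 161, 16, 187, 163, 46, 230, 206]

end CfsgLib.LyCent
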