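import Mathlib

/-!
Vectors of exponents for commuting elements of order three; commuting lifts.
-/

set_option autoImplicit false
set_option linter.style.haveILetI false

open scoped commutatorElement

namespace CfsgLib.LyCent

variable {G : Type} [Group G]

theorem pow_mod_three {x : G} (h : x * x * x = 1) (a : ℕ) : x ^ (a % 3) = x ^ a := by
  conv_rhs => rw [← Nat.div_add_mod a 3, pow_add, pow_mul, show x ^ 3 = 1 by
    rw [pow_succ, pow_two]; exact h, one_pow, one_mul]

/-- elements commuting pairwise generate a commutative group -/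
theorem comm_closure {S : Set G} (h : ∀ x ∈ S, ∀ y ∈ S, Commute x y) :
    ∀ x ∈ Subgroup.closure S, ∀ y ∈ Subgroup.closure S, Commute x y := by
  intro x hx y hy
  induction hx, hy using Subgroup.closure_induction₂ with
  | mem a b ha hb => exact h a ha b hb
  | one_left b hb => exact Commute.one_left b
  | one_right a ha => exact Commute.one_right a
  | mul_left a b c _ _ _ h1 h2 => exact h1.mul_left h2
  | mul_right a b c _ _ _ h1 h2 => exact h1.mul_right h2
  | inv_left a b _ _ h1 => exact h1.inv_left
  | inv_right a b _ _ h1 => exact h1.inv_right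

/-- lifts of elements generating a group commute if those of the generators do -/
theorem lifts_commute {Δ : Type} [Group Δ] {τ : Δ →* G} (hs : Function.Surjective τ)
    (hc : τ.ker ≤ Subgroup.center Δ) {S : Set G}
    (h : ∀ a b, τ a ∈ S → τ b ∈ S → Commute a b) :
    ∀ a b, τ a ∈ Subgroup.closure S → τ b ∈ Subgroup.closure S → Commute a b := by
  have hle : (Subgroup.closure S).comap τ ≤ Subgroup.closure (τ ⁻¹' S ∪ (τ.ker : Set Δ)) := by
    intro a ha
    have himg : Subgroup.closure S ≤ (Subgroup.closure (τ ⁻¹' S ∪ (τ.ker : Set Δ))).map τ := by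
      rw [Subgroup.closure_le]
      intro x hx
      obtain ⟨d, rfl⟩ := hs x
      exact Subgroup.mem_map_of_mem τ (Subgroup.subset_closure (Or.inl hx))
    obtain ⟨e, he, hea⟩ := himg ha
    have hk : e⁻¹ * a ∈ τ.ker := by
      rw [MonoidHom.mem_ker, map_mul, map_inv, hea, inv_mul_cancel]
    have h2 := mul_mem he (Subgroup.subset_closure (k := τ ⁻¹' S ∪ (τ.ker : Set Δ)) (Or.inr hk))
    rwa [mul_inv_cancel_left] at h2
  intro a b ha hb
  refine comm_closure ?_ a (hle ha) b (hle hb)
  rintro x (hx | hx) y hy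
  · rcases hy with hy | hy
    · exact h x y hx hy
    · exact Subgroup.mem_center_iff.mp (hc hy) x
  · exact (Subgroup.mem_center_iff.mp (hc hx) y).symm

theorem closure_cube {S : Set G} (hcm : ∀ x ∈ S, ∀ y ∈ S, Commute x y) (h3 : ∀ x ∈ S, x ^ 3 = 1) :
    ∀ x ∈ Subgroup.closure S, x ^ 3 = 1 := by
  intro x hx
  induction hx using Subgroup.closure_induction with
  | mem x hx => exact h3 x hx
  | one => exact one_pow 3
  | mul a b ha hb iha ihb => rw [(comm_closure hcm a ha b hb).mul_pow, iha, ihb, one_mul]
  | inv a _ ih => rw [inv_pow, ih, inv_one]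

theorem closure_inverted {S : Set G} (hcm : ∀ x ∈ S, ∀ y ∈ S, Commute x y) {s : G}
    (h : ∀ x ∈ S, s * x * s⁻¹ = x⁻¹) : ∀ x ∈ Subgroup.closure S, s * x * s⁻¹ = x⁻¹ := by
  intro x hx
  induction hx using Subgroup.closure_induction with
  | mem x hx => exact h x hx
  | one => simp
  | mul a b ha hb iha ihb =>
    calc s * (a * b) * s⁻¹ = (s * a * s⁻¹) * (s * b * s⁻¹) := by group
      _ = _ := by rw [iha, ihb, ← mul_inv_rev, (comm_closure hcm b hb a ha).eq]
  | inv a _ ih =>
    calc s * a⁻¹ * s⁻¹ = (s * a * s⁻¹)⁻¹ := by group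
      _ = _ := by rw [ih]

/-- data of commuting elements of order three -/
structure Fam (G : Type) [Group G] (n : ℕ) where
  /-- the elements -/
  el : Fin n → G
  cube : ∀ i, el i * el i * el i = 1
  comm : ∀ i j, Commute (el i) (el j)

variable {n : ℕ} (F : Fam G n)

/-- the group generated -/
def Fam.grp : Subgroup G := Subgroup.closure (Set.range F.el)

theorem Fam.comm_range : ∀ x ∈ Set.range F.el, ∀ y ∈ Set.range F.el, Commute x y := by
  rintro _ ⟨i, rfl⟩ _ ⟨j, rfl⟩
  exact F.comm i j

instance Fam.commGroup : CommGroup F.grp :=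
  { (inferInstance : Group F.grp) with
    mul_comm := fun x y => Subtype.ext (comm_closure F.comm_range x.1 x.2 y.1 y.2).eq }

/-- a generator inside the group -/
def Fam.gen (i : Fin n) : F.grp := ⟨F.el i, Subgroup.subset_closure (Set.mem_range_self i)⟩

/-- the product with given exponents, inside the group -/
def Fam.vec0 : Multiplicative (Fin n → ZMod 3) →* F.grp where
  toFun v := ∏ i, F.gen i ^ (Multiplicative.toAdd v i).val
  map_one' := by simp
  map_mul' v w := by
    rw [← Finset.prod_mul_distrib]
    refine Finset.prod_congr rfl fun i _ => ?_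
    rw [toAdd_mul, Pi.add_apply, ← pow_add, ZMod.val_add, pow_mod_three (Subtype.ext (F.cube i))]

/-- the product with given exponents -/
def Fam.vec : Multiplicative (Fin n → ZMod 3) →* G := F.grp.subtype.comp F.vec0

theorem Fam.vec_single (i : Fin n) : F.vec (Multiplicative.ofAdd (Pi.single i 1)) = F.el i := by
  show ((F.vec0 (Multiplicative.ofAdd (Pi.single i 1)) : F.grp) : G) = F.el i
  have h : F.vec0 (Multiplicative.ofAdd (Pi.single i 1)) = F.gen i := by
    show ∏ j, F.gen j ^ ((Pi.single i 1 : Fin n → ZMod 3) j).val = F.gen i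
    rw [Fintype.prod_eq_single i fun j hj => by rw [Pi.single_eq_of_ne hj, ZMod.val_zero, pow_zero],
      Pi.single_eq_same, ZMod.val_one, pow_one]
  rw [h]
  rfl

theorem Fam.range_vec : F.vec.range = F.grp := by
  refine le_antisymm ?_ ?_
  · rintro _ ⟨v, rfl⟩
    exact (F.vec0 v).2
  · show Subgroup.closure (Set.range F.el) ≤ F.vec.range
    rw [Subgroup.closure_le]
    rintro _ ⟨i, rfl⟩
    exact ⟨_, F.vec_single i⟩

/-- conjugation acts through the given rows -/
theorem Fam.vec_conj {x : G} {row : Fin n → Fin n → ZMod 3}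
    (h : ∀ i, x⁻¹ * F.el i * x = F.vec (Multiplicative.ofAdd (row i))) (v : Fin n → ZMod 3) :
    x⁻¹ * F.vec (Multiplicative.ofAdd v) * x =
      F.vec (Multiplicative.ofAdd fun j => ∑ i, v i * row i j) := by
  let c : G →* G := (MulAut.conj x⁻¹).toMonoidHom
  have hc : ∀ y, c y = x⁻¹ * y * x := fun y => by simp [c]
  let L : Multiplicative (Fin n → ZMod 3) →* Multiplicative (Fin n → ZMod 3) :=
    AddMonoidHom.toMultiplicative (AddMonoidHom.mk' (fun v j => ∑ i, v i * row i j) fun a b => by
      funext j; simp only [Pi.add_apply, add_mul, Finset.sum_add_distrib])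
  have e : c.comp F.vec = F.vec.comp L := by
    let P : Subgroup (Multiplicative (Fin n → ZMod 3)) := MonoidHom.eqLocus (c.comp F.vec) (F.vec.comp L)
    have hP : ∀ w, c (F.vec w) = F.vec (L w) → w ∈ P := fun w hw => hw
    have hsingle : ∀ i, Multiplicative.ofAdd (Pi.single i (1 : ZMod 3)) ∈ P := fun i => by
      refine hP _ ?_
      rw [F.vec_single, hc, h i]
      congr 1
      show Multiplicative.ofAdd (row i) = Multiplicative.ofAdd (fun j => ∑ k, (Pi.single i (1 : ZMod 3) : Fin n → ZMod 3) k * row k j)
      congr 1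
      funext j
      simp [Pi.single_apply]
    refine MonoidHom.ext fun w => ?_
    suffices w ∈ P from this
    have e : w = ∏ i, Multiplicative.ofAdd (Pi.single i (1 : ZMod 3)) ^ (Multiplicative.toAdd w i).val := by
      apply Multiplicative.toAdd.injective
      funext j
      rw [toAdd_prod, Finset.sum_apply, Finset.sum_eq_single j (fun i _ hi => by
        rw [toAdd_pow, toAdd_ofAdd, Pi.smul_apply, Pi.single_eq_of_ne hi.symm, smul_zero])
        (fun h => absurd (Finset.mem_univ j) h), toAdd_pow, toAdd_ofAdd, Pi.smul_apply,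
        Pi.single_eq_same, nsmul_eq_mul, mul_one, ZMod.natCast_zmod_val]
    rw [e]
    exact prod_mem fun i _ => pow_mem (hsingle i) _
  have := DFunLike.congr_fun e (Multiplicative.ofAdd v)
  rwa [MonoidHom.comp_apply, hc] at this

/-- a normalising element from its rows -/
theorem Fam.normalizer [Finite G] {x : G} {row : Fin n → Fin n → ZMod 3}
    (h : ∀ i, x⁻¹ * F.el i * x = F.vec (Multiplicative.ofAdd (row i))) :
    x ∈ Subgroup.normalizer (F.grp : Set G) := by
  refine inv_mem_iff.mp (Subgroup.mem_normalizer_fintype fun d hd => ?_)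
  rw [SetLike.mem_coe, ← F.range_vec] at hd ⊢
  obtain ⟨v, rfl⟩ := hd
  refine ⟨_, (F.vec_conj h (Multiplicative.toAdd v)).symm.trans ?_⟩
  rw [inv_inv]
  rfl

end CfsgLib.LyCent
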