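import Cfsg.Agent.Lib.LyCent.Elems
import Cfsg.Agent.Lib.LyCent.InvData
import Cfsg.Agent.Lib.LyCent.Vec
import Cfsg.Agent.Lib.LyCent.Kill

/-!
A subgroup of order divisible by `3 ^ 7` whose derived preimage in a central extension meets the
kernel in a group of exponent two.
-/

set_option autoImplicit false
set_option linter.style.haveILetI false

open scoped commutatorElement

namespace CfsgLib.LyCent

open CfsgLib.LyPres

theorem cube_pow {x : G} (h : x * x * x = 1) : x ^ 3 = 1 := by rw [pow_succ, pow_two]; exact h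

theorem ek_cube (k : ℕ) : ek k * ek k * ek k = 1 := by
  simp only [ek]
  calc (Eg ^ k)⁻¹ * E0 * Eg ^ k * ((Eg ^ k)⁻¹ * E0 * Eg ^ k) * ((Eg ^ k)⁻¹ * E0 * Eg ^ k)
      = (Eg ^ k)⁻¹ * (E0 * E0 * E0) * Eg ^ k := by group
    _ = 1 := by rw [E0_cube]; group

theorem ek_zero : ek 0 = E0 := by simp [ek]

theorem ek_comm {k l : ℕ} (hk : k < 5) (hl : l < 5) : Commute (ek k) (ek l) := by
  have key : ∀ k j, k + j < 5 → Commute (ek k) (ek (k + j)) := by
    intro k j h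
    rcases j with _ | j
    · exact Commute.refl _
    · have hc : Commute ((Eg ^ k)⁻¹ * E0 * ((Eg ^ k)⁻¹)⁻¹)
          ((Eg ^ k)⁻¹ * ek (j + 1) * ((Eg ^ k)⁻¹)⁻¹) :=
        (E0_ek (show j < 4 by omega)).map (MulAut.conj (Eg ^ k)⁻¹).toMonoidHom
      rw [inv_inv] at hc
      rw [show ek (k + (j + 1)) = (Eg ^ k)⁻¹ * ek (j + 1) * Eg ^ k by
        simp only [ek]
        rw [show k + (j + 1) = (j + 1) + k by omega, pow_add]
        group]
      exact hc
  rcases le_total k l with h | h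
  · have := key k (l - k) (by omega)
    rwa [show k + (l - k) = l by omega] at this
  · have := key l (k - l) (by omega)
    rw [show l + (k - l) = k by omega] at this
    exact this.symm

/-- the five conjugates -/
noncomputable def famE : Fam G 5 where
  el i := ek i
  cube i := ek_cube i
  comm i j := ek_comm i.2 j.2

/-- the two commuting elements -/
noncomputable def famA : Fam G 2 where
  el := ![A1, A2]
  cube i := by fin_cases i <;> first | exact A1_cube | exact A2_cube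
  comm i j := by
    fin_cases i <;> fin_cases j <;>
      first | exact Commute.refl _ | exact A_comm | exact A_comm.symm

/-- rows of numbers as vectors -/
def rowF (rows : List (List ℕ)) (i : Fin 5) (j : Fin 5) : ZMod 3 :=
  ((rows.getD i []).getD j 0 : ℕ)

theorem eVec_eq (v : List ℕ) :
    eVec v = famE.vec (Multiplicative.ofAdd fun j : Fin 5 => ((v.getD j 0 : ℕ) : ZMod 3)) := by
  have h : ∀ (i : Fin 5) (n : ℕ), famE.gen i ^ ((n : ZMod 3)).val = famE.gen i ^ n := fun i n => by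
    rw [ZMod.val_natCast, pow_mod_three (Subtype.ext (ek_cube i))]
  show _ = ((∏ i, famE.gen i ^ (((v.getD i 0 : ℕ) : ZMod 3)).val : famE.grp) : G)
  simp only [h, Fin.prod_univ_five, Subgroup.coe_mul, Subgroup.coe_pow]
  rfl

theorem g_row (i : Fin 5) :
    Eg⁻¹ * famE.el i * Eg = famE.vec (Multiplicative.ofAdd (rowF rowG i)) := by
  show Eg⁻¹ * ek i * Eg = _
  have hi : Eg⁻¹ * ek i * Eg = ek (i + 1) := by
    simp only [ek, pow_succ]; group
  rw [hi]
  clear hi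
  by_cases h : (i : ℕ) < 4
  · have e : rowF rowG i = Pi.single (⟨i + 1, by omega⟩ : Fin 5) 1 := by
      revert h
      revert i
      decide +kernel
    rw [e, famE.vec_single]
    rfl
  · have h4 : i = (4 : Fin 5) := Fin.ext (by have := i.2; simp; omega)
    subst h4
    rw [show ((4 : Fin 5) : ℕ) + 1 = 5 from rfl, ek_five, eVec_eq]
    rfl

theorem a1_row (i : Fin 5) :
    A1⁻¹ * famE.el i * A1 = famE.vec (Multiplicative.ofAdd (rowF rowA i)) :=
  (A1_ek i.2).trans (eVec_eq _)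

theorem a2_row (i : Fin 5) :
    A2⁻¹ * famE.el i * A2 = famE.vec (Multiplicative.ofAdd (rowF rowB i)) :=
  (A2_ek i.2).trans (eVec_eq _)

theorem r_row (i : Fin 5) :
    Er⁻¹ * famE.el i * Er = famE.vec (Multiplicative.ofAdd (rowF rowR i)) :=
  (r_ek i.2).trans (eVec_eq _)

/-- the action of rows on vectors -/
def mulRow (rows : List (List ℕ)) (v : Fin 5 → ZMod 3) : Fin 5 → ZMod 3 :=
  fun j => ∑ i, v i * rowF rows i j

/-- the coded coefficient -/
def coefOf (w : Fin 5 → ZMod 3) (i : ℕ) : ℕ :=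
  invCoef.getD ((w 0).val + 3 * (w 1).val + 9 * (w 2).val + 27 * (w 3).val + 81 * (w 4).val) 0
    / 3 ^ i % 3

theorem cyclic_chk : ∀ w : Fin 5 → ZMod 3, w = 0 ∨
    (coefOf w 0 • w + coefOf w 1 • mulRow rowG w + coefOf w 2 • mulRow rowG (mulRow rowG w) +
      coefOf w 3 • mulRow rowG (mulRow rowG (mulRow rowG w)) +
      coefOf w 4 • mulRow rowG (mulRow rowG (mulRow rowG (mulRow rowG w)))) = Pi.single 0 1 := by
  decide +kernel

theorem famE_injective : Function.Injective famE.vec := by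
  rw [← MonoidHom.ker_eq_bot_iff, Subgroup.eq_bot_iff_forall]
  intro w hw
  rw [MonoidHom.mem_ker] at hw
  have step : ∀ v, famE.vec (Multiplicative.ofAdd v) = 1 →
      famE.vec (Multiplicative.ofAdd (mulRow rowG v)) = 1 := fun v hv => by
    have h := famE.vec_conj g_row v
    rw [hv, mul_one, inv_mul_cancel] at h
    exact h.symm
  rcases cyclic_chk (Multiplicative.toAdd w) with h | h
  · exact Multiplicative.toAdd.injective h
  · exfalso
    have h1 := congrArg (fun v => famE.vec (Multiplicative.ofAdd v)) h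
    simp only [ofAdd_add, ofAdd_nsmul, map_mul, map_pow, famE.vec_single] at h1
    have w0 : famE.vec (Multiplicative.ofAdd (Multiplicative.toAdd w)) = 1 := hw
    rw [w0, step _ w0, step _ (step _ w0), step _ (step _ (step _ w0)),
      step _ (step _ (step _ (step _ w0)))] at h1
    simp only [one_pow, mul_one] at h1
    exact E0_ne (ek_zero ▸ h1.symm)

theorem card_famE : Nat.card famE.grp = 243 := by
  rw [← famE.range_vec, ← Nat.card_congr (MonoidHom.ofInjective famE_injective).toEquiv]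
  simp

/-- `a₁ ^ i * a₂ ^ j` -/
noncomputable def aPow (p : Fin 3 × Fin 3) : G := A1 ^ (p.1 : ℕ) * A2 ^ (p.2 : ℕ)

/-- the image of the first unit vector under `a₁ ^ i * a₂ ^ j` -/
def aImg (p : Fin 3 × Fin 3) : Fin 5 → ZMod 3 :=
  (mulRow rowB)^[(p.2 : ℕ)] ((mulRow rowA)^[(p.1 : ℕ)] (Pi.single 0 1))

theorem aImg_chk : ∀ p, aImg p = Pi.single 0 1 → p = (0, 0) := by decide +kernel

theorem conj_iter {x : G} {rows : List (List ℕ)}
    (h : ∀ i, x⁻¹ * famE.el i * x = famE.vec (Multiplicative.ofAdd (rowF rows i))) (v : Fin 5 → ZMod 3) :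
    ∀ n : ℕ, (x ^ n)⁻¹ * famE.vec (Multiplicative.ofAdd v) * x ^ n =
      famE.vec (Multiplicative.ofAdd ((mulRow rows)^[n] v))
  | 0 => by simp
  | n + 1 => by
    rw [pow_succ, mul_inv_rev, Function.iterate_succ_apply',
      show x⁻¹ * (x ^ n)⁻¹ * famE.vec (Multiplicative.ofAdd v) * (x ^ n * x) =
        x⁻¹ * ((x ^ n)⁻¹ * famE.vec (Multiplicative.ofAdd v) * x ^ n) * x by group,
      conj_iter h v n, famE.vec_conj h]
    rfl

theorem aPow_conj (p : Fin 3 × Fin 3) :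
    (aPow p)⁻¹ * E0 * aPow p = famE.vec (Multiplicative.ofAdd (aImg p)) := by
  have e0 : E0 = famE.vec (Multiplicative.ofAdd (Pi.single 0 1)) := by
    rw [famE.vec_single]; exact ek_zero.symm
  rw [aPow, mul_inv_rev,
    show (A2 ^ (p.2 : ℕ))⁻¹ * (A1 ^ (p.1 : ℕ))⁻¹ * E0 * (A1 ^ (p.1 : ℕ) * A2 ^ (p.2 : ℕ)) =
      (A2 ^ (p.2 : ℕ))⁻¹ * ((A1 ^ (p.1 : ℕ))⁻¹ * E0 * A1 ^ (p.1 : ℕ)) * A2 ^ (p.2 : ℕ) by group,
    e0, conj_iter a1_row, conj_iter a2_row]
  rfl

theorem aPow_fix {p : Fin 3 × Fin 3} (h : Commute (aPow p) E0) : p = (0, 0) := by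
  refine aImg_chk p (Multiplicative.ofAdd.injective (famE_injective ?_))
  rw [← aPow_conj, mul_assoc, ← h.eq, inv_mul_cancel_left, famE.vec_single]
  exact ek_zero.symm

theorem mem_famA {x : G} (hx : x ∈ famA.grp) : ∃ p, aPow p = x := by
  rw [← famA.range_vec] at hx
  obtain ⟨v, rfl⟩ := hx
  refine ⟨(⟨(Multiplicative.toAdd v 0).val, ZMod.val_lt _⟩,
    ⟨(Multiplicative.toAdd v 1).val, ZMod.val_lt _⟩), ?_⟩
  show _ = ((∏ i, famA.gen i ^ (Multiplicative.toAdd v i).val : famA.grp) : G)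
  rw [Fin.prod_univ_two]
  rfl

theorem aPow_mem (p : Fin 3 × Fin 3) : aPow p ∈ famA.grp :=
  mul_mem (pow_mem (Subgroup.subset_closure (Set.mem_range_self (0 : Fin 2))) _)
    (pow_mem (Subgroup.subset_closure (Set.mem_range_self (1 : Fin 2))) _)

theorem E0_mem : E0 ∈ famE.grp :=
  Subgroup.subset_closure ⟨(0 : Fin 5), ek_zero⟩

theorem disjoint_EA : famE.grp ⊓ famA.grp = ⊥ := by
  rw [Subgroup.eq_bot_iff_forall]
  rintro x hx
  obtain ⟨hE, hA⟩ := Subgroup.mem_inf.mp hx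
  obtain ⟨p, rfl⟩ := mem_famA hA
  rw [aPow_fix (comm_closure famE.comm_range _ hE _ E0_mem)]
  simp [aPow]

theorem aPow_injective : Function.Injective aPow := by
  intro p q h
  have key : aPow (q.1 - p.1, q.2 - p.2) = 1 := by
    have hmod : ∀ (x : G), x * x * x = 1 → ∀ a b : Fin 3,
        x ^ ((b - a : Fin 3) : ℕ) = (x ^ (a : ℕ))⁻¹ * x ^ (b : ℕ) := by
      intro x hx a b
      rw [eq_inv_mul_iff_mul_eq, ← pow_add, ← pow_mod_three hx, ← pow_mod_three hx (b : ℕ)]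
      congr 1
      revert a b
      decide
    rw [aPow, hmod A1 A1_cube, hmod A2 A2_cube]
    calc (A1 ^ (p.1 : ℕ))⁻¹ * A1 ^ (q.1 : ℕ) * ((A2 ^ (p.2 : ℕ))⁻¹ * A2 ^ (q.2 : ℕ))
        = (A1 ^ (p.1 : ℕ))⁻¹ * (A1 ^ (q.1 : ℕ) * (A2 ^ (p.2 : ℕ))⁻¹) * A2 ^ (q.2 : ℕ) := by group
      _ = (A1 ^ (p.1 : ℕ))⁻¹ * ((A2 ^ (p.2 : ℕ))⁻¹ * A1 ^ (q.1 : ℕ)) * A2 ^ (q.2 : ℕ) := by
          rw [(A_comm.pow_pow _ _).inv_right.eq]
      _ = (A2 ^ (p.2 : ℕ) * A1 ^ (p.1 : ℕ))⁻¹ * aPow q := by rw [aPow]; group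
      _ = 1 := by rw [← (A_comm.pow_pow _ _).eq, ← h, aPow, inv_mul_cancel]
  have := aPow_fix (p := (q.1 - p.1, q.2 - p.2)) (by rw [key]; exact Commute.one_left _)
  simp only [Prod.mk.injEq, sub_eq_zero] at this
  exact Prod.ext this.1.symm this.2.symm

theorem card_famA : Nat.card famA.grp = 9 := by
  let f : Fin 3 × Fin 3 → famA.grp := fun p => ⟨aPow p, aPow_mem p⟩
  have hf : Function.Bijective f := ⟨fun p q h => aPow_injective (congrArg Subtype.val h),
    fun x => by obtain ⟨p, hp⟩ := mem_famA x.2; exact ⟨p, Subtype.ext hp⟩⟩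
  rw [← Nat.card_congr (Equiv.ofBijective f hf)]
  simp

theorem A_norm_E : famA.grp ≤ Subgroup.normalizer (famE.grp : Set G) := by
  haveI := finite_G
  show Subgroup.closure (Set.range famA.el) ≤ _
  rw [Subgroup.closure_le]
  rintro _ ⟨i, rfl⟩
  fin_cases i
  · exact famE.normalizer a1_row
  · exact famE.normalizer a2_row

theorem card_EA : Nat.card (famE.grp ⊔ famA.grp : Subgroup G) = 2187 := by
  let f : famE.grp × famA.grp → (famE.grp ⊔ famA.grp : Subgroup G) := fun p =>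
    ⟨p.1.1 * p.2.1, mul_mem (Subgroup.mem_sup_left p.1.2) (Subgroup.mem_sup_right p.2.2)⟩
  have hf : Function.Bijective f := by
    refine ⟨fun p q h => ?_, fun x => ?_⟩
    · have h' : p.1.1 * p.2.1 = q.1.1 * q.2.1 := congrArg Subtype.val h
      have h2 : q.1.1⁻¹ * p.1.1 = q.2.1 * p.2.1⁻¹ := by
        rw [inv_mul_eq_iff_eq_mul, ← mul_assoc, eq_mul_inv_iff_mul_eq]; exact h'
      have hm : q.1.1⁻¹ * p.1.1 ∈ famE.grp ⊓ famA.grp := Subgroup.mem_inf.mpr
        ⟨mul_mem (inv_mem q.1.2) p.1.2, h2 ▸ mul_mem q.2.2 (inv_mem p.2.2)⟩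
      rw [disjoint_EA, Subgroup.mem_bot] at hm
      rw [hm, eq_comm, mul_inv_eq_one] at h2
      exact Prod.ext (Subtype.ext (inv_mul_eq_one.mp hm).symm) (Subtype.ext h2.symm)
    · have hx := x.2
      rw [← SetLike.mem_coe, Subgroup.coe_mul_of_right_le_normalizer_left famE.grp famA.grp A_norm_E,
        Set.mem_mul] at hx
      obtain ⟨a, ha, b, hb, e⟩ := hx
      exact ⟨(⟨a, ha⟩, ⟨b, hb⟩), Subtype.ext e⟩
  rw [← Nat.card_congr (Equiv.ofBijective f hf), Nat.card_prod, card_famE, card_famA]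

theorem solve_E {M : Type*} [AddCommGroup M] {d1 d2 d3 d4 : M} (t2 : d2 + d2 + d2 = 0)
    (h1 : d4 = -d1 + (d1 + d1) + d2 + (d3 + d3)) (h2 : d3 = -d2 + 0 + d1 + (d2 + d2))
    (h3 : d2 = -d3 + (-d1 + -d1) + 0 + (d1 + d1)) (h4 : d1 = -d4 + (-d2 + -d2) + -d1 + 0) :
    d1 = 0 ∧ d2 = 0 ∧ d3 = 0 ∧ d4 = 0 := by
  have e3 : d3 = -d2 := by rw [h3]; abel
  have e1 : d1 = d2 := by
    rw [e3] at h2
    have : d1 = -d2 + -d2 := by
      calc d1 = (-d2 + 0 + d1 + (d2 + d2)) + -d2 := by abel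
        _ = -d2 + -d2 := by rw [← h2]
    rw [this, ← sub_eq_zero]
    calc -d2 + -d2 - d2 = -(d2 + d2 + d2) := by abel
      _ = 0 := by rw [t2, neg_zero]
  have e4 : d4 = 0 := by rw [h1, e1, e3]; abel
  have e2 : d2 = 0 := by
    rw [e4, e1] at h4
    calc d2 = (d2 + d2 + d2 + d2) + -(d2 + d2 + d2) := by abel
      _ = ((-0 + (-d2 + -d2) + -d2 + 0) + d2 + d2 + d2) + -(d2 + d2 + d2) := by rw [← h4]
      _ = 0 := by rw [t2]; abel
  exact ⟨e1.trans e2, e2, by rw [e3, e2, neg_zero], e4⟩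

variable {Δ : Type} [Group Δ] {τ : Δ →* G}

theorem comm_mul_right (hc : τ.ker ≤ Subgroup.center Δ) {x a b : Δ} (hb : τ ⁅x, b⁆ = 1) :
    ⁅x, a * b⁆ = ⁅x, a⁆ * ⁅x, b⁆ := by
  rw [show ⁅x, a * b⁆ = ⁅x, a⁆ * (a * ⁅x, b⁆ * a⁻¹) by simp only [commutatorElement_def]; group,
    Subgroup.mem_center_iff.mp (hc hb) a, mul_inv_cancel_right]

theorem comm_mul_left (hc : τ.ker ≤ Subgroup.center Δ) {a b y : Δ} (hb : τ ⁅b, y⁆ = 1) :
    ⁅a * b, y⁆ = ⁅a, y⁆ * ⁅b, y⁆ := by
  rw [show ⁅a * b, y⁆ = (a * ⁅b, y⁆ * a⁻¹) * ⁅a, y⁆ by simp only [commutatorElement_def]; group,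
    Subgroup.mem_center_iff.mp (hc hb) a, mul_inv_cancel_right,
    Subgroup.mem_center_iff.mp (hc hb) ⁅a, y⁆]

theorem tau_comm {a b : Δ} (h : Commute (τ a) (τ b)) : τ ⁅a, b⁆ = 1 := by
  rw [map_commutatorElement, commutatorElement_eq_one_iff_commute]; exact h

theorem lifts_E (hs : Function.Surjective τ) (hc : τ.ker ≤ Subgroup.center Δ) :
    ∀ a b, τ a ∈ famE.grp → τ b ∈ famE.grp → Commute a b := by
  obtain ⟨g', hg⟩ := hs Eg
  obtain ⟨e', he⟩ := hs E0
  let x : ℕ → Δ := fun k => (g' ^ k)⁻¹ * e' * g' ^ k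
  have hx : ∀ k, τ (x k) = ek k := fun k => by
    simp only [x, ek, map_mul, map_inv, map_pow, hg, he]
  have hcm : ∀ {k l}, k < 5 → l < 5 → τ ⁅x k, x l⁆ = 1 := fun {k l} hk hl =>
    tau_comm (by rw [hx, hx]; exact ek_comm hk hl)
  have hshift : ∀ j k, j + k < 6 → 0 < k → k < 5 → ⁅x j, x (j + k)⁆ = ⁅x 0, x k⁆ := by
    intro j k _ _ hk
    have e : ⁅x j, x (j + k)⁆ = (g' ^ j)⁻¹ * ⁅x 0, x k⁆ * g' ^ j := by
      simp only [x, commutatorElement_def, show j + k = k + j by omega, pow_add, pow_zero]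
      group
    rw [e, Subgroup.mem_center_iff.mp (hc (hcm (by norm_num) hk)) (g' ^ j)⁻¹, inv_mul_cancel_right]
  set w := x 0 * (x 2 * x 2) * x 3 * (x 4 * x 4) with hw
  have h5 : τ (x 5) = τ w := by
    rw [hx, ek_five, eVec]
    simp only [w, map_mul, hx, List.getD_cons_zero, List.getD_cons_succ, pow_one, pow_two, pow_zero,
      mul_one]
  have hbil : ∀ j < 5, ⁅x j, x 5⁆ =
      ⁅x j, x 0⁆ * (⁅x j, x 2⁆ * ⁅x j, x 2⁆) * ⁅x j, x 3⁆ * (⁅x j, x 4⁆ * ⁅x j, x 4⁆) := by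
    intro j hj
    have h2 : τ ⁅x j, x 2 * x 2⁆ = 1 := tau_comm (by
      rw [map_mul τ (x 2) (x 2), hx j, hx 2]; exact (ek_comm hj (by norm_num)).mul_right (ek_comm hj (by norm_num)))
    have h4 : τ ⁅x j, x 4 * x 4⁆ = 1 := tau_comm (by
      rw [map_mul τ (x 4) (x 4), hx j, hx 4]; exact (ek_comm hj (by norm_num)).mul_right (ek_comm hj (by norm_num)))
    rw [CfsgLib.Schur.commutatorElement_congr τ hc (a := x j) rfl h5, hw, comm_mul_right hc h4,
      comm_mul_right hc (hcm hj (by norm_num)), comm_mul_right hc h2,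
      comm_mul_right hc (hcm hj (by norm_num : 2 < 5)), comm_mul_right hc (hcm hj (by norm_num : 4 < 5))]
  have hanti : ∀ a b : Δ, ⁅b, a⁆ = ⁅a, b⁆⁻¹ := fun a b => (commutatorElement_inv a b).symm
  let D : ∀ k, k < 5 → Subgroup.center Δ := fun k hk => ⟨⁅x 0, x k⁆, hc (hcm (by norm_num) hk)⟩
  have htri : ⁅x 0, x 2⁆ * ⁅x 0, x 2⁆ * ⁅x 0, x 2⁆ = 1 := by
    have h22 : τ ⁅x 0, x 2⁆ = 1 := hcm (by norm_num) (by norm_num)
    rw [← comm_mul_right hc h22, ← comm_mul_right hc h22, commutatorElement_eq_one_iff_commute]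
    exact Subgroup.mem_center_iff.mp (hc (show τ (x 2 * x 2 * x 2) = 1 by
      rw [map_mul, map_mul, hx]; exact ek_cube 2)) (x 0)
  letI : CommGroup (Subgroup.center Δ) :=
    { (inferInstance : Group (Subgroup.center Δ)) with
      mul_comm := fun a b => Subtype.ext (Subgroup.mem_center_iff.mp b.2 a.1) }
  obtain ⟨e1, e2, e3, e4⟩ := solve_E (M := Additive (Subgroup.center Δ))
    (d1 := Additive.ofMul (D 1 (by norm_num))) (d2 := Additive.ofMul (D 2 (by norm_num)))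
    (d3 := Additive.ofMul (D 3 (by norm_num))) (d4 := Additive.ofMul (D 4 (by norm_num)))
    (Subtype.ext htri)
    (Subtype.ext (by
      show ⁅x 0, x 4⁆ = ⁅x 0, x 1⁆⁻¹ * (⁅x 0, x 1⁆ * ⁅x 0, x 1⁆) * ⁅x 0, x 2⁆ * (⁅x 0, x 3⁆ * ⁅x 0, x 3⁆)
      rw [← hanti]
      conv_lhs => rw [← hshift 1 4 (by norm_num) (by norm_num) (by norm_num)]
      rw [hbil 1 (by norm_num), hshift 1 1 (by norm_num) (by norm_num) (by norm_num),
        hshift 1 2 (by norm_num) (by norm_num) (by norm_num),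
        hshift 1 3 (by norm_num) (by norm_num) (by norm_num)]))
    (Subtype.ext (by
      show ⁅x 0, x 3⁆ = ⁅x 0, x 2⁆⁻¹ * 1 * ⁅x 0, x 1⁆ * (⁅x 0, x 2⁆ * ⁅x 0, x 2⁆)
      rw [← hanti]
      conv_lhs => rw [← hshift 2 3 (by norm_num) (by norm_num) (by norm_num)]
      rw [hbil 2 (by norm_num), commutatorElement_self,
        hshift 2 1 (by norm_num) (by norm_num) (by norm_num),
        hshift 2 2 (by norm_num) (by norm_num) (by norm_num)]
      simp only [mul_one]))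
    (Subtype.ext (by
      show ⁅x 0, x 2⁆ = ⁅x 0, x 3⁆⁻¹ * (⁅x 0, x 1⁆⁻¹ * ⁅x 0, x 1⁆⁻¹) * 1 * (⁅x 0, x 1⁆ * ⁅x 0, x 1⁆)
      rw [← hanti (x 0) (x 3)]
      conv_lhs => rw [← hshift 3 2 (by norm_num) (by norm_num) (by norm_num)]
      rw [hbil 3 (by norm_num), commutatorElement_self, hanti (x 2) (x 3),
        hshift 2 1 (by norm_num) (by norm_num) (by norm_num),
        hshift 3 1 (by norm_num) (by norm_num) (by norm_num)]))
    (Subtype.ext (by
      show ⁅x 0, x 1⁆ = ⁅x 0, x 4⁆⁻¹ * (⁅x 0, x 2⁆⁻¹ * ⁅x 0, x 2⁆⁻¹) * ⁅x 0, x 1⁆⁻¹ * 1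
      rw [← hanti (x 0) (x 4)]
      conv_lhs => rw [← hshift 4 1 (by norm_num) (by norm_num) (by norm_num)]
      rw [hbil 4 (by norm_num), commutatorElement_self, hanti (x 2) (x 4), hanti (x 3) (x 4),
        hshift 2 2 (by norm_num) (by norm_num) (by norm_num),
        hshift 3 1 (by norm_num) (by norm_num) (by norm_num)]
      simp only [mul_one]))
  have hz : ∀ k, 0 < k → k < 5 → ⁅x 0, x k⁆ = 1 := by
    intro k h0 h
    interval_cases k
    · exact congrArg Subtype.val e1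
    · exact congrArg Subtype.val e2
    · exact congrArg Subtype.val e3
    · exact congrArg Subtype.val e4
  have hall : ∀ k l, k < 5 → l < 5 → Commute (x k) (x l) := by
    have key : ∀ k j, k + j < 5 → Commute (x k) (x (k + j)) := by
      intro k j h
      rcases Nat.eq_zero_or_pos j with rfl | hj
      · exact Commute.refl _
      · rw [← commutatorElement_eq_one_iff_commute, hshift k j (by omega) hj (by omega),
          hz j hj (by omega)]
    intro k l hk hl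
    rcases le_total k l with h | h
    · have := key k (l - k) (by omega)
      rwa [show k + (l - k) = l by omega] at this
    · have := key l (k - l) (by omega)
      rw [show l + (k - l) = k by omega] at this
      exact this.symm
  refine lifts_commute hs hc ?_
  rintro a b ⟨i, hi⟩ ⟨j, hj⟩
  rw [← commutatorElement_eq_one_iff_commute, CfsgLib.Schur.commutatorElement_congr τ hc
    (a' := x i) (b' := x j) (hi.symm.trans (hx i).symm) (hj.symm.trans (hx j).symm),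
    commutatorElement_eq_one_iff_commute]
  exact hall i j i.2 j.2

theorem lifts_A (hs : Function.Surjective τ) (hc : τ.ker ≤ Subgroup.center Δ) :
    ∀ a b, τ a ∈ famA.grp → τ b ∈ famA.grp → Commute a b := by
  obtain ⟨a, ha⟩ := hs A1
  obtain ⟨b, hb⟩ := hs A2
  obtain ⟨r', hr⟩ := hs Er
  have hab : τ ⁅a, b⁆ = 1 := tau_comm (by rw [ha, hb]; exact A_comm)
  have hd : ⁅a, b⁆ = 1 := by
    have h1 : ⁅r'⁻¹ * a * r', r'⁻¹ * b * r'⁆ = ⁅a, b⁆ := by
      rw [show ⁅r'⁻¹ * a * r', r'⁻¹ * b * r'⁆ = r'⁻¹ * ⁅a, b⁆ * r' by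
        simp only [commutatorElement_def]; group,
        Subgroup.mem_center_iff.mp (hc hab) r'⁻¹, inv_mul_cancel_right]
    rw [CfsgLib.Schur.commutatorElement_congr τ hc (a' := a * a * b) (b' := a * a * (b * b))
      (by simp only [map_mul, map_inv, hr, ha, hb, r_A1, pow_two])
      (by simp only [map_mul, map_inv, hr, ha, hb, r_A2, pow_two])] at h1
    have cba : τ ⁅b, a⁆ = 1 := tau_comm (by rw [ha, hb]; exact A_comm.symm)
    have cab2 : ∀ y, Commute A1 (τ y) → τ ⁅a, y⁆ = 1 := fun y h => tau_comm (by rw [ha]; exact h)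
    have cbb2 : τ ⁅b, a * a * (b * b)⁆ = 1 := tau_comm (by
      simp only [map_mul, ha, hb]
      exact (A_comm.symm.mul_right A_comm.symm).mul_right
        ((Commute.refl _).mul_right (Commute.refl _)))
    have caa2 : τ ⁅a, a * a * (b * b)⁆ = 1 := cab2 _ (by
      simp only [map_mul, ha, hb]
      exact ((Commute.refl _).mul_right (Commute.refl _)).mul_right (A_comm.mul_right A_comm))
    have dbb : ⁅b, b * b⁆ = 1 :=
      commutatorElement_eq_one_iff_commute.mpr ((Commute.refl b).mul_right (Commute.refl b))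
    have daa : ⁅a, a * a⁆ = 1 :=
      commutatorElement_eq_one_iff_commute.mpr ((Commute.refl a).mul_right (Commute.refl a))
    have hbb : τ ⁅a, b * b⁆ = 1 := cab2 _ (by rw [map_mul, hb]; exact A_comm.mul_right A_comm)
    have ea : ⁅a, a * a * (b * b)⁆ = ⁅a, b⁆ * ⁅a, b⁆ := by
      rw [comm_mul_right hc hbb, daa, one_mul, comm_mul_right hc hab]
    have eb : ⁅b, a * a * (b * b)⁆ = ⁅a, b⁆⁻¹ * ⁅a, b⁆⁻¹ := by
      rw [comm_mul_right hc (show τ ⁅b, b * b⁆ = 1 by rw [dbb, map_one]), dbb, mul_one,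
        comm_mul_right hc cba, commutatorElement_inv]
    rw [comm_mul_left hc cbb2, comm_mul_left hc caa2, ea, eb] at h1
    calc ⁅a, b⁆ = ⁅a, b⁆ * ⁅a, b⁆ * (⁅a, b⁆⁻¹) := by group
      _ = ⁅a, b⁆ * ⁅a, b⁆ * (⁅a, b⁆ * ⁅a, b⁆ * (⁅a, b⁆ * ⁅a, b⁆) * (⁅a, b⁆⁻¹ * ⁅a, b⁆⁻¹))⁻¹ := by
          rw [h1]
      _ = 1 := by group
  refine lifts_commute hs hc ?_
  rintro c d ⟨i, hi⟩ ⟨j, hj⟩
  have hab' : Commute a b := commutatorElement_eq_one_iff_commute.mp hd
  have cg : ∀ (u v : Δ), τ c = τ u → τ d = τ v → Commute u v → Commute c d := fun u v h1 h2 h => by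
    rw [← commutatorElement_eq_one_iff_commute, CfsgLib.Schur.commutatorElement_congr τ hc h1 h2]
    exact commutatorElement_eq_one_iff_commute.mpr h
  fin_cases i <;> fin_cases j
  · exact cg a a (hi.symm.trans ha.symm) (hj.symm.trans ha.symm) (Commute.refl _)
  · exact cg a b (hi.symm.trans ha.symm) (hj.symm.trans hb.symm) hab'
  · exact cg b a (hi.symm.trans hb.symm) (hj.symm.trans ha.symm) hab'.symm
  · exact cg b b (hi.symm.trans hb.symm) (hj.symm.trans hb.symm) (Commute.refl _)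

/-- the group generated by both, the involution and `r` -/
noncomputable def subU : Subgroup G :=
  Subgroup.closure ((famE.grp : Set G) ∪ (famA.grp : Set G) ∪ {T, Er})

theorem card_subU : 2187 ∣ Nat.card subU := by
  rw [← card_EA]
  refine Subgroup.card_dvd_of_le (sup_le ?_ ?_)
  · exact fun x hx => Subgroup.subset_closure (Or.inl (Or.inl hx))
  · exact fun x hx => Subgroup.subset_closure (Or.inl (Or.inr hx))

theorem three_part [Finite Δ] (hs : Function.Surjective τ) (hc : τ.ker ≤ Subgroup.center Δ) :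
    ∀ z ∈ τ.ker, z ∈ ⁅subU.comap τ, subU.comap τ⁆ → z ^ 2 = 1 := by
  haveI := finite_G
  have hEi : ∀ x ∈ famE.grp, T * x * T⁻¹ = x⁻¹ := by
    refine closure_inverted famE.comm_range ?_
    rintro _ ⟨i, rfl⟩
    show T * ek i * T⁻¹ = (ek i)⁻¹
    simp only [ek]
    calc T * ((Eg ^ (i : ℕ))⁻¹ * E0 * Eg ^ (i : ℕ)) * T⁻¹
        = (T * (Eg ^ (i : ℕ))⁻¹) * E0 * (Eg ^ (i : ℕ) * T⁻¹) := by group
      _ = ((Eg ^ (i : ℕ))⁻¹ * T) * E0 * (T⁻¹ * Eg ^ (i : ℕ)) := by
          rw [(T_g.pow_right (i : ℕ)).inv_right.eq, (T_g.pow_right (i : ℕ)).inv_left.eq]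
      _ = (Eg ^ (i : ℕ))⁻¹ * (T * E0 * T) * Eg ^ (i : ℕ) := by rw [T_inv]; group
      _ = _ := by rw [T_E0]; group
  have hAi : ∀ x ∈ famA.grp, Er ^ 4 * x * (Er ^ 4)⁻¹ = x⁻¹ := by
    refine closure_inverted famA.comm_range ?_
    rintro _ ⟨i, rfl⟩
    fin_cases i
    · show Er ^ 4 * A1 * (Er ^ 4)⁻¹ = A1⁻¹
      calc Er ^ 4 * A1 * (Er ^ 4)⁻¹
          = (Er ^ 4 * ((Er ^ 4)⁻¹ * A1 * Er ^ 4) * (Er ^ 4)⁻¹)⁻¹ := by rw [r4_A1]; group
        _ = A1⁻¹ := by group
    · show Er ^ 4 * A2 * (Er ^ 4)⁻¹ = A2⁻¹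
      calc Er ^ 4 * A2 * (Er ^ 4)⁻¹
          = (Er ^ 4 * ((Er ^ 4)⁻¹ * A2 * Er ^ 4) * (Er ^ 4)⁻¹)⁻¹ := by rw [r4_A2]; group
        _ = A2⁻¹ := by group
  have hrA : Er ∈ Subgroup.normalizer (famA.grp : Set G) := by
    refine inv_mem_iff.mp (Subgroup.mem_normalizer_fintype fun d hd => ?_)
    have hle : famA.grp.map (MulAut.conj Er⁻¹).toMonoidHom ≤ famA.grp := by
      show (Subgroup.closure (Set.range famA.el)).map _ ≤ _
      rw [MonoidHom.map_closure, Subgroup.closure_le]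
      rintro _ ⟨_, ⟨i, rfl⟩, rfl⟩
      have h1 : A1 ∈ famA.grp := Subgroup.subset_closure (Set.mem_range_self (0 : Fin 2))
      have h2 : A2 ∈ famA.grp := Subgroup.subset_closure (Set.mem_range_self (1 : Fin 2))
      fin_cases i
      · show Er⁻¹ * A1 * Er⁻¹⁻¹ ∈ famA.grp
        rw [inv_inv, r_A1]; exact mul_mem (pow_mem h1 2) h2
      · show Er⁻¹ * A2 * Er⁻¹⁻¹ ∈ famA.grp
        rw [inv_inv, r_A2]; exact mul_mem (pow_mem h1 2) (pow_mem h2 2)
    exact hle (Subgroup.mem_map_of_mem _ hd)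
  have hTA : ∀ x ∈ famA.grp, Commute T x := by
    intro x hx
    obtain ⟨p, rfl⟩ := mem_famA hx
    exact (T_A1.pow_right _).mul_right (T_A2.pow_right _)
  refine three_kill hs hc (closure_cube famE.comm_range ?_) (closure_cube famA.comm_range ?_)
    (lifts_E hs hc) (lifts_A hs hc) hEi hAi ?_ ?_ hTA T_r ((Commute.refl Er).pow_right 4)
    (T_r.pow_right 4) T_sq disjoint_EA le_rfl
  · rintro _ ⟨i, rfl⟩; exact cube_pow (famE.cube i)
  · rintro _ ⟨i, rfl⟩; exact cube_pow (famA.cube i)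
  · rintro g (rfl | hg) x hx
    · exact (Subgroup.mem_normalizer_iff.mp (famE.normalizer r_row) x).mp hx
    · exact (Subgroup.mem_normalizer_iff.mp (A_norm_E hg) x).mp hx
  · exact fun x hx => (Subgroup.mem_normalizer_iff.mp hrA x).mp hx

end CfsgLib.LyCent
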