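import Cfsg.Agent.Lib.LyCent.TwoPart
import Cfsg.Agent.Lib.LyCent.ThreePart
import Cfsg.Agent.Lib.Schur.GroupCongr
import Cfsg.Agent.Lib.StemExt.Basic
import Cfsg.Agent.S2100

/-!
The Schur multiplier of the presented Lyons group is trivial.
-/

set_option autoImplicit false
set_option linter.style.haveILetI false

open scoped commutatorElement

namespace CfsgLib.LyCent

open CfsgLib.LyPres

theorem perfect_subH : commutator subH = ⊤ := by
  haveI := simple_P0
  haveI : IsSimpleGroup subH :=
    ((MulEquiv.subgroupCongr toG_range).trans (MonoidHom.ofInjective toG_injective).symm).isSimpleGroup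
  rcases Subgroup.Normal.eq_bot_or_eq_top (inferInstance : (commutator subH).Normal) with h | h
  · exfalso
    letI : CommGroup subH :=
      { (inferInstance : Group subH) with
        mul_comm := fun a b => by
          have hab : ⁅a, b⁆ ∈ commutator subH :=
            Subgroup.commutator_mem_commutator (Subgroup.mem_top a) (Subgroup.mem_top b)
          rw [h, Subgroup.mem_bot, commutatorElement_eq_one_iff_commute] at hab
          exact hab.eq }
    haveI : Finite subH := Nat.finite_of_card_ne_zero (by rw [card_subH]; norm_num)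
    have hp := IsSimpleGroup.prime_card (α := subH)
    rw [card_subH] at hp
    norm_num at hp
  · exact h

theorem multiplier_subH : Cfsg.HasCyclicSchurMultiplier subH 1 :=
  CfsgLib.Schur.hasSchurMultiplier_of_mulEquiv subHEquiv.symm
    (Cfsg.Agent.S2100.result (F := ZMod 5) (by rw [ZMod.card]))

variable {Δ : Type} [Group Δ] [Finite Δ] {τ : Δ →* G}

theorem pow_subH (hs : Function.Surjective τ) (hc : τ.ker ≤ Subgroup.center Δ)
    (hd : τ.ker ≤ commutator Δ) {z : Δ} (hz : z ∈ τ.ker) : z ^ 8835156 = 1 := by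
  haveI : Finite subH := Nat.finite_of_card_ne_zero (by rw [card_subH]; norm_num)
  have h := pow_index hs hc hd subH (perfect_kill hs hc subH perfect_subH (MonoidHom.id subH)
    Function.surjective_id (by simp) fun L _ _ σ hσ hσc hL => by
      obtain ⟨f, hf⟩ := multiplier_subH.2 L σ ⟨hσ, hσc, hL ▸ le_top⟩
      have h1 := Nat.card_le_card_of_surjective f hf
      rw [Nat.card_congr Multiplicative.toAdd, Nat.card_zmod] at h1
      exact h1.trans Nat.card_pos) z hz
  rwa [mul_one, index_eq] at h

theorem pow_subX (hs : Function.Surjective τ) (hc : τ.ker ≤ Subgroup.center Δ)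
    (hd : τ.ker ≤ commutator Δ) {z : Δ} (hz : z ∈ τ.ker) : z ^ 1296826875 = 1 := by
  haveI := finite_G
  obtain ⟨π, hπ, hk⟩ := exists_piX
  have hcard : Nat.card π.ker = 2 := by rw [hk, Nat.card_zpowers, orderOf_tX]
  have h := pow_index hs hc hd subX (perfect_kill hs hc subX perfect_subX π hπ
    (by rw [hk]; exact Subgroup.zpowers_le.mpr tX_central)
    fun L _ _ σ hσ hσc hL => hcard ▸ alt_bound L σ hσ hσc hL) z hz
  have hidx : subX.index = 1296826875 := by
    have e := Subgroup.card_mul_index subX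
    rw [card_subX, card_G] at e
    omega
  rwa [mul_one, hidx] at h

theorem pow_cyclic (hs : Function.Surjective τ) (hc : τ.ker ≤ Subgroup.center Δ)
    (hd : τ.ker ≤ commutator Δ) {p : ℕ} [Fact p.Prime] (hp : p ∣ 51765179004000000) {z : Δ}
    (hz : z ∈ τ.ker) : z ^ (51765179004000000 / p) = 1 := by
  haveI := finite_G
  obtain ⟨g, hg⟩ := exists_prime_orderOf_dvd_card' (G := G) p (card_G.symm ▸ hp)
  have h := pow_index hs hc hd (Subgroup.zpowers g) (cyclic_kill hc hs g) z hz
  have e := Subgroup.card_mul_index (Subgroup.zpowers g)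
  rw [Nat.card_zpowers, hg, card_G] at e
  have hidx : (Subgroup.zpowers g).index = 51765179004000000 / p := by
    rw [← e, Nat.mul_div_cancel_left _ (Fact.out : p.Prime).pos]
  rwa [mul_one, hidx] at h

theorem pow_subU (hs : Function.Surjective τ) (hc : τ.ker ≤ Subgroup.center Δ)
    (hd : τ.ker ≤ commutator Δ) {z : Δ} (hz : z ∈ τ.ker) :
    ∃ n, ¬ 3 ∣ n ∧ z ^ n = 1 := by
  haveI := finite_G
  refine ⟨subU.index * 2, fun h3 => ?_, pow_index hs hc hd subU (three_part hs hc) z hz⟩
  have h3' : 3 ∣ subU.index := (Nat.Coprime.dvd_of_dvd_mul_right (by norm_num) h3)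
  obtain ⟨k, hk⟩ := card_subU
  obtain ⟨j, hj⟩ := h3'
  have e := Subgroup.card_mul_index subU
  rw [hk, hj, card_G] at e
  have h6561 : 6561 ∣ 51765179004000000 := ⟨k * j, by rw [← e]; ring⟩
  norm_num at h6561

theorem ker_bot (hτ : Cfsg.IsStemExtension τ) : τ.ker = ⊥ := by
  obtain ⟨hs, hc, hd⟩ := hτ
  rw [Subgroup.eq_bot_iff_forall]
  intro z hz
  haveI : Fact (Nat.Prime 37) := ⟨by norm_num⟩
  haveI : Fact (Nat.Prime 67) := ⟨by norm_num⟩
  have h1 := orderOf_dvd_of_pow_eq_one (pow_subH hs hc hd hz)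
  have h2 := orderOf_dvd_of_pow_eq_one (pow_subX hs hc hd hz)
  have h37 := orderOf_dvd_of_pow_eq_one (pow_cyclic hs hc hd (p := 37) (by norm_num) hz)
  have h67 := orderOf_dvd_of_pow_eq_one (pow_cyclic hs hc hd (p := 67) (by norm_num) hz)
  obtain ⟨n, hn, hzn⟩ := pow_subU hs hc hd hz
  have h3 := orderOf_dvd_of_pow_eq_one hzn
  have h27 : orderOf z ∣ 27 := by
    have := Nat.dvd_gcd (Nat.dvd_gcd h1 h2) (Nat.dvd_gcd h37 h67)
    rwa [show Nat.gcd (Nat.gcd 8835156 1296826875)
      (Nat.gcd (51765179004000000 / 37) (51765179004000000 / 67)) = 27 by decide +kernel] at this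
  obtain ⟨i, hi, e⟩ := (Nat.dvd_prime_pow Nat.prime_three).mp (show orderOf z ∣ 3 ^ 3 from h27)
  rcases i with _ | i
  · exact orderOf_eq_one_iff.mp (by simpa using e)
  · exact absurd ((Dvd.intro_left _ (pow_succ 3 i).symm).trans (e ▸ h3)) hn

/-- The multiplier of the presented Lyons group is trivial. -/
theorem multiplier_Ly : Cfsg.HasCyclicSchurMultiplier G 1 := by
  haveI := finite_G
  exact CfsgLib.StemExt.hasCyclicSchurMultiplier_one fun Δ _ _ τ hτ => ker_bot hτ

end CfsgLib.LyCent
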