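import Cfsg.Agent.Lib.LyRep.Hom
import Cfsg.Agent.Lib.LyPres.Simple

/-!
Straight line programs in the presented Lyons group, evaluated in the representation by matrices.
-/

set_option autoImplicit false

namespace CfsgLib.LyCent

open CfsgLib.LyRep CfsgLib.LyPres CfsgLib.CosetEnum

theorem rho_injective : Function.Injective rho := by
  haveI := simple_G
  rw [← MonoidHom.ker_eq_bot_iff]
  rcases rho.normal_ker.eq_bot_or_eq_top with h | h
  · exact h
  · exfalso
    have hall : ∀ x, rho x = 1 := fun x => MonoidHom.mem_ker.mp (h ▸ Subgroup.mem_top x)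
    have e := hall (prodW fz [0])
    rw [rho_word (by decide)] at e
    have hoff : offOne [0] 0 = true ∨ offOne [0] 112 = true ∨ offOne [0] 1 = true := by decide +kernel
    have key : ∀ t, offOne [0] t = true → False := fun t ht => by
      simp only [offOne, Bool.and_eq_true, Nat.blt_eq, Bool.not_eq_true'] at ht
      have h3 := congrArg (fun u : U111 => u.val ⟨t / 111, by omega⟩ ⟨t % 111, by omega⟩) e
      simp only [val_prodW, Units.val_one, ← toM_oneN, toM_apply, Nat.div_add_mod] at h3
      rw [ZMod.natCast_eq_natCast_iff', Nat.mod_eq_of_lt (good_mW _ t ht.1),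
        Nat.mod_eq_of_lt (good_oneN t ht.1)] at h3
      rw [h3, Nat.beq_refl] at ht
      exact absurd ht.2 (by simp)
    rcases hoff with h | h | h <;> exact key _ h

/-- the element of a letter that has a matrix -/
def g12 (c : ℕ) : G := if Nat.blt c 8 || Nat.beq c 10 || Nat.beq c 11 then fz c else 1

theorem rho_g12 (c : ℕ) : (rho (g12 c)).val = toM (pk c) := by
  unfold g12
  split
  · rename_i h
    simp only [Bool.or_eq_true, Nat.blt_eq] at h
    have hc : c < 8 ∨ c = 10 ∨ c = 11 := by
      rcases h with (h | h) | h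
      exacts [Or.inl h, Or.inr (Or.inl (Nat.eq_of_beq_eq_true h)),
        Or.inr (Or.inr (Nat.eq_of_beq_eq_true h))]
    rw [rho_fz hc]
    rfl
  · rename_i h
    simp only [Bool.or_eq_true, Nat.blt_eq] at h
    have e : pk c = oneN := by
      unfold pk
      split <;> first | exact absurd (by decide) h | rfl
    rw [map_one, Units.val_one, e, toM_oneN]

/-- one step of spreading digits: blocks of `2 ^ k` of them move apart -/
noncomputable def spreadStep (k x : ℕ) : ℕ :=
  force (Nat.lor x (Nat.shiftLeft x (28 * 2 ^ k))) fun y =>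
    Nat.land y ((2 ^ (4 * 2 ^ k) - 1) *
      ((2 ^ (32 * 2 ^ k * 2 ^ (14 - k)) - 1) / (2 ^ (32 * 2 ^ k) - 1)))

/-- four binary digits for an entry become thirty-two -/
noncomputable def spreadFrom : ℕ → ℕ → ℕ
  | 0, x => x
  | k + 1, x => force (spreadStep k x) fun y => spreadFrom k y

/-- four binary digits for an entry become thirty-two -/
noncomputable def spread (x : ℕ) : ℕ := spreadFrom 14 x

/-- a packed matrix of an element -/
def IsMat (A : ℕ) (x : G) : Prop := Good A ∧ toM A = (rho x).val

theorem isMat_one : IsMat oneN 1 := ⟨good_oneN, by rw [toM_oneN, map_one, Units.val_one]⟩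

theorem IsMat.mul {A B : ℕ} {x y : G} (h : IsMat A x) (h' : IsMat B y) : IsMat (mulN A B) (x * y) :=
  ⟨good_mulN h.1 h'.1, by rw [toM_mulN h.1 h'.1, h.2, h'.2, map_mul, Units.val_mul]⟩

theorem IsMat.eq {A : ℕ} {x y : G} (h : IsMat A x) (h' : IsMat A y) : x = y :=
  rho_injective (Units.ext (h.2.symm.trans h'.2))

theorem isMat_getD : ∀ {l : List ℕ} {m : List G}, List.Forall₂ IsMat l m →
    ∀ i, IsMat (l.getD i oneN) (m.getD i 1)
  | _, _, .nil, i => by simpa using isMat_one
  | _, _, .cons h _, 0 => by simpa using h
  | _, _, .cons _ h, i + 1 => by simpa using isMat_getD h i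

/-- the packed letters -/
noncomputable def nInit : List ℕ := (List.range 12).map pk

/-- the letters -/
def gInit : List G := (List.range 12).map g12

theorem init_mat : List.Forall₂ IsMat nInit gInit := by
  rw [nInit, gInit, List.forall₂_map_left_iff, List.forall₂_map_right_iff, List.forall₂_same]
  exact fun c _ => ⟨good_pk c, (rho_g12 c).symm⟩

/-- the element of a key -/
def elAt (m : List G) (pos : List ℕ) (c : ℕ) : G := m.getD (pos.getD c 0) 1

/-- the packed product of keys -/
noncomputable def prodN (l : List ℕ) (pos : List ℕ) : List ℕ → ℕ → ℕ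
  | [], a => a
  | c :: w, a => force (mulN a (l.getD (pos.getD c 0) oneN)) fun v => prodN l pos w v

theorem prodN_spec {l : List ℕ} {m : List G} (h : List.Forall₂ IsMat l m) (pos : List ℕ) :
    ∀ (w : List ℕ) {a : ℕ} {x : G}, IsMat a x →
      IsMat (prodN l pos w a) (x * prodW (elAt m pos) w)
  | [], a, x, ha => by simpa [prodN] using ha
  | c :: w, a, x, ha => by
    rw [prodN, force_eq, prodW_cons, ← mul_assoc]
    exact prodN_spec h pos w (ha.mul (isMat_getD h _))

theorem prodN_one {l : List ℕ} {m : List G} (h : List.Forall₂ IsMat l m) (pos : List ℕ)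
    (w : List ℕ) : IsMat (prodN l pos w oneN) (prodW (elAt m pos) w) := by
  simpa using prodN_spec h pos w isMat_one

/-- the value of a word in a list -/
noncomputable def prodL (l : List ℕ) : List ℕ → ℕ → ℕ
  | [], a => a
  | c :: w, a => force (mulN a (l.getD c oneN)) fun v => prodL l w v

theorem prodL_spec {l : List ℕ} {m : List G} (h : List.Forall₂ IsMat l m) :
    ∀ (w : List ℕ) {a : ℕ} {x : G}, IsMat a x →
      IsMat (prodL l w a) (x * prodW (fun c => m.getD c 1) w)
  | [], a, x, ha => by simpa [prodL] using ha
  | c :: w, a, x, ha => by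
    rw [prodL, force_eq, prodW_cons, ← mul_assoc]
    exact prodL_spec h w (ha.mul (isMat_getD h _))

/-- the elements defined by words, each in terms of the earlier ones -/
def gStep : List (List ℕ) → List G → List G
  | [], m => m
  | w :: ws, m => gStep ws (m ++ [prodW (fun c => m.getD c 1) w])

theorem gStep_concat : ∀ (ws : List (List ℕ)) (w : List ℕ) (m : List G),
    gStep (ws ++ [w]) m = gStep ws m ++ [prodW (fun c => (gStep ws m).getD c 1) w]
  | [], w, m => rfl
  | u :: ws, w, m => by rw [List.cons_append, gStep, gStep, gStep_concat]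

/-- the check of one definition -/
noncomputable def defOK (ws : List (List ℕ)) (vs : List ℕ) (k : ℕ) : Bool :=
  matTest (spread (vs.getD k 0)) &&
    Nat.beq (prodL (nInit ++ (vs.take k).map spread) (ws.getD k []) oneN) (spread (vs.getD k 0))

theorem defs_mat {ws : List (List ℕ)} {vs : List ℕ} (hlen : ws.length = vs.length)
    (h : ∀ k < ws.length, defOK ws vs k = true) :
    List.Forall₂ IsMat (nInit ++ vs.map spread) (gStep ws gInit) := by
  suffices ∀ k ≤ ws.length,
      List.Forall₂ IsMat (nInit ++ (vs.take k).map spread) (gStep (ws.take k) gInit) by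
    have h2 := this ws.length le_rfl
    rwa [List.take_of_length_le (le_of_eq hlen.symm), List.take_of_length_le le_rfl] at h2
  intro k
  induction k with
  | zero => intro _; simpa [gStep] using init_mat
  | succ k ih =>
    intro hk
    have hv : k < vs.length := by omega
    have h' := ih (by omega)
    have hd := h k (by omega)
    simp only [defOK, Bool.and_eq_true] at hd
    rw [List.getD_eq_getElem _ _ hv, List.getD_eq_getElem _ _ (show k < ws.length by omega)] at hd
    obtain ⟨hg, he⟩ := hd
    have he' := Nat.eq_of_beq_eq_true he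
    have hp := prodL_spec h' ws[k] isMat_one
    rw [one_mul, he'] at hp
    rw [List.take_succ_eq_append_getElem hv, List.take_succ_eq_append_getElem (show k < ws.length by omega),
      gStep_concat, List.map_append, ← List.append_assoc]
    exact List.rel_append h' (List.Forall₂.cons hp List.Forall₂.nil)

/-- one relation holds -/
noncomputable def relOK (vs : List ℕ) (pos : List ℕ) (r : List ℕ × List ℕ) : Bool :=
  Nat.beq (prodN (nInit ++ vs.map spread) pos r.1 oneN) (prodN (nInit ++ vs.map spread) pos r.2 oneN)

/-- one entry differs from the unit matrix -/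
noncomputable def offOK (vs : List ℕ) (pos : List ℕ) (p : ℕ × ℕ) : Bool :=
  Nat.blt p.2 12321 &&
    !(Nat.beq (slot ((nInit ++ vs.map spread).getD (pos.getD p.1 0) oneN) p.2) (slot oneN p.2))

theorem relOK_spec {vs : List ℕ} {m : List G} (h : List.Forall₂ IsMat (nInit ++ vs.map spread) m)
    {pos : List ℕ} {r : List ℕ × List ℕ} (hr : relOK vs pos r = true) :
    prodW (elAt m pos) r.1 = prodW (elAt m pos) r.2 := by
  have a := prodN_one h pos r.1
  have b := prodN_one h pos r.2
  rw [Nat.eq_of_beq_eq_true hr] at a
  exact a.eq b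

theorem offOK_spec {vs : List ℕ} {m : List G} (h : List.Forall₂ IsMat (nInit ++ vs.map spread) m)
    {pos : List ℕ} {p : ℕ × ℕ} (hp : offOK vs pos p = true) : elAt m pos p.1 ≠ 1 := by
  intro e
  simp only [offOK, Bool.and_eq_true, Nat.blt_eq, Bool.not_eq_true'] at hp
  obtain ⟨ht, hne⟩ := hp
  have a := isMat_getD h (pos.getD p.1 0)
  rw [show m.getD (pos.getD p.1 0) 1 = 1 from e] at a
  have e2 := congrArg (fun M : Matrix (Fin 111) (Fin 111) (ZMod 5) =>
    M ⟨p.2 / 111, by omega⟩ ⟨p.2 % 111, by omega⟩) a.2
  simp only [map_one, Units.val_one, ← toM_oneN, toM_apply, Nat.div_add_mod] at e2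
  rw [ZMod.natCast_eq_natCast_iff', Nat.mod_eq_of_lt (a.1 _ ht),
    Nat.mod_eq_of_lt (good_oneN _ ht)] at e2
  rw [e2, Nat.beq_refl] at hne
  simp at hne

end CfsgLib.LyCent
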