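import Cfsg.Agent.Lib.LyCent.Data
import Cfsg.Agent.Lib.LyCent.Vals
import Cfsg.Agent.Lib.LyCent.Slp

/-!
The named elements and the words of their relations.
-/

set_option autoImplicit false

namespace CfsgLib.LyCent

open CfsgLib.CosetEnum

/-- the named elements -/
noncomputable def el (c : ℕ) : CfsgLib.LyPres.G := elAt (gStep defWords gInit) keyPos c

/-- the conjugate of `e` by the `k`th power of `g` -/
def eW (k : ℕ) : List ℕ := List.replicate k 3 ++ 0 :: List.replicate k 2

/-- a product of those conjugates with given exponents -/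
def vW (v : List ℕ) : List ℕ :=
  (List.range 5).flatMap fun i => (List.replicate (v.getD i 0) (eW i)).flatten

/-- the conjugation of `e_k` by key `x` -/
def cjRel (x : ℕ) (rows : List (List ℕ)) (k : ℕ) : List ℕ × List ℕ :=
  ((2 * x + 1) :: (eW k ++ [2 * x]), vW (rows.getD k []))

/-- the relations -/
def rels : List (List ℕ × List ℕ) :=
  (List.range 15).flatMap (fun k => [([2 * k, 2 * k + 1], []), ([2 * k + 1, 2 * k], [])]) ++
    [([0, 0, 0], []), ([10, 10], []), ([10, 0, 10], [1]), ([4, 4, 4], []), ([6, 6, 6], []),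
      ([4, 6], [6, 4]), ([9, 4, 8], List.replicate ((rowRA.getD 0 []).getD 0 0) 4 ++
        List.replicate ((rowRA.getD 0 []).getD 1 0) 6),
      ([9, 6, 8], List.replicate ((rowRA.getD 1 []).getD 0 0) 4 ++
        List.replicate ((rowRA.getD 1 []).getD 1 0) 6),
      ([9, 9, 9, 9, 4, 8, 8, 8, 8], [5]), ([9, 9, 9, 9, 6, 8, 8, 8, 8], [7]),
      ([10, 2], [2, 10]), ([10, 4], [4, 10]), ([10, 6], [6, 10]), ([10, 8], [8, 10])] ++
    (List.range 4).map (fun k => (0 :: eW (k + 1), eW (k + 1) ++ [0])) ++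
    [(eW 5, vW (rowG.getD 4 []))] ++
    (List.range 5).map (cjRel 2 rowA) ++ (List.range 5).map (cjRel 3 rowB) ++
    (List.range 5).map (cjRel 4 rowR) ++
    (List.range 9).map (fun i => ([12 + 2 * i, 12 + 2 * i, 12 + 2 * i], [])) ++
    (List.range 9).map (fun i => ([10, 12 + 2 * i], [12 + 2 * i, 10])) ++
    (List.range 9).flatMap (fun i => ((List.range 9).filter fun j => Nat.blt i j).map fun j =>
      ([12 + 2 * i, 12 + 2 * j, 12 + 2 * i, 12 + 2 * j], [10]))

/-- entries differing from the unit matrix -/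
def offs : List (ℕ × ℕ) :=
  [(0, offPos.getD 0 0), (12, offPos.getD 1 0), (10, offPos.getD 2 0)]

end CfsgLib.LyCent
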