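import Cfsg.Agent.Lib.LyCent.ThreeTab

/-!
Kernel checks of the tables for the element of order three.
-/

set_option autoImplicit false
set_option Elab.async false

namespace CfsgLib.LyCent.Three

open CfsgLib.CosetEnum CfsgLib.LyPres

theorem cls0 : ((List.range 300).all fun j => clsOK (0 + j)) = true := by decide +kernel

theorem cls1 : ((List.range 300).all fun j => clsOK (300 + j)) = true := by decide +kernel

theorem cls2 : ((List.range 300).all fun j => clsOK (600 + j)) = true := by decide +kernel

theorem cls3 : ((List.range 300).all fun j => clsOK (900 + j)) = true := by decide +kernel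

theorem cls4 : ((List.range 300).all fun j => clsOK (1200 + j)) = true := by decide +kernel

theorem cls5 : ((List.range 300).all fun j => clsOK (1500 + j)) = true := by decide +kernel

theorem cls6 : ((List.range 300).all fun j => clsOK (1800 + j)) = true := by decide +kernel

theorem cls7 : ((List.range 300).all fun j => clsOK (2100 + j)) = true := by decide +kernel

theorem cls8 : ((List.range 300).all fun j => clsOK (2400 + j)) = true := by decide +kernel

theorem cls9 : ((List.range 300).all fun j => clsOK (2700 + j)) = true := by decide +kernel

theorem cls10 : ((List.range 300).all fun j => clsOK (3000 + j)) = true := by decide +kernel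

theorem cls11 : ((List.range 300).all fun j => clsOK (3300 + j)) = true := by decide +kernel

theorem cls12 : ((List.range 300).all fun j => clsOK (3600 + j)) = true := by decide +kernel

theorem cls13 : ((List.range 300).all fun j => clsOK (3900 + j)) = true := by decide +kernel

theorem cls14 : ((List.range 300).all fun j => clsOK (4200 + j)) = true := by decide +kernel

theorem cls15 : ((List.range 300).all fun j => clsOK (4500 + j)) = true := by decide +kernel

theorem cls16 : ((List.range 300).all fun j => clsOK (4800 + j)) = true := by decide +kernel

theorem cls17 : ((List.range 300).all fun j => clsOK (5100 + j)) = true := by decide +kernel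

theorem cls18 : ((List.range 300).all fun j => clsOK (5400 + j)) = true := by decide +kernel

theorem cls19 : ((List.range 300).all fun j => clsOK (5700 + j)) = true := by decide +kernel

theorem cls20 : ((List.range 300).all fun j => clsOK (6000 + j)) = true := by decide +kernel

theorem cls21 : ((List.range 300).all fun j => clsOK (6300 + j)) = true := by decide +kernel

theorem cls22 : ((List.range 300).all fun j => clsOK (6600 + j)) = true := by decide +kernel

theorem cls23 : ((List.range 300).all fun j => clsOK (6900 + j)) = true := by decide +kernel

theorem cls24 : ((List.range 300).all fun j => clsOK (7200 + j)) = true := by decide +kernel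

theorem cls25 : ((List.range 300).all fun j => clsOK (7500 + j)) = true := by decide +kernel

theorem cls26 : ((List.range 300).all fun j => clsOK (7800 + j)) = true := by decide +kernel

theorem cls27 : ((List.range 300).all fun j => clsOK (8100 + j)) = true := by decide +kernel

theorem cls28 : ((List.range 300).all fun j => clsOK (8400 + j)) = true := by decide +kernel

theorem cls29 : ((List.range 300).all fun j => clsOK (8700 + j)) = true := by decide +kernel

theorem cls30 : ((List.range 300).all fun j => clsOK (9000 + j)) = true := by decide +kernel

theorem cls31 : ((List.range 300).all fun j => clsOK (9300 + j)) = true := by decide +kernel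

theorem cls32 : ((List.range 300).all fun j => clsOK (9600 + j)) = true := by decide +kernel

theorem cls33 : ((List.range 300).all fun j => clsOK (9900 + j)) = true := by decide +kernel

theorem cls34 : ((List.range 300).all fun j => clsOK (10200 + j)) = true := by decide +kernel

theorem cls35 : ((List.range 300).all fun j => clsOK (10500 + j)) = true := by decide +kernel

theorem cls36 : ((List.range 300).all fun j => clsOK (10800 + j)) = true := by decide +kernel

theorem cls37 : ((List.range 300).all fun j => clsOK (11100 + j)) = true := by decide +kernel

theorem cls38 : ((List.range 99).all fun j => clsOK (11400 + j)) = true := by decide +kernel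

theorem cls_ok : ∀ j < 11499, clsOK j = true := by
  intro j hj
  by_cases h0 : j < 300
  · have h := List.all_eq_true.mp cls0 (j - 0) (List.mem_range.mpr (by omega))
    rwa [show 0 + (j - 0) = j by omega] at h
  by_cases h1 : j < 600
  · have h := List.all_eq_true.mp cls1 (j - 300) (List.mem_range.mpr (by omega))
    rwa [show 300 + (j - 300) = j by omega] at h
  by_cases h2 : j < 900
  · have h := List.all_eq_true.mp cls2 (j - 600) (List.mem_range.mpr (by omega))
    rwa [show 600 + (j - 600) = j by omega] at h
  by_cases h3 : j < 1200
  · have h := List.all_eq_true.mp cls3 (j - 900) (List.mem_range.mpr (by omega))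
    rwa [show 900 + (j - 900) = j by omega] at h
  by_cases h4 : j < 1500
  · have h := List.all_eq_true.mp cls4 (j - 1200) (List.mem_range.mpr (by omega))
    rwa [show 1200 + (j - 1200) = j by omega] at h
  by_cases h5 : j < 1800
  · have h := List.all_eq_true.mp cls5 (j - 1500) (List.mem_range.mpr (by omega))
    rwa [show 1500 + (j - 1500) = j by omega] at h
  by_cases h6 : j < 2100
  · have h := List.all_eq_true.mp cls6 (j - 1800) (List.mem_range.mpr (by omega))
    rwa [show 1800 + (j - 1800) = j by omega] at h
  by_cases h7 : j < 2400
  · have h := List.all_eq_true.mp cls7 (j - 2100) (List.mem_range.mpr (by omega))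
    rwa [show 2100 + (j - 2100) = j by omega] at h
  by_cases h8 : j < 2700
  · have h := List.all_eq_true.mp cls8 (j - 2400) (List.mem_range.mpr (by omega))
    rwa [show 2400 + (j - 2400) = j by omega] at h
  by_cases h9 : j < 3000
  · have h := List.all_eq_true.mp cls9 (j - 2700) (List.mem_range.mpr (by omega))
    rwa [show 2700 + (j - 2700) = j by omega] at h
  by_cases h10 : j < 3300
  · have h := List.all_eq_true.mp cls10 (j - 3000) (List.mem_range.mpr (by omega))
    rwa [show 3000 + (j - 3000) = j by omega] at h
  by_cases h11 : j < 3600
  · have h := List.all_eq_true.mp cls11 (j - 3300) (List.mem_range.mpr (by omega))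
    rwa [show 3300 + (j - 3300) = j by omega] at h
  by_cases h12 : j < 3900
  · have h := List.all_eq_true.mp cls12 (j - 3600) (List.mem_range.mpr (by omega))
    rwa [show 3600 + (j - 3600) = j by omega] at h
  by_cases h13 : j < 4200
  · have h := List.all_eq_true.mp cls13 (j - 3900) (List.mem_range.mpr (by omega))
    rwa [show 3900 + (j - 3900) = j by omega] at h
  by_cases h14 : j < 4500
  · have h := List.all_eq_true.mp cls14 (j - 4200) (List.mem_range.mpr (by omega))
    rwa [show 4200 + (j - 4200) = j by omega] at h
  by_cases h15 : j < 4800
  · have h := List.all_eq_true.mp cls15 (j - 4500) (List.mem_range.mpr (by omega))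
    rwa [show 4500 + (j - 4500) = j by omega] at h
  by_cases h16 : j < 5100
  · have h := List.all_eq_true.mp cls16 (j - 4800) (List.mem_range.mpr (by omega))
    rwa [show 4800 + (j - 4800) = j by omega] at h
  by_cases h17 : j < 5400
  · have h := List.all_eq_true.mp cls17 (j - 5100) (List.mem_range.mpr (by omega))
    rwa [show 5100 + (j - 5100) = j by omega] at h
  by_cases h18 : j < 5700
  · have h := List.all_eq_true.mp cls18 (j - 5400) (List.mem_range.mpr (by omega))
    rwa [show 5400 + (j - 5400) = j by omega] at h
  by_cases h19 : j < 6000
  · have h := List.all_eq_true.mp cls19 (j - 5700) (List.mem_range.mpr (by omega))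
    rwa [show 5700 + (j - 5700) = j by omega] at h
  by_cases h20 : j < 6300
  · have h := List.all_eq_true.mp cls20 (j - 6000) (List.mem_range.mpr (by omega))
    rwa [show 6000 + (j - 6000) = j by omega] at h
  by_cases h21 : j < 6600
  · have h := List.all_eq_true.mp cls21 (j - 6300) (List.mem_range.mpr (by omega))
    rwa [show 6300 + (j - 6300) = j by omega] at h
  by_cases h22 : j < 6900
  · have h := List.all_eq_true.mp cls22 (j - 6600) (List.mem_range.mpr (by omega))
    rwa [show 6600 + (j - 6600) = j by omega] at h
  by_cases h23 : j < 7200
  · have h := List.all_eq_true.mp cls23 (j - 6900) (List.mem_range.mpr (by omega))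
    rwa [show 6900 + (j - 6900) = j by omega] at h
  by_cases h24 : j < 7500
  · have h := List.all_eq_true.mp cls24 (j - 7200) (List.mem_range.mpr (by omega))
    rwa [show 7200 + (j - 7200) = j by omega] at h
  by_cases h25 : j < 7800
  · have h := List.all_eq_true.mp cls25 (j - 7500) (List.mem_range.mpr (by omega))
    rwa [show 7500 + (j - 7500) = j by omega] at h
  by_cases h26 : j < 8100
  · have h := List.all_eq_true.mp cls26 (j - 7800) (List.mem_range.mpr (by omega))
    rwa [show 7800 + (j - 7800) = j by omega] at h
  by_cases h27 : j < 8400
  · have h := List.all_eq_true.mp cls27 (j - 8100) (List.mem_range.mpr (by omega))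
    rwa [show 8100 + (j - 8100) = j by omega] at h
  by_cases h28 : j < 8700
  · have h := List.all_eq_true.mp cls28 (j - 8400) (List.mem_range.mpr (by omega))
    rwa [show 8400 + (j - 8400) = j by omega] at h
  by_cases h29 : j < 9000
  · have h := List.all_eq_true.mp cls29 (j - 8700) (List.mem_range.mpr (by omega))
    rwa [show 8700 + (j - 8700) = j by omega] at h
  by_cases h30 : j < 9300
  · have h := List.all_eq_true.mp cls30 (j - 9000) (List.mem_range.mpr (by omega))
    rwa [show 9000 + (j - 9000) = j by omega] at h
  by_cases h31 : j < 9600
  · have h := List.all_eq_true.mp cls31 (j - 9300) (List.mem_range.mpr (by omega))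
    rwa [show 9300 + (j - 9300) = j by omega] at h
  by_cases h32 : j < 9900
  · have h := List.all_eq_true.mp cls32 (j - 9600) (List.mem_range.mpr (by omega))
    rwa [show 9600 + (j - 9600) = j by omega] at h
  by_cases h33 : j < 10200
  · have h := List.all_eq_true.mp cls33 (j - 9900) (List.mem_range.mpr (by omega))
    rwa [show 9900 + (j - 9900) = j by omega] at h
  by_cases h34 : j < 10500
  · have h := List.all_eq_true.mp cls34 (j - 10200) (List.mem_range.mpr (by omega))
    rwa [show 10200 + (j - 10200) = j by omega] at h
  by_cases h35 : j < 10800
  · have h := List.all_eq_true.mp cls35 (j - 10500) (List.mem_range.mpr (by omega))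
    rwa [show 10500 + (j - 10500) = j by omega] at h
  by_cases h36 : j < 11100
  · have h := List.all_eq_true.mp cls36 (j - 10800) (List.mem_range.mpr (by omega))
    rwa [show 10800 + (j - 10800) = j by omega] at h
  by_cases h37 : j < 11400
  · have h := List.all_eq_true.mp cls37 (j - 11100) (List.mem_range.mpr (by omega))
    rwa [show 11100 + (j - 11100) = j by omega] at h
  by_cases h38 : j < 11499
  · have h := List.all_eq_true.mp cls38 (j - 11400) (List.mem_range.mpr (by omega))
    rwa [show 11400 + (j - 11400) = j by omega] at h
  omega

theorem cls_last : (clsWord 11499).all (fun c => Nat.blt c 10) = true := by decide +kernel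

theorem five_edges : tabFive.edgesOK = true := by decide +kernel
theorem five_paths : tabFive.pathsOK = true := by decide +kernel
theorem five_sep : sepOK tabFive = true := by decide +kernel
theorem five_comm : fiveGens.all (fun w => w.all fun c => Nat.blt c 10) = true := by decide +kernel
theorem tab2_tri : triCover tab2 keep2 free2 wit2 = true := by decide +kernel
theorem tab2_free : free2.all (freeOK tab2) = true := by decide +kernel
theorem tab3_tri : triCover tab3 keep3 free3 wit3 = true := by decide +kernel
theorem tab3_free : free3.all (freeOK tab3) = true := by decide +kernel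
theorem tab4_tri : triCover tab4 keep4 free4 wit4 = true := by decide +kernel
theorem tab4_free : free4.all (freeOK tab4) = true := by decide +kernel
theorem keep_len : keep2.length = 2 ∧ keep3.length = 56 ∧ keep4.length = 20 := by decide +kernel
theorem fixThree_len : fixThree.length = 126 := by decide +kernel
theorem x_fix : certA.run 0 xW = 0 := by decide +kernel

end CfsgLib.LyCent.Three
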