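import Cfsg.Agent.Lib.LyCent.FusLift

/-!
The part of the double cover of the alternating group on eleven points that centralises a lift of a
three-cycle.
-/

set_option autoImplicit false
set_option linter.style.haveILetI false

namespace CfsgLib.LyCent.Three

open Equiv CfsgLib.AltPres CfsgLib.LyCent.Fus

/-- the eight points away from the three-cycle -/
abbrev Eight : Type := {i : Fin 11 // 3 ≤ (i : ℕ)}

/-- the alternating group on those points -/
abbrev AEight : Type := alternatingGroup Eight

/-- its embedding -/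
def embEight : AEight →* A :=
  ((Perm.ofSubtype (p := fun i : Fin 11 => 3 ≤ (i : ℕ))).comp
    (alternatingGroup Eight).subtype).codRestrict (alternatingGroup (Fin 11)) fun σ => by
    rw [Perm.mem_alternatingGroup, MonoidHom.comp_apply, Perm.sign_ofSubtype]
    exact Perm.mem_alternatingGroup.mp σ.2

theorem embEight_val (σ : AEight) :
    (embEight σ).1 = Perm.ofSubtype (p := fun i : Fin 11 => 3 ≤ (i : ℕ)) σ.1 := rfl

theorem embEight_injective : Function.Injective embEight := fun _ _ h =>
  Subtype.ext (Perm.ofSubtype_injective (congrArg Subtype.val h))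

theorem card_AEight : Nat.card AEight = 20160 := by
  have h8 : Fintype.card Eight = 8 := by decide
  haveI : Nontrivial Eight := Fintype.one_lt_card_iff_nontrivial.mp (by rw [h8]; norm_num)
  have h := two_mul_card_alternatingGroup (α := Eight)
  rw [Fintype.card_perm, h8] at h
  have e : Nat.factorial 8 = 40320 := by decide +kernel
  rw [e] at h
  show Nat.card (alternatingGroup Eight) = 20160
  rw [← Nat.card_eq_fintype_card] at h
  omega

theorem simple_AEight : IsSimpleGroup AEight :=
  alternatingGroup.isSimpleGroup (by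
    have h8 : Fintype.card Eight = 8 := by decide
    rw [Nat.card_eq_fintype_card, h8]; norm_num)

/-- the three-cycle -/
def pC : Perm (Fin 11) := swap 0 1 * swap 1 2

theorem pC_sign : Perm.sign pC = 1 := by decide +kernel

/-- the three-cycle, in the alternating group -/
def aC : A := ⟨pC, Perm.mem_alternatingGroup.mpr pC_sign⟩

theorem pC_cube : pC * pC * pC = 1 := by decide +kernel

theorem exists_mapC : ∃ π : subX →* A, Function.Surjective π ∧ π.ker = Subgroup.zpowers tX ∧
    π (yX 0 * yX 1) = aE ∧ π (yX 0) = aC := by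
  obtain ⟨π, hs, hk, hc⟩ := exists_piX_cyc
  let eA := altRelabel (show Bool ⊕ Fin 9 ≃ Fin 11 from
    (Equiv.sumCongr finTwoEquiv.symm (Equiv.refl _)).trans finSumFinEquiv)
  refine ⟨eA.toMonoidHom.comp π, eA.surjective.comp hs, ?_, ?_, ?_⟩
  · rw [← hk]
    ext x
    rw [MonoidHom.mem_ker, MonoidHom.mem_ker, MonoidHom.comp_apply, MulEquiv.coe_toMonoidHom,
      MulEquiv.map_eq_one_iff]
  · rw [MonoidHom.comp_apply, map_mul, hc, hc, MulEquiv.coe_toMonoidHom]
    apply Subtype.ext
    show (Equiv.permCongr _ (cyc3 (0 : Fin 9) * cyc3 (1 : Fin 9))) = pE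
    decide +kernel
  · rw [MonoidHom.comp_apply, hc, MulEquiv.coe_toMonoidHom]
    apply Subtype.ext
    show (Equiv.permCongr _ (cyc3 (0 : Fin 9))) = pC
    decide +kernel

theorem pC_comm (σ : AEight) : pC * (embEight σ).1 = (embEight σ).1 * pC := by
  have hd : Perm.Disjoint pC (embEight σ).1 := by
    intro i
    by_cases h : 3 ≤ (i : ℕ)
    · left
      have hall : ∀ i : Fin 11, 3 ≤ (i : ℕ) → pC i = i := by decide +kernel
      exact hall i h
    · right
      exact Perm.ofSubtype_apply_of_not_mem σ.1 h
  exact hd.commute.eq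

theorem mem_range_of_fix {σ : A} (h : ∀ i : Fin 11, (i : ℕ) < 3 → σ.1 i = i) :
    σ ∈ embEight.range := by
  have hp : ∀ i : Fin 11, 3 ≤ (σ.1 i : ℕ) ↔ 3 ≤ (i : ℕ) := by
    intro i
    constructor
    · intro hi
      by_contra hc
      rw [h i (by omega)] at hi
      exact hc hi
    · intro hi
      by_contra hc
      have h2 := h (σ.1 i) (by omega)
      have h3 := σ.1.injective h2
      rw [h3] at hc
      exact hc hi
  set τ : Perm Eight := σ.1.subtypePerm hp
  have hτ : Perm.ofSubtype (p := fun i : Fin 11 => 3 ≤ (i : ℕ)) τ = σ.1 :=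
    Perm.ofSubtype_subtypePerm hp fun i hi => by
      by_contra hc
      exact hi (h i (by omega))
  refine ⟨⟨τ, Perm.mem_alternatingGroup.mpr ?_⟩, Subtype.ext hτ⟩
  rw [← Perm.sign_ofSubtype (p := fun i : Fin 11 => 3 ≤ (i : ℕ)) τ, hτ]
  exact Perm.mem_alternatingGroup.mp σ.2

/-- what commutes with the three-cycle is one of its powers times a permutation of the other
points -/
theorem comm_cases {σ : A} (h : aC * σ = σ * aC) :
    σ ∈ embEight.range ∨ aC⁻¹ * σ ∈ embEight.range ∨ (aC * aC)⁻¹ * σ ∈ embEight.range := by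
  have h' : ∀ i, pC (σ.1 i) = σ.1 (pC i) := fun i => by
    have e := congrArg (fun a : A => a.1 i) h
    exact e
  have e0 : pC 0 = 1 ∧ pC 1 = 2 ∧ pC 2 = 0 := by decide +kernel
  have hall : ∀ j : Fin 11, pC j ≠ j → j = 0 ∨ j = 1 ∨ j = 2 := by decide +kernel
  have hmove : pC (σ.1 0) ≠ σ.1 0 := by
    rw [h', e0.1]
    exact fun e => absurd (σ.1.injective e) (by decide)
  have key : ∀ (k : A), pC * k.1 = k.1 * pC → σ.1 0 = k.1 0 → k⁻¹ * σ ∈ embEight.range := by
    intro k hk h0
    refine mem_range_of_fix fun i hi => ?_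
    have hk' : ∀ i, pC (k.1 i) = k.1 (pC i) := fun i => congrArg (fun p => p i) hk
    have h1 : σ.1 1 = k.1 1 := by
      have := h' 0
      rw [e0.1, h0, hk', e0.1] at this
      exact this.symm
    have h2 : σ.1 2 = k.1 2 := by
      have := h' 1
      rw [e0.2.1, h1, hk', e0.2.1] at this
      exact this.symm
    have hi' : i = 0 ∨ i = 1 ∨ i = 2 := by
      rcases (by omega : (i : ℕ) = 0 ∨ (i : ℕ) = 1 ∨ (i : ℕ) = 2) with e | e | e
      · exact Or.inl (Fin.ext e)
      · exact Or.inr (Or.inl (Fin.ext e))
      · exact Or.inr (Or.inr (Fin.ext e))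
    show k.1⁻¹ (σ.1 i) = i
    rw [Perm.inv_eq_iff_eq]
    rcases hi' with rfl | rfl | rfl
    · exact h0
    · exact h1
    · exact h2
  rcases hall _ hmove with h0 | h0 | h0
  · left
    have := key 1 (by simp) (by rw [h0]; rfl)
    simpa using this
  · exact Or.inr (Or.inl (key aC rfl (h0.trans e0.1.symm)))
  · refine Or.inr (Or.inr (key (aC * aC) ?_ ?_))
    · show pC * (pC * pC) = pC * pC * pC
      rw [mul_assoc]
    · show σ.1 0 = pC (pC 0)
      rw [h0, e0.1, e0.2.1]

/-- lifts of the even permutations of the eight points -/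
noncomputable def liftEight (π : subX →* A) : Subgroup subX := embEight.range.comap π

variable {π : subX →* A}

theorem card_liftEight (hs : Function.Surjective π) : Nat.card (liftEight π) = 40320 := by
  have hA : Nat.card A = 19958400 := by
    let e9 : Bool ⊕ Fin 9 ≃ Fin 11 :=
      (Equiv.sumCongr finTwoEquiv.symm (Equiv.refl _)).trans finSumFinEquiv
    rw [← card_altEleven]
    exact Nat.card_congr (altRelabel e9.symm).toEquiv
  have hr : Nat.card embEight.range = 20160 := by
    rw [← Nat.card_congr (MonoidHom.ofInjective embEight_injective).toEquiv, card_AEight]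
  have hidx : embEight.range.index = 990 := by
    have h := Subgroup.card_mul_index embEight.range
    rw [hr, hA] at h
    omega
  have h := Subgroup.card_mul_index (liftEight π)
  rw [liftEight] at h ⊢
  rw [Subgroup.index_comap_of_surjective _ hs, hidx, card_subX] at h
  omega

theorem tX_mem_liftEight (hk : π.ker = Subgroup.zpowers tX) : tX ∈ liftEight π := by
  rw [liftEight, Subgroup.mem_comap, pi_tX hk]
  exact one_mem _

theorem liftEight_comm (hk : π.ker = Subgroup.zpowers tX) (hC : π (yX 0) = aC) {d : subX}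
    (hd : d ∈ liftEight π) : d * yX 0 = yX 0 * d := by
  obtain ⟨σ, hσ⟩ := hd
  refine commute_three hk (by rw [hC]; exact Subtype.ext pC_cube) ?_
  rw [hC, ← hσ]
  exact Subtype.ext (pC_comm σ)

/-- what centralises the lift of the three-cycle -/
theorem comm_decomp (hk : π.ker = Subgroup.zpowers tX) (hC : π (yX 0) = aC) {d : subX}
    (hd : d * yX 0 = yX 0 * d) : ∃ k : ℕ, (yX 0 ^ k)⁻¹ * d ∈ liftEight π := by
  have h : aC * π d = π d * aC := by rw [← hC, ← map_mul, ← map_mul, hd]
  rcases comm_cases h with e | e | e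
  · exact ⟨0, by simpa [liftEight] using e⟩
  · refine ⟨1, ?_⟩
    rw [liftEight, Subgroup.mem_comap, pow_one, map_mul, map_inv, hC]
    exact e
  · refine ⟨2, ?_⟩
    rw [liftEight, Subgroup.mem_comap, pow_two, map_mul, map_inv, map_mul, hC]
    exact e

end CfsgLib.LyCent.Three
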