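import Cfsg.Agent.Lib.LyCent.ThreeWit

/-!
At most 9898 cosets are fixed by the element of order three.
-/

set_option autoImplicit false
set_option linter.style.haveILetI false

namespace CfsgLib.LyCent.Three

open CfsgLib.CosetEnum CfsgLib.TwistCoset CfsgLib.LyPres CfsgLib.LyRep

theorem cent_x0_le : Nat.card (Subgroup.centralizer ({x0} : Set P0)) * 11500 ≤ 5859000000 :=
  card_cent_x0 cls_ok cls_last

theorem card_cent_X_le :
    Nat.card (Subgroup.centralizer ({X} : Set G)) ≤
      {q : G ⧸ subH | X • q = q}.ncard * Nat.card (Subgroup.centralizer ({x0} : Set P0)) := by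
  haveI := finite_G
  haveI := finite_quot
  haveI := finite_P0
  set C := Subgroup.centralizer ({X} : Set G) with hC
  set Fx := {q : G ⧸ subH | X • q = q}
  have hmem : ∀ c : C, c.1 • base ∈ Fx := fun c => by
    show X • c.1 • base = c.1 • base
    rw [← mul_smul, ← Subgroup.mem_centralizer_singleton_iff.mp c.2, mul_smul]
    congr 1
    show ((X * 1 : G) : G ⧸ subH) = ((1 : G) : G ⧸ subH)
    rw [QuotientGroup.eq, mul_one, mul_one, X]
    exact inv_mem (toG_range.ge ⟨x0, rfl⟩)
  classical
  let sec : G ⧸ subH → C := fun q => if h : ∃ c : C, c.1 • base = q then h.choose else 1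
  have hsec : ∀ c : C, (sec (c.1 • base)).1 • base = c.1 • base := fun c => by
    have h : ∃ d : C, d.1 • base = c.1 • base := ⟨c, rfl⟩
    simp only [sec, dif_pos h]
    exact h.choose_spec
  have key : ∀ c : C, ∃ x : Subgroup.centralizer ({x0} : Set P0),
      toG x.1 = ((sec (c.1 • base))⁻¹ * c : C).1 := by
    intro c
    have h1 : ((sec (c.1 • base))⁻¹ * c : C).1 • base = base := by
      rw [Subgroup.coe_mul, Subgroup.coe_inv, mul_smul, inv_smul_eq_iff]
      exact (hsec c).symm
    generalize ((sec (c.1 • base))⁻¹ * c : C) = d at h1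
    have hd : d.1 ∈ subH := by
      have h2 : ((d.1 * 1 : G) : G ⧸ subH) = ((1 : G) : G ⧸ subH) := h1
      rw [QuotientGroup.eq, mul_one, mul_one] at h2
      simpa using inv_mem h2
    obtain ⟨x, hx⟩ := toG_range.le hd
    refine ⟨⟨x, Subgroup.mem_centralizer_singleton_iff.mpr (toG_injective ?_)⟩, hx⟩
    rw [map_mul, map_mul, hx]
    exact Subgroup.mem_centralizer_singleton_iff.mp d.2
  choose x hx using key
  let f : C → Fx × Subgroup.centralizer ({x0} : Set P0) := fun c => (⟨c.1 • base, hmem c⟩, x c)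
  have hf : Function.Injective f := by
    intro c d h
    simp only [f, Prod.mk.injEq, Subtype.mk.injEq] at h
    have h2 : ((sec (c.1 • base))⁻¹ * c : C) = (sec (d.1 • base))⁻¹ * d :=
      Subtype.ext (by rw [← hx c, ← hx d, h.2])
    rw [h.1] at h2
    exact mul_left_cancel h2
  have := Nat.card_le_card_of_injective f hf
  rwa [Nat.card_prod, Nat.card_coe_set_eq] at this

/-- the fixed cosets of one orbit -/
noncomputable def fixX (i : ℕ) : Set (G ⧸ subH) := {q ∈ TData.orb rig i | X • q = q}

theorem fixX_subset : {q : G ⧸ subH | X • q = q} ⊆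
    fixX 0 ∪ fixX 1 ∪ fixX 2 ∪ fixX 3 ∪ fixX 4 := by
  intro q hq
  obtain ⟨⟨i, y⟩, hy⟩ := toCoset_surj q
  have hns : tw.ns = 5 := by
    have h := tw_misc
    simp only [Bool.and_eq_true] at h
    exact Nat.eq_of_beq_eq_true h.2
  induction y using QuotientGroup.induction_on with
  | _ y =>
    have ho : q ∈ TData.orb rig i := by
      refine ⟨y, ?_⟩
      rw [← hy]
      rfl
    have h5 : (i : ℕ) < 5 := hns ▸ i.2
    have hmem : q ∈ fixX i := ⟨ho, hq⟩
    simp only [Set.mem_union]
    rcases (by omega : (i : ℕ) = 0 ∨ (i : ℕ) = 1 ∨ (i : ℕ) = 2 ∨ (i : ℕ) = 3 ∨ (i : ℕ) = 4) with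
      e | e | e | e | e <;> rw [e] at hmem <;> simp [hmem]

theorem fixX_mul (i : ℕ) :
    (fixX i).ncard * Nat.card (TData.stb rig i) ≤
      Nat.card {x : P0 // x⁻¹ * x0 * x ∈ TData.stb rig i} := by
  haveI := finite_P0
  haveI := finite_quot
  have hmemfix : ∀ q : fixX i, ∃ y : P0, toG y • TData.pt rig i = q.1 := fun q => q.2.1
  choose y hy using hmemfix
  have hfix : ∀ (q : fixX i) (k : TData.stb rig i), toG (y q * k.1) • TData.pt rig i = q.1 := by
    intro q k
    have hk : toG k.1 • TData.pt rig i = TData.pt rig i := k.2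
    rw [map_mul, mul_smul, hk, hy]
  have hin : ∀ (q : fixX i) (k : TData.stb rig i),
      (y q * k.1)⁻¹ * x0 * (y q * k.1) ∈ TData.stb rig i := by
    intro q k
    show toG _ • TData.pt rig i = TData.pt rig i
    rw [map_mul, map_mul, map_inv, mul_smul, mul_smul, hfix, show toG x0 = X from rfl, q.2.2,
      inv_smul_eq_iff, hfix]
  let f : fixX i × TData.stb rig i → {x : P0 // x⁻¹ * x0 * x ∈ TData.stb rig i} :=
    fun p => ⟨y p.1 * p.2.1, hin p.1 p.2⟩
  have hf : Function.Injective f := by
    rintro ⟨q, k⟩ ⟨q', k'⟩ h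
    have h' : y q * k.1 = y q' * k'.1 := congrArg Subtype.val h
    have hq : q = q' := Subtype.ext (by rw [← hfix q k, h', hfix])
    subst hq
    exact Prod.ext rfl (Subtype.ext (mul_left_cancel h'))
  have := Nat.card_le_card_of_injective f hf
  rwa [Nat.card_prod, Nat.card_coe_set_eq] at this

theorem conjX_count (K : Subgroup P0) :
    Nat.card {x : P0 // x⁻¹ * x0 * x ∈ K} ≤
      Nat.card {y : P0 // y ∈ K ∧ ∃ g : P0, g⁻¹ * x0 * g = y} *
        Nat.card (Subgroup.centralizer ({x0} : Set P0)) := by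
  haveI := finite_P0
  classical
  let sec : P0 → P0 := fun u => if h : ∃ z : P0, z⁻¹ * x0 * z = u then h.choose else 1
  have hsec : ∀ z, (sec (z⁻¹ * x0 * z))⁻¹ * x0 * sec (z⁻¹ * x0 * z) = z⁻¹ * x0 * z := fun z => by
    have h : ∃ w, w⁻¹ * x0 * w = z⁻¹ * x0 * z := ⟨z, rfl⟩
    simp only [sec, dif_pos h]
    exact h.choose_spec
  have hc : ∀ z, z * (sec (z⁻¹ * x0 * z))⁻¹ ∈ Subgroup.centralizer ({x0} : Set P0) := fun z => by
    have h := hsec z
    rw [Subgroup.mem_centralizer_singleton_iff]
    generalize sec (z⁻¹ * x0 * z) = w at h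
    calc z * w⁻¹ * x0 = z * (w⁻¹ * x0 * w) * w⁻¹ := by group
      _ = x0 * (z * w⁻¹) := by rw [h]; group
  let f : {x : P0 // x⁻¹ * x0 * x ∈ K} →
      {y : P0 // y ∈ K ∧ ∃ g : P0, g⁻¹ * x0 * g = y} × Subgroup.centralizer ({x0} : Set P0) :=
    fun x => (⟨x.1⁻¹ * x0 * x.1, x.2, x.1, rfl⟩, ⟨_, hc x.1⟩)
  have hf : Function.Injective f := by
    intro a b h
    simp only [f, Prod.mk.injEq, Subtype.mk.injEq] at h
    obtain ⟨h1, h2⟩ := h
    rw [h1] at h2
    exact Subtype.ext (mul_right_cancel h2)
  have := Nat.card_le_card_of_injective f hf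
  rwa [Nat.card_prod] at this

theorem fixX_small {i : ℕ} (hi : i < 5) (S : ElTab) (he : S.edgesOK = true) (hp : S.pathsOK = true)
    (hcov : gensCover i S = true) (hdvd : (tw.Kgrp gen0 119 i).index ∣ orbSize i)
    {keep free : List ℕ} {wit : List (ℕ × ℕ × ℕ)} (hc : triCover S keep free wit = true)
    (hfree : free.all (freeOK S) = true) :
    (fixX i).ncard * 11500 ≤ keep.length * orbSize i := by
  obtain ⟨hK, hcard⟩ := stb_eq hi hdvd
  have h1 := (fixX_mul i).trans (conjX_count _)
  have h2 := card_conj_le he hp (K := TData.stb rig i) (hK ▸ Kgrp_le_gens hcov) hc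
    (List.all_eq_true.mp hfree) x0_cube x0_ne x_fix
  have h3 := cent_x0_le
  generalize Nat.card (TData.stb rig i) = s at hcard h1
  generalize Nat.card (Subgroup.centralizer ({x0} : Set P0)) = c at h1 h3
  have h4 := h1.trans (Nat.mul_le_mul_right _ h2)
  generalize (fixX i).ncard = a at h4 ⊢
  generalize keep.length = k at h4 ⊢
  generalize orbSize i = o at hcard ⊢
  have h5 : a * 11500 * (s * o) ≤ k * o * (s * o) := by
    calc a * 11500 * (s * o) = (a * s) * (11500 * o) := by ring
      _ ≤ (k * c) * (11500 * o) := Nat.mul_le_mul_right _ h4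
      _ = (k * o) * (c * 11500) := by ring
      _ ≤ (k * o) * 5859000000 := Nat.mul_le_mul_left _ h3
      _ = k * o * (s * o) := by rw [hcard]
  exact Nat.le_of_mul_le_mul_right h5 (by rw [hcard]; norm_num)

theorem fixX_zero : (fixX 0).ncard ≤ 1 := by
  haveI := finite_quot
  have h := Set.ncard_le_ncard (show fixX 0 ⊆ TData.orb rig 0 from fun q hq => hq.1)
  rwa [← Nat.card_coe_set_eq (TData.orb rig 0), orb_facts.1 0 (by norm_num)] at h

theorem arith_orbit {a b : ℕ} (h : a * 300000 ≤ 126 * b) (h' : 3906 * b ≤ 5859000000) :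
    a ≤ 630 := by
  omega

theorem fixX_one : (fixX 1).ncard ≤ 630 := by
  haveI := finite_P0
  obtain ⟨hK, hcard⟩ := stb_eq (i := 1) (by norm_num) index_Kgrp.1
  have hN : certA.N = 3906 := certA_facts.2.1
  let p0 : Fin certA.N := ⟨stPoint, by rw [hN]; decide⟩
  let M := {x : P0 // act.left x p0 = p0}
  have hreach : ∀ p : Fin certA.N, ∃ x : P0, act.left x p0 = p := by
    intro p
    have hfull := Nat.eq_of_beq_eq_true orbit_full
    have hp : (p : ℕ) ∈ topLev0.orbit.map Prod.fst := by
      have h2 := (maskOf_spec (topLev0.orbit.map Prod.fst) 0 p).mp (by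
        rw [hfull, Nat.testBit_two_pow_sub_one]
        simpa [← hN] using p.2)
      simpa using h2
    obtain ⟨e, he, hpe⟩ := List.mem_map.mp hp
    have hok := top_ok.1
    simp only [topChain, cOK, Bool.and_eq_true, List.all_eq_true, Nat.blt_eq, lettersOK_iff] at hok
    obtain ⟨⟨⟨⟨-, hgs⟩, hpt⟩, -⟩, -⟩ := hok
    refine ⟨(prodW gen0 (pathWord topLev0.gens e.2))⁻¹, Fin.ext ?_⟩
    rw [Act.left_apply, inv_inv, act.apply _ (Act.pathWord_lt (fun g hg => (hgs g hg).1) _)]
    rw [show ((p0 : Fin certA.N) : ℕ) = topLev0.base from rfl]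
    exact (Nat.eq_of_beq_eq_true (hpt e he)).trans hpe
  choose r hr using hreach
  have hM : 3906 * Nat.card M ≤ 5859000000 := by
    have hf : Function.Injective fun p : Fin certA.N × M => r p.1 * p.2.1 := by
      rintro ⟨p, x⟩ ⟨q, y⟩ h
      have h1 := congrArg (fun z => act.left z p0) h
      simp only [map_mul, Equiv.Perm.mul_apply, x.2, y.2, hr] at h1
      subst h1
      exact Prod.ext rfl (Subtype.ext (mul_left_cancel h))
    have := Nat.card_le_card_of_injective _ hf
    rwa [Nat.card_prod, Nat.card_eq_fintype_card (α := Fin certA.N), Fintype.card_fin, hN, card_P0] at this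
  have hKfix : ∀ k ∈ TData.stb rig 1, act.left k p0 = p0 := by
    intro k hk
    rw [← hK] at hk
    induction hk using Subgroup.closure_induction with
    | mem x hx =>
      obtain ⟨f, hf, p, hfc, rfl⟩ := hx
      have h := List.all_eq_true.mp point_fixed f (List.mem_range.mpr hf)
      rw [hfc] at h
      simp only [Nat.beq_refl, Bool.not_true, Bool.false_or] at h
      have hlt : ∀ g ∈ p, g < certA.K := by
        have hall : ((List.range 119).all fun f => match tw.fct f with
            | .stab _ p => lettersOK certA p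
            | _ => true) = true := by decide +kernel
        have := List.all_eq_true.mp hall f (List.mem_range.mpr hf)
        rw [hfc] at this
        exact lettersOK_iff.mp this
      have : (act.ψ (prodW gen0 p)).unop p0 = p0 := Fin.ext (by
        rw [act.apply _ hlt]; exact Nat.eq_of_beq_eq_true h)
      rw [Act.left_apply, map_inv, MulOpposite.unop_inv, Equiv.Perm.inv_eq_iff_eq]
      exact this.symm
    | one => simp
    | mul a b _ _ ha hb => rw [map_mul, Equiv.Perm.mul_apply, hb, ha]
    | inv a _ ha => rw [map_inv, Equiv.Perm.inv_eq_iff_eq, ha]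
  have hfixpt : ∀ x : {x : P0 // x⁻¹ * x0 * x ∈ TData.stb rig 1},
      (act.left x.1 p0 : ℕ) ∈ fixThree := by
    intro x
    have h := hKfix _ x.2
    rw [map_mul, map_mul, map_inv, Equiv.Perm.mul_apply, Equiv.Perm.mul_apply,
      Equiv.Perm.inv_eq_iff_eq] at h
    generalize act.left x.1 p0 = q at h
    have h2 : (act.left x0 q : ℕ) = certA.run q (invW xW) := by
      rw [Act.left_apply, x0, ← prodW_invW]
      exact act.apply _ (by rw [certA_facts.2.2.1]; decide +kernel) q
    simp only [fixThree, List.mem_filter, List.mem_range]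
    refine ⟨hN ▸ q.2, ?_⟩
    rw [← h2, h, Nat.beq_refl]
  let f : {x : P0 // x⁻¹ * x0 * x ∈ TData.stb rig 1} → fixThree.toFinset × M := fun x =>
    (⟨(act.left x.1 p0 : ℕ), List.mem_toFinset.mpr (hfixpt x)⟩,
      ⟨(r (act.left x.1 p0))⁻¹ * x.1, by
        rw [map_mul, map_inv, Equiv.Perm.mul_apply, Equiv.Perm.inv_eq_iff_eq, hr]⟩)
  have hf : Function.Injective f := by
    intro a b h
    have e : act.left a.1 p0 = act.left b.1 p0 :=
      Fin.ext (congrArg (fun z => (z.1.1 : ℕ)) h)
    have h2 : (r (act.left a.1 p0))⁻¹ * a.1 = (r (act.left b.1 p0))⁻¹ * b.1 :=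
      congrArg (fun z => z.2.1) h
    rw [e] at h2
    exact Subtype.ext (mul_left_cancel h2)
  have h1 := (fixX_mul 1).trans (Nat.card_le_card_of_injective f hf)
  rw [Nat.card_prod, Nat.card_eq_fintype_card (α := fixThree.toFinset), Fintype.card_coe] at h1
  have h126 : fixThree.toFinset.card ≤ 126 := fixThree_len ▸ fixThree.toFinset_card_le
  have hs : Nat.card (TData.stb rig 1) = 300000 := by
    have : orbSize 1 = 19530 := rfl
    rw [this] at hcard
    exact Nat.eq_of_mul_eq_mul_right (by norm_num : 0 < 19530) (hcard.trans (by norm_num))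
  rw [hs] at h1
  exact arith_orbit (h1.trans (Nat.mul_le_mul_right _ h126)) hM

theorem arith_three {a b c d e u : ℕ} (ha : a ≤ 1) (hb : b ≤ 630)
    (hc : c * 11500 ≤ 2 * 5812500) (hd : d * 11500 ≤ 56 * 968750)
    (he : e * 11500 ≤ 20 * 2034375) (hu : u ≤ a + b + c + d + e) : u ≤ 9898 := by
  omega

theorem fixX_le : {q : G ⧸ subH | X • q = q}.ncard ≤ 9898 := by
  haveI := finite_quot
  obtain ⟨l2, l3, l4⟩ := keep_len
  have h2 := fixX_small (i := 2) (by norm_num) tab2 tab2_edges tab2_paths tab2_cover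
    index_Kgrp.2.1 tab2_tri tab2_free
  have h3 := fixX_small (i := 3) (by norm_num) tab3 tab3_edges tab3_paths tab3_cover
    index_Kgrp.2.2.1 tab3_tri tab3_free
  have h4 := fixX_small (i := 4) (by norm_num) tab4 tab4_edges tab4_paths tab4_cover
    index_Kgrp.2.2.2 tab4_tri tab4_free
  simp only [orbSize, l2, l3, l4] at h2 h3 h4
  have hu := (Set.ncard_le_ncard fixX_subset).trans
    (le_trans (Set.ncard_union_le _ _) (Nat.add_le_add_right
      (le_trans (Set.ncard_union_le _ _) (Nat.add_le_add_right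
        (le_trans (Set.ncard_union_le _ _) (Nat.add_le_add_right (Set.ncard_union_le _ _) _)) _)) _))
  exact arith_three fixX_zero fixX_one h2 h3 h4 hu

theorem centralizer_X_lt : Nat.card (Subgroup.centralizer ({X} : Set G)) < 2 * 2694384000 := by
  have h1 := card_cent_X_le.trans (Nat.mul_le_mul_right _ fixX_le)
  have h2 := cent_x0_le
  omega

end CfsgLib.LyCent.Three
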