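import Cfsg.Agent.Lib.LyCent.ThreeEight

/-!
Involutions of the double cover of the alternating group on the eight points.
-/

set_option autoImplicit false
set_option linter.style.haveILetI false

namespace CfsgLib.LyCent.Three

open Equiv CfsgLib.AltPres CfsgLib.LyCent.Fus

variable {π : subX →* A}

theorem support_embEight (σ : AEight) : (embEight σ).1.support.card = σ.1.support.card := by
  rw [embEight_val, Perm.support_ofSubtype, Finset.card_map]

/-- involutions moving all eight points are conjugate -/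
theorem eight_conj {σ τ : AEight} (hσ : σ.1 * σ.1 = 1) (hτ : τ.1 * τ.1 = 1)
    (hs : σ.1.support.card = 8) (ht : τ.1.support.card = 8) : ∃ g : AEight, g * τ * g⁻¹ = σ := by
  have hne : ∀ ρ : AEight, ρ.1.support.card = 8 → ρ.1 ≠ 1 := fun ρ h e => by
    rw [e, Perm.support_one] at h
    simp at h
  have hty : ∀ ρ : AEight, ρ.1 * ρ.1 = 1 → ρ.1.support.card = 8 →
      ρ.1.cycleType = Multiset.replicate 4 2 := fun ρ h h8 => by
    have ho : orderOf ρ.1 = 2 := orderOf_eq_prime_iff.mpr ⟨by rw [pow_two, h], hne ρ h8⟩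
    obtain ⟨n, hn⟩ := Perm.cycleType_prime_order (σ := ρ.1) (ho ▸ Nat.prime_two)
    rw [ho] at hn
    have hsum := Perm.sum_cycleType ρ.1
    rw [hn, Multiset.sum_replicate, smul_eq_mul, h8] at hsum
    rw [hn, show n + 1 = 4 by omega]
  have hc : IsConj τ.1 σ.1 := Perm.isConj_iff_cycleType_eq.mpr (by rw [hty σ hσ hs, hty τ hτ ht])
  obtain ⟨g, hg⟩ := isConj_iff.mp hc
  obtain ⟨a, ha⟩ := Finset.card_pos.mp (show 0 < τ.1.support.card by omega)
  set c : Perm Eight := swap a (τ.1 a) with hcdef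
  have hcs : Perm.sign c = -1 := Perm.sign_swap (Ne.symm (Perm.mem_support.mp ha))
  have hcc : c * τ.1 = τ.1 * c := by
    have h2 : τ.1 (τ.1 a) = a := by
      rw [← Perm.mul_apply, hτ]; rfl
    have := Equiv.mul_swap_eq_swap_mul τ.1 a (τ.1 a)
    rw [h2, swap_comm (τ.1 a) a] at this
    rw [hcdef, this]
  rcases Int.units_eq_one_or (Perm.sign g) with hsg | hsg
  · exact ⟨⟨g, Perm.mem_alternatingGroup.mpr hsg⟩, Subtype.ext hg⟩
  · refine ⟨⟨g * c, Perm.mem_alternatingGroup.mpr (by rw [map_mul, hsg, hcs]; rfl)⟩, Subtype.ext ?_⟩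
    show g * c * τ.1 * (g * c)⁻¹ = σ.1
    rw [mul_assoc g, hcc, ← mul_assoc, mul_inv_rev, mul_assoc _ c, ← mul_assoc c, mul_inv_cancel,
      one_mul, hg]

/-- an even permutation carrying `8, 9, 10` to `0, 1, 2` -/
def pR : Perm (Fin 11) := swap 0 8 * swap 1 9 * swap 2 10 * swap 3 4

theorem pR_facts : Perm.sign pR = 1 ∧
    (∀ i : Fin 11, (i : ℕ) < 3 → pR (pE (pR⁻¹ i)) = i) ∧
    (∀ i : Fin 11, (i : ℕ) < 3 → pR ((pD * (pA * pB)) (pR⁻¹ i)) = i) := by
  decide +kernel

/-- an involution of the lifts and an element carrying it to its other lift -/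
theorem exists_w_eight (hs : Function.Surjective π) (hk : π.ker = Subgroup.zpowers tX)
    (hE : π (yX 0 * yX 1) = aE) :
    ∃ w ∈ liftEight π, ∃ v ∈ liftEight π, w * w = 1 ∧ (π w).1.support.card = 8 ∧
      v * w * v⁻¹ = w * tX := by
  obtain ⟨w, v, hw, hvp, hw2, hv⟩ := exists_w_full hs hk hE
  obtain ⟨hR, hRE, hRW⟩ := pR_facts
  have hconj : ∀ (z : A) (i : Fin 11),
      (⟨pR, Perm.mem_alternatingGroup.mpr hR⟩ * z * (⟨pR, Perm.mem_alternatingGroup.mpr hR⟩ : A)⁻¹ :
        A).1 i = pR (z.1 (pR⁻¹ i)) := fun z i => rfl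
  have hval : (aD * (aA * aB)).1 = pD * (pA * pB) := rfl
  have hvalE : aE.1 = pE := rfl
  obtain ⟨r, hr⟩ := hs ⟨pR, Perm.mem_alternatingGroup.mpr hR⟩
  have hsw : (pD * (pA * pB)).support.card = 8 := by
    obtain ⟨-, -, -, -, -, -, -, -, -, -, -, -, -, -, -, -, -, -, -, h, -⟩ := perm_facts
    exact h
  refine ⟨r * w * r⁻¹, ?_, r * v * r⁻¹, ?_, ?_, ?_, ?_⟩
  · rw [liftEight, Subgroup.mem_comap, map_mul, map_mul, map_inv, hr, hw]
    refine mem_range_of_fix fun i hi => ?_
    rw [hconj, hval]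
    exact hRW i hi
  · rw [liftEight, Subgroup.mem_comap, map_mul, map_mul, map_inv, hr]
    refine mem_range_of_fix fun i hi => ?_
    rw [hconj, hvp, hvalE]
    exact hRE i hi
  · rw [show r * w * r⁻¹ * (r * w * r⁻¹) = r * (w * w) * r⁻¹ by group, hw2]
    group
  · rw [map_mul, map_mul, map_inv, hr, hw, Subgroup.coe_mul, Subgroup.coe_mul, Subgroup.coe_inv,
      Perm.card_support_conj]
    exact (congrArg (fun p : Perm (Fin 11) => p.support.card) hval).trans hsw
  · calc r * v * r⁻¹ * (r * w * r⁻¹) * (r * v * r⁻¹)⁻¹ = r * (v * w * v⁻¹) * r⁻¹ := by group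
      _ = r * w * (tX * r⁻¹) := by rw [hv]; group
      _ = r * w * r⁻¹ * tX := by rw [← tX_comm]; group

theorem card_support_eight {x : subX} (hs : Function.Surjective π)
    (hk : π.ker = Subgroup.zpowers tX) (hE : π (yX 0 * yX 1) = aE) (hx : x * x = 1) (h1 : x ≠ 1)
    (hT : x ≠ tX) : (π x).1.support.card = 8 := by
  have hp : π x ≠ 1 := fun e => (ker_cases hk e).elim h1 hT
  have hsq : (π x).1 * (π x).1 = 1 := by
    rw [← Subgroup.coe_mul, ← map_mul, hx, map_one]; rfl
  rcases conj_class hsq hp with h | ⟨g, hg⟩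
  · exfalso
    have h' := sq_of_dd hs hk hE hsq h
    rw [hx] at h'
    have := orderOf_tX
    rw [← h', orderOf_one] at this
    omega
  · obtain ⟨-, -, -, -, -, -, -, -, -, -, -, -, -, -, -, -, -, -, -, h, -⟩ := perm_facts
    have hval : (aD * (aA * aB)).1 = pD * (pA * pB) := rfl
    rw [← hg, Subgroup.coe_mul, Subgroup.coe_mul, Subgroup.coe_inv, Perm.card_support_conj, hval, h]

theorem eight_one_class (hs : Function.Surjective π) (hk : π.ker = Subgroup.zpowers tX)
    (hE : π (yX 0 * yX 1) = aE) {x w v : subX} (hxD : x ∈ liftEight π) (hx : x * x = 1)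
    (h1 : x ≠ 1) (hT : x ≠ tX) (hwD : w ∈ liftEight π) (hvD : v ∈ liftEight π) (hw2 : w * w = 1)
    (hw8 : (π w).1.support.card = 8) (hv : v * w * v⁻¹ = w * tX) :
    ∃ e ∈ liftEight π, e * w * e⁻¹ = x := by
  obtain ⟨σ, hσ⟩ := hxD
  obtain ⟨τ, hτ⟩ := hwD
  have hsq : ∀ (ρ : AEight) (z : subX), embEight ρ = π z → z * z = 1 → ρ.1 * ρ.1 = 1 := by
    intro ρ z h hz
    have e : embEight (ρ * ρ) = embEight 1 := by rw [map_mul, h, ← map_mul, hz, map_one, map_one]
    exact congrArg Subtype.val (embEight_injective e)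
  obtain ⟨g, hg⟩ := eight_conj (hsq σ x hσ hx) (hsq τ w hτ hw2)
    (by rw [← support_embEight, hσ]; exact card_support_eight hs hk hE hx h1 hT)
    (by rw [← support_embEight, hτ]; exact hw8)
  obtain ⟨e, he⟩ := hs (embEight g)
  have heD : e ∈ liftEight π := ⟨g, he.symm⟩
  have hz : π ((e * w * e⁻¹)⁻¹ * x) = 1 := by
    rw [map_mul, map_inv, map_mul, map_mul, map_inv, he, ← hτ, ← hσ, ← map_inv, ← map_mul,
      ← map_mul, hg, inv_mul_cancel]
  rcases ker_cases hk hz with h | h
  · exact ⟨e, heD, inv_mul_eq_one.mp h⟩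
  · refine ⟨e * v, mul_mem heD hvD, ?_⟩
    rw [inv_mul_eq_iff_eq_mul] at h
    calc e * v * w * (e * v)⁻¹ = e * (v * w * v⁻¹) * e⁻¹ := by group
      _ = e * w * (tX * e⁻¹) := by rw [hv]; group
      _ = x := by rw [h, ← tX_comm]; group

/-- such an involution is centralised by less than a Sylow 2-subgroup -/
theorem not_128_dvd (hs : Function.Surjective π) (hk : π.ker = Subgroup.zpowers tX)
    (hE : π (yX 0 * yX 1) = aE) {x : liftEight π} (hx : x * x = 1) (h1 : x ≠ 1)
    (hT : (x : subX) ≠ tX) :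
    ¬ 128 ∣ Nat.card (Subgroup.centralizer ({x} : Set (liftEight π))) := by
  classical
  haveI := LyPres.finite_G
  haveI : Fintype (liftEight π) := Fintype.ofFinite _
  obtain ⟨w, hwD, v, hvD, hw2, hw8, hv⟩ := exists_w_eight hs hk hE
  set C := Subgroup.centralizer ({x} : Set (liftEight π)) with hC
  let tD : liftEight π := ⟨tX, tX_mem_liftEight hk⟩
  have htc : ∀ g : liftEight π, g * tD = tD * g := fun g => Subtype.ext (tX_comm g.1)
  have htt : tD * tD = 1 := Subtype.ext tX_sq
  let P := {y : liftEight π // y * y = 1 ∧ y ≠ 1 ∧ y ≠ tD}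
  have hxT : x ≠ tD := fun e => hT (congrArg Subtype.val e)
  have hconj : ∀ g : liftEight π, g * x * g⁻¹ * (g * x * g⁻¹) = 1 ∧ g * x * g⁻¹ ≠ 1 ∧
      g * x * g⁻¹ ≠ tD := fun g => by
    refine ⟨?_, fun e => h1 ?_, fun e => hxT ?_⟩
    · rw [show g * x * g⁻¹ * (g * x * g⁻¹) = g * (x * x) * g⁻¹ by group, hx]
      group
    · rw [mul_inv_eq_one] at e
      exact mul_left_cancel (e.trans (mul_one g).symm)
    · rw [mul_inv_eq_iff_eq_mul, ← htc] at e
      exact mul_left_cancel e
  let f : liftEight π ⧸ C → P := fun q => Quotient.liftOn' q (fun g => ⟨g * x * g⁻¹, hconj g⟩)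
    fun a b hab => by
      have hab' : a⁻¹ * b ∈ C := QuotientGroup.leftRel_apply.mp hab
      rw [hC, Subgroup.mem_centralizer_singleton_iff] at hab'
      apply Subtype.ext
      show a * x * a⁻¹ = b * x * b⁻¹
      calc a * x * a⁻¹ = a * (x * (a⁻¹ * b)) * b⁻¹ := by group
        _ = a * ((a⁻¹ * b) * x) * b⁻¹ := by rw [hab']
        _ = b * x * b⁻¹ := by group
  have hclass : ∀ y : liftEight π, y * y = 1 → y ≠ 1 → y ≠ tD →
      ∃ e : liftEight π, e.1 * w * e.1⁻¹ = y.1 := fun y hy hy1 hy2 => by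
    obtain ⟨e, he, h⟩ := eight_one_class hs hk hE y.2 (congrArg Subtype.val hy)
      (fun e' => hy1 (Subtype.ext e')) (fun e' => hy2 (Subtype.ext e')) hwD hvD hw2 hw8 hv
    exact ⟨⟨e, he⟩, h⟩
  obtain ⟨g0, hg0⟩ := hclass x hx h1 hxT
  have hf : Function.Bijective f := by
    constructor
    · intro p q
      induction p using QuotientGroup.induction_on with
      | _ a =>
        induction q using QuotientGroup.induction_on with
        | _ b =>
          intro h
          have h' : a * x * a⁻¹ = b * x * b⁻¹ := congrArg Subtype.val h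
          rw [QuotientGroup.eq, hC, Subgroup.mem_centralizer_singleton_iff]
          calc a⁻¹ * b * x = a⁻¹ * (b * x * b⁻¹) * b := by group
            _ = a⁻¹ * (a * x * a⁻¹) * b := by rw [h']
            _ = x * (a⁻¹ * b) := by group
    · rintro ⟨y, hy1, hy2, hy3⟩
      obtain ⟨g, hg⟩ := hclass y hy1 hy2 hy3
      refine ⟨((g * g0⁻¹ : liftEight π) : liftEight π ⧸ C), Subtype.ext (Subtype.ext ?_)⟩
      show g.1 * g0.1⁻¹ * x.1 * (g.1 * g0.1⁻¹)⁻¹ = y.1
      rw [← hg0, ← hg]; group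
  have hcardP : Nat.card P = C.index := (Nat.card_eq_of_bijective f hf).symm
  let σ : Perm P := Function.Involutive.toPerm
    (fun p => ⟨p.1 * tD, by
      obtain ⟨y, hy, hy1, hy2⟩ := p
      refine ⟨?_, fun e => hy2 ?_, fun e => hy1 ?_⟩
      · rw [show y * tD * (y * tD) = y * (tD * y) * tD by group, ← htc,
          show y * (y * tD) * tD = (y * y) * (tD * tD) by group, hy, htt, one_mul]
      · show y = tD
        have e' : y = tD⁻¹ := eq_inv_of_mul_eq_one_left e
        rw [e', inv_eq_of_mul_eq_one_right htt]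
      · show y = 1
        exact mul_right_cancel (e.trans (one_mul tD).symm)⟩)
    fun p => Subtype.ext (by
      show p.1 * tD * tD = p.1
      rw [mul_assoc, htt, mul_one])
  have hfix : σ.support = Finset.univ := by
    ext p
    simp only [Perm.mem_support, Finset.mem_univ, iff_true]
    intro e
    have e' : p.1 * tD = p.1 := congrArg Subtype.val e
    have h' := mul_left_cancel (e'.trans (mul_one p.1).symm)
    have := orderOf_tX
    rw [show tX = 1 from congrArg Subtype.val h', orderOf_one] at this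
    omega
  have h2 : 2 ∣ Nat.card P := by
    rw [Nat.card_eq_fintype_card, ← Finset.card_univ, ← hfix]
    exact Perm.two_dvd_card_support (Equiv.ext fun p => Subtype.ext (by
      show p.1 * tD * tD = p.1
      rw [mul_assoc, htt, mul_one]))
  intro h128
  have hmul := Subgroup.card_mul_index C
  rw [← hcardP, card_liftEight hs] at hmul
  have h256 : 256 ∣ 40320 := hmul ▸ (Nat.mul_dvd_mul h128 h2)
  norm_num at h256

end CfsgLib.LyCent.Three
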