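import Cfsg.Agent.Lib.LyCent.ThreeFix
import Cfsg.Agent.Lib.LyCent.ThreeEight
import Cfsg.Agent.Lib.LyCent.ThreePart

/-!
The centraliser of the element of order three has order 2694384000.
-/

set_option autoImplicit false
set_option linter.style.haveILetI false

namespace CfsgLib.LyCent.Three

open CfsgLib.CosetEnum CfsgLib.LyPres CfsgLib.LyCent.Fus

theorem card_cent_conj {x y g : G} (h : g⁻¹ * x * g = y) :
    Nat.card (Subgroup.centralizer ({y} : Set G)) =
      Nat.card (Subgroup.centralizer ({x} : Set G)) := by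
  refine Nat.card_congr ((MulAut.conj g).toEquiv.subtypeEquiv fun a => ?_)
  rw [Subgroup.mem_centralizer_singleton_iff, Subgroup.mem_centralizer_singleton_iff]
  show a * y = y * a ↔ g * a * g⁻¹ * x = x * (g * a * g⁻¹)
  rw [← h]
  constructor
  · intro e
    calc g * a * g⁻¹ * x = g * (a * (g⁻¹ * x * g)) * g⁻¹ := by group
      _ = g * ((g⁻¹ * x * g) * a) * g⁻¹ := by rw [e]
      _ = x * (g * a * g⁻¹) := by group
  · intro e
    calc a * (g⁻¹ * x * g) = g⁻¹ * (g * a * g⁻¹ * x) * g := by group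
      _ = g⁻¹ * (x * (g * a * g⁻¹)) * g := by rw [e]
      _ = g⁻¹ * x * g * a := by group

theorem ek_three_conj : ∃ g : G, g⁻¹ * X * g = ek 3 := by
  refine ⟨gN cX * (gN cE)⁻¹ * Eg ^ 3, ?_⟩
  have h : (gN cE)⁻¹ * E0 * gN cE = (gN cX)⁻¹ * X * gN cX := by rw [E0_conj, X_conj]
  rw [ek]
  calc (gN cX * (gN cE)⁻¹ * Eg ^ 3)⁻¹ * X * (gN cX * (gN cE)⁻¹ * Eg ^ 3)
      = (Eg ^ 3)⁻¹ * (gN cE * ((gN cX)⁻¹ * X * gN cX) * (gN cE)⁻¹) * Eg ^ 3 := by group
    _ = (Eg ^ 3)⁻¹ * E0 * Eg ^ 3 := by rw [← h]; group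

theorem EA_comm : famE.grp ⊔ famA.grp ≤ Subgroup.centralizer ({ek 3} : Set G) := by
  have hrow : ∀ rows ∈ [rowA, rowB], rowF rows 3 = Pi.single (3 : Fin 5) 1 := by decide +kernel
  refine sup_le ?_ ?_ <;> (show Subgroup.closure _ ≤ _; rw [Subgroup.closure_le])
  · rintro _ ⟨i, rfl⟩
    rw [SetLike.mem_coe, Subgroup.mem_centralizer_singleton_iff]
    exact (ek_comm i.2 (by norm_num)).eq
  · rintro _ ⟨i, rfl⟩
    rw [SetLike.mem_coe, Subgroup.mem_centralizer_singleton_iff]
    fin_cases i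
    · have h := a1_row (3 : Fin 5)
      rw [hrow rowA (by simp), famE.vec_single] at h
      show A1 * ek 3 = ek 3 * A1
      have h' : A1⁻¹ * ek 3 * A1 = ek 3 := h
      calc A1 * ek 3 = A1 * (A1⁻¹ * ek 3 * A1) := by rw [h']
        _ = ek 3 * A1 := by group
    · have h := a2_row (3 : Fin 5)
      rw [hrow rowB (by simp), famE.vec_single] at h
      show A2 * ek 3 = ek 3 * A2
      have h' : A2⁻¹ * ek 3 * A2 = ek 3 := h
      calc A2 * ek 3 = A2 * (A2⁻¹ * ek 3 * A2) := by rw [h']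
        _ = ek 3 * A2 := by group

theorem dvd_three : 2187 ∣ Nat.card (Subgroup.centralizer ({X} : Set G)) := by
  obtain ⟨g, hg⟩ := ek_three_conj
  rw [← card_cent_conj hg, ← card_EA]
  exact Subgroup.card_dvd_of_le EA_comm

theorem dvd_five : 125 ∣ Nat.card (Subgroup.centralizer ({X} : Set G)) := by
  have hc := card_closure five_edges five_paths five_sep
  have hsz : tabFive.size = 125 := rfl
  rw [hsz] at hc
  rw [← hc, ← Subgroup.card_map_of_injective toG_injective]
  refine Subgroup.card_dvd_of_le ?_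
  rintro _ ⟨y, hy, rfl⟩
  rw [Subgroup.mem_centralizer_singleton_iff, X, ← map_mul, ← map_mul, (five_x0 hy).eq]

theorem dvd_eleven : 11 ∣ Nat.card (Subgroup.centralizer ({X} : Set G)) := by
  have h := orderOf_dvd_natCard (⟨gN cZ, Subgroup.mem_centralizer_singleton_iff.mpr cZ_comm.eq⟩ :
    Subgroup.centralizer ({X} : Set G))
  rwa [Subgroup.orderOf_mk, orderOf_cZ] at h

theorem dvd_eight : 40320 ∣ Nat.card (Subgroup.centralizer ({X} : Set G)) := by
  obtain ⟨π, hs, hk, -, hC⟩ := exists_mapC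
  rw [← card_cent_conj X_conj, ← card_liftEight hs,
    ← Subgroup.card_map_of_injective subX.subtype_injective]
  refine Subgroup.card_dvd_of_le ?_
  rintro _ ⟨d, hd, rfl⟩
  rw [Subgroup.mem_centralizer_singleton_iff]
  exact congrArg Subtype.val (liftEight_comm hk hC hd)

theorem card_cent_X : Nat.card (Subgroup.centralizer ({X} : Set G)) = 2694384000 := by
  haveI := finite_G
  have hpos : 0 < Nat.card (Subgroup.centralizer ({X} : Set G)) := Nat.card_pos
  have h1 := Nat.lcm_dvd (Nat.lcm_dvd (Nat.lcm_dvd dvd_three dvd_five) dvd_eleven) dvd_eight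
  have e : Nat.lcm (Nat.lcm (Nat.lcm 2187 125) 11) 40320 = 2694384000 := by decide +kernel
  rw [e] at h1
  obtain ⟨k, hk⟩ := h1
  have hlt := centralizer_X_lt
  generalize Nat.card (Subgroup.centralizer ({X} : Set G)) = n at hk hpos hlt ⊢
  omega

theorem card_cent_Y : Nat.card (Subgroup.centralizer ({Y 0} : Set G)) = 2694384000 := by
  rw [card_cent_conj X_conj, card_cent_X]

end CfsgLib.LyCent.Three
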