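import Cfsg.Agent.Lib.LyCent.ThreeOrder
import Cfsg.Agent.Lib.LyCent.ThreeInv

/-!
The centraliser of the element of order three is a triple cover of a simple group of order
898128000.
-/

set_option autoImplicit false
set_option linter.style.haveILetI false

namespace CfsgLib.LyCent.Three

open CfsgLib.CosetEnum CfsgLib.LyPres CfsgLib.LyCent.Fus

/-- the centraliser -/
noncomputable abbrev cY : Subgroup G := Subgroup.centralizer ({Y 0} : Set G)

theorem T_memY : T ∈ cY := by
  rw [Subgroup.mem_centralizer_singleton_iff]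
  exact (T_Y (by norm_num)).eq

/-- the element of order three, in its centraliser -/
noncomputable def yC : cY := ⟨Y 0, Subgroup.mem_centralizer_singleton_iff.mpr rfl⟩

/-- the involution, in that centraliser -/
noncomputable def tC : cY := ⟨T, T_memY⟩

theorem yC_central : yC ∈ Subgroup.center cY := by
  rw [Subgroup.mem_center_iff]
  exact fun g => Subtype.ext (Subgroup.mem_centralizer_singleton_iff.mp g.2)

theorem orderOf_yC : orderOf yC = 3 := by
  haveI : Fact (Nat.Prime 3) := ⟨by norm_num⟩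
  refine orderOf_eq_prime (Subtype.ext ?_) fun e => Y0_ne (congrArg Subtype.val e)
  show Y 0 ^ 3 = 1
  rw [pow_succ, pow_two]
  exact Y_cube (by norm_num)

/-- the central subgroup -/
noncomputable abbrev zY : Subgroup cY := Subgroup.zpowers yC

instance zY_normal : zY.Normal := ⟨fun x hx g => by
  rw [Subgroup.mem_center_iff.mp (Subgroup.zpowers_le.mpr yC_central hx) g, mul_inv_cancel_right]
  exact hx⟩

/-- the quotient -/
abbrev QY : Type := cY ⧸ zY

theorem card_cY : Nat.card cY = 2694384000 := card_cent_Y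

theorem card_QY : Nat.card QY = 898128000 := by
  have h := Subgroup.card_eq_card_quotient_mul_card_subgroup zY
  rw [card_cY, Nat.card_zpowers, orderOf_yC] at h
  show Nat.card (cY ⧸ zY) = _
  omega

theorem finite_cY : Finite cY := Nat.finite_of_card_ne_zero (by rw [card_cY]; norm_num)

theorem finite_QY : Finite QY := Nat.finite_of_card_ne_zero (by rw [card_QY]; norm_num)

/-- an element commuting with `T` modulo the central subgroup commutes with it -/
theorem comm_lift {g : cY} (h : (g : QY) * (tC : QY) = (tC : QY) * (g : QY)) :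
    (g : G) ∈ subX := by
  rw [← QuotientGroup.mk_mul, ← QuotientGroup.mk_mul, QuotientGroup.eq] at h
  obtain ⟨k, hk⟩ := Subgroup.mem_zpowers_iff.mp h
  have hk' : Y 0 ^ k = ((g : G) * T)⁻¹ * (T * g) := congrArg Subtype.val hk
  have hc : ∀ m : ℤ, Commute T (Y 0 ^ m) := fun m => (T_Y (by norm_num)).zpow_right m
  -- the conjugate of `T` is a product of `T` and a power of the central element
  have h1 : (g : G)⁻¹ * T * g = T * Y 0 ^ k := by rw [hk']; group
  have h2 : Y 0 ^ k * Y 0 ^ k = 1 := by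
    have e : ((g : G)⁻¹ * T * g) * ((g : G)⁻¹ * T * g) = 1 := by
      calc ((g : G)⁻¹ * T * g) * ((g : G)⁻¹ * T * g) = (g : G)⁻¹ * (T * T) * g := by group
        _ = 1 := by rw [T_sq]; group
    rw [h1] at e
    calc Y 0 ^ k * Y 0 ^ k = (T * T) * Y 0 ^ k * Y 0 ^ k := by rw [T_sq, one_mul]
      _ = T * (T * Y 0 ^ k) * Y 0 ^ k := by group
      _ = T * (Y 0 ^ k * T) * Y 0 ^ k := by rw [(hc k).eq]
      _ = T * Y 0 ^ k * (T * Y 0 ^ k) := by group
      _ = 1 := e
  have h3 : Y 0 ^ k * Y 0 ^ k * Y 0 ^ k = 1 := by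
    have hy : Y 0 ^ (3 : ℤ) = 1 := by
      rw [show (3 : ℤ) = ((3 : ℕ) : ℤ) from rfl, zpow_natCast, pow_succ, pow_two]
      exact Y_cube (by norm_num)
    rw [← zpow_add, ← zpow_add, show k + k + k = 3 * k by ring, zpow_mul, hy, one_zpow]
  rw [h2, one_mul] at h3
  rw [h3, mul_one] at h1
  rw [← centralizer_T, Subgroup.mem_centralizer_singleton_iff]
  calc (g : G) * T = (g : G) * ((g : G)⁻¹ * T * g) := by rw [h1]
    _ = T * g := by group

variable (π : subX →* A)

/-- the lifts of the permutations of eight points, in the centraliser -/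
noncomputable def dC : Subgroup cY := ((liftEight π).map subX.subtype).subgroupOf cY

/-- their image in the quotient -/
noncomputable def dQ : Subgroup QY := (dC π).map (QuotientGroup.mk' zY)

variable {π}

theorem mem_dC {g : cY} {d : subX} (hd : d ∈ liftEight π) (h : (d : G) = g) : g ∈ dC π :=
  ⟨d, hd, h⟩

theorem card_dC (hs : Function.Surjective π) (hk : π.ker = Subgroup.zpowers tX)
    (hC : π (yX 0) = aC) : Nat.card (dC π) = 40320 := by
  have hle : (liftEight π).map subX.subtype ≤ cY := by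
    rintro _ ⟨d, hd, rfl⟩
    rw [Subgroup.mem_centralizer_singleton_iff]
    exact congrArg Subtype.val (liftEight_comm hk hC hd)
  rw [dC, Nat.card_congr (Subgroup.subgroupOfEquivOfLe hle).toEquiv,
    Subgroup.card_map_of_injective subX.subtype_injective, card_liftEight hs]

theorem comm_t_mem (hk : π.ker = Subgroup.zpowers tX) (hC : π (yX 0) = aC) {q : QY}
    (h : q * (tC : QY) = (tC : QY) * q) : q ∈ dQ π := by
  obtain ⟨g, rfl⟩ := QuotientGroup.mk_surjective q
  have hg := comm_lift h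
  obtain ⟨k, hk'⟩ := comm_decomp hk hC (d := ⟨g, hg⟩)
    (Subtype.ext (Subgroup.mem_centralizer_singleton_iff.mp g.2))
  refine ⟨(yC ^ k)⁻¹ * g, mem_dC hk' rfl, ?_⟩
  rw [QuotientGroup.mk'_apply, QuotientGroup.eq, mul_inv_rev, inv_inv]
  have : g⁻¹ * yC ^ k * g = yC ^ k := by
    rw [mul_assoc, ← Subgroup.mem_center_iff.mp (pow_mem yC_central k) g, inv_mul_cancel_left]
  rw [this]
  exact pow_mem (Subgroup.mem_zpowers yC) k

theorem mk_injOn (hC : π (yX 0) = aC) {g : cY} (hg : g ∈ dC π) (h : (g : QY) = 1) : g = 1 := by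
  rw [QuotientGroup.eq_one_iff] at h
  obtain ⟨k, hk⟩ := Subgroup.mem_zpowers_iff.mp h
  obtain ⟨d, hd, hdg⟩ := hg
  have e : d = yX 0 ^ k := Subtype.ext (by
    show (d : G) = _
    rw [show (d : G) = (g : G) from hdg, ← hk]
    rfl)
  obtain ⟨σ, hσ⟩ := hd
  rw [e, map_zpow, hC] at hσ
  -- a power of the three-cycle fixing `0`
  have h0 : (aC ^ k).1 0 = 0 := by
    rw [← hσ, embEight_val, Equiv.Perm.ofSubtype_apply_of_not_mem _ (by decide)]
  have hcube : aC ^ (3 : ℤ) = 1 := by
    rw [show (3 : ℤ) = ((3 : ℕ) : ℤ) from rfl, zpow_natCast, pow_succ, pow_two]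
    exact Subtype.ext pC_cube
  have hy : yC ^ (3 : ℤ) = 1 := by
    rw [show (3 : ℤ) = ((3 : ℕ) : ℤ) from rfl, zpow_natCast, ← orderOf_yC, pow_orderOf_eq_one]
  have hmod : ∀ {M : Type} [Group M] (x : M), x ^ (3 : ℤ) = 1 → x ^ k = x ^ (k % 3) := by
    intro M _ x hx
    conv_lhs => rw [show k = k % 3 + 3 * (k / 3) by omega]
    rw [zpow_add, zpow_mul, hx, one_zpow, mul_one]
  rw [← hk, hmod yC hy]
  rw [hmod aC hcube] at h0
  rcases (by omega : k % 3 = 0 ∨ k % 3 = 1 ∨ k % 3 = 2) with e3 | e3 | e3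
  · rw [e3, zpow_zero]
  · rw [e3, zpow_one] at h0
    exact absurd h0 (show pC 0 ≠ 0 by decide +kernel)
  · rw [e3, show (2 : ℤ) = ((2 : ℕ) : ℤ) from rfl, zpow_natCast, pow_two] at h0
    exact absurd h0 (show pC (pC 0) ≠ 0 by decide +kernel)

theorem card_dQ (hs : Function.Surjective π) (hk : π.ker = Subgroup.zpowers tX)
    (hC : π (yX 0) = aC) : Nat.card (dQ π) = 40320 := by
  rw [dQ, ← card_dC hs hk hC]
  refine Nat.card_congr (MulEquiv.ofBijective (((QuotientGroup.mk' zY).comp (dC π).subtype).codRestrict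
    ((dC π).map (QuotientGroup.mk' zY)) fun d => ⟨d.1, d.2, rfl⟩) ⟨?_, ?_⟩).toEquiv.symm
  · rw [← MonoidHom.ker_eq_bot_iff, Subgroup.eq_bot_iff_forall]
    intro d hd
    exact Subtype.ext (mk_injOn hC d.2 (congrArg Subtype.val (MonoidHom.mem_ker.mp hd)))
  · rintro ⟨_, g, hg, rfl⟩
    exact ⟨⟨g, hg⟩, rfl⟩

theorem tC_mem (hk : π.ker = Subgroup.zpowers tX) : tC ∈ dC π :=
  mem_dC (tX_mem_liftEight hk) rfl

/-- a second conjugate of `T` among the lifts -/
theorem exists_conj_dQ (hk : π.ker = Subgroup.zpowers tX) (hC : π (yX 0) = aC) :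
    ∃ (h : QY) (y : subX), y ∈ liftEight π ∧ y * y = 1 ∧ y ≠ 1 ∧ y ≠ tX ∧
      ∃ yc : cY, (y : G) = yc ∧ (yc : QY) = h⁻¹ * tC * h := by
  obtain ⟨g, hgX, hu, hne⟩ := exists_wit
  obtain ⟨c, hc⟩ : ∃ c : G, c = gN cX := ⟨_, rfl⟩
  have hcc : Commute c T := hc ▸ cX_T
  have hcm : c ∈ subX := hc ▸ cX_mem
  have hcY : c⁻¹ * g * c ∈ cY := by
    rw [Subgroup.mem_centralizer_singleton_iff, ← X_conj, ← hc]
    calc c⁻¹ * g * c * (c⁻¹ * X * c) = c⁻¹ * (g * X) * c := by group
      _ = c⁻¹ * (X * g) * c := by rw [hgX.eq]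
      _ = c⁻¹ * X * c * (c⁻¹ * g * c) := by group
  have hcT : c⁻¹ * T * c = T := by rw [mul_assoc, ← hcc.eq, inv_mul_cancel_left]
  set hC' : cY := ⟨c⁻¹ * g * c, hcY⟩ with hhC
  have hval : ((hC'⁻¹ * tC * hC' : cY) : G) = c⁻¹ * (g⁻¹ * T * g) * c := by
    show (c⁻¹ * g * c)⁻¹ * T * (c⁻¹ * g * c) = _
    calc (c⁻¹ * g * c)⁻¹ * T * (c⁻¹ * g * c) = c⁻¹ * g⁻¹ * (c * T * c⁻¹) * g * c := by group
      _ = c⁻¹ * g⁻¹ * T * g * c := by rw [hcc.eq, mul_inv_cancel_right]
      _ = c⁻¹ * (g⁻¹ * T * g) * c := by group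
  have hX : c⁻¹ * (g⁻¹ * T * g) * c ∈ subX :=
    mul_mem (mul_mem (inv_mem hcm) hu) hcm
  let y : subX := ⟨c⁻¹ * (g⁻¹ * T * g) * c, hX⟩
  have hy2 : y * y = 1 := Subtype.ext (by
    show c⁻¹ * (g⁻¹ * T * g) * c * (c⁻¹ * (g⁻¹ * T * g) * c) = 1
    calc c⁻¹ * (g⁻¹ * T * g) * c * (c⁻¹ * (g⁻¹ * T * g) * c) = c⁻¹ * g⁻¹ * (T * T) * g * c := by
          group
      _ = 1 := by rw [T_sq]; group)
  have hy1 : y ≠ 1 := fun e => by
    have e' : c⁻¹ * (g⁻¹ * T * g) * c = 1 := congrArg Subtype.val e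
    refine T_ne ?_
    calc T = g * c * (c⁻¹ * (g⁻¹ * T * g) * c) * (g * c)⁻¹ := by group
      _ = 1 := by rw [e']; group
  have hyT : y ≠ tX := fun e => by
    have e' : c⁻¹ * (g⁻¹ * T * g) * c = T := congrArg Subtype.val e
    refine hne ?_
    calc g⁻¹ * T * g = c * (c⁻¹ * (g⁻¹ * T * g) * c) * c⁻¹ := by group
      _ = T := by rw [e', hcc.eq, mul_inv_cancel_right]
  -- the component along the three-cycle is trivial
  have hcomm : y * yX 0 = yX 0 * y := Subtype.ext (by
    have := Subgroup.mem_centralizer_singleton_iff.mp (hC'⁻¹ * tC * hC').2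
    rw [hval] at this
    exact this)
  obtain ⟨k, hk'⟩ := comm_decomp hk hC hcomm
  have hd := liftEight_comm hk hC hk'
  have hyD : y ∈ liftEight π := by
    have h0 : Commute (yX 0) y := hcomm.symm
    have h3 : (yX 0) ^ 3 = 1 := by
      rw [pow_succ, pow_two]; exact Subtype.ext (Y_cube (by norm_num))
    have hp : (yX 0 ^ k)⁻¹ * y * ((yX 0 ^ k)⁻¹ * y) = (yX 0 ^ (2 * k))⁻¹ := by
      have hcm : Commute y ((yX 0 ^ k)⁻¹) := (h0.symm.pow_right k).inv_right
      calc (yX 0 ^ k)⁻¹ * y * ((yX 0 ^ k)⁻¹ * y) = (yX 0 ^ k)⁻¹ * (y * (yX 0 ^ k)⁻¹) * y := by group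
        _ = (yX 0 ^ k)⁻¹ * ((yX 0 ^ k)⁻¹ * y) * y := by rw [hcm.eq]
        _ = (yX 0 ^ k)⁻¹ * (yX 0 ^ k)⁻¹ * (y * y) := by group
        _ = _ := by rw [hy2, mul_one, ← mul_inv_rev, ← pow_add, two_mul]
    have hmem : yX 0 ^ (2 * k) ∈ liftEight π := inv_mem_iff.mp (hp ▸ mul_mem hk' hk')
    have hk4 : yX 0 ^ k = (yX 0 ^ (2 * k)) ^ 2 := by
      rw [← pow_mul, show 2 * k * 2 = k + 3 * k by ring, pow_add, pow_mul, h3, one_pow, mul_one]
    have h := mul_mem (hk4 ▸ pow_mem hmem 2 : yX 0 ^ k ∈ liftEight π) hk'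
    rwa [mul_inv_cancel_left] at h
  refine ⟨(hC' : QY), y, hyD, hy2, hy1, hyT, hC'⁻¹ * tC * hC', hval.symm, ?_⟩
  rw [QuotientGroup.mk_mul, QuotientGroup.mk_mul, QuotientGroup.mk_inv]

/-- a double transposition of the eight points -/
def eightDD : Equiv.Perm Eight :=
  Equiv.swap (⟨3, by decide⟩ : Eight) ⟨4, by decide⟩ *
    Equiv.swap (⟨5, by decide⟩ : Eight) ⟨6, by decide⟩

theorem eightDD_facts : Equiv.Perm.sign eightDD = 1 ∧ eightDD * eightDD = 1 ∧
    eightDD.support.card = 4 := by
  decide +kernel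

/-- a normal subgroup of even order contains the lifts -/
theorem dQ_le (hs : Function.Surjective π) (hk : π.ker = Subgroup.zpowers tX)
    (hE : π (yX 0 * yX 1) = aE) (hC : π (yX 0) = aC) {N : Subgroup QY} [N.Normal]
    (hN : 2 ∣ Nat.card N) : dQ π ≤ N := by
  haveI := finite_QY
  haveI : Fact (Nat.Prime 2) := ⟨Nat.prime_two⟩
  -- a Sylow 2-subgroup among the lifts
  obtain ⟨P⟩ : Nonempty (Sylow 2 (dQ π)) := inferInstance
  have hcP : Nat.card ((P : Subgroup (dQ π)).map (dQ π).subtype) = 2 ^ (Nat.card QY).factorization 2 := by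
    rw [Subgroup.card_map_of_injective (dQ π).subtype_injective, P.card_eq_multiplicity,
      card_dQ hs hk hC, card_QY]
    congr 1
    rw [Nat.factorization_def _ Nat.prime_two, Nat.factorization_def _ Nat.prime_two,
      show (40320 : ℕ) = 2 ^ 7 * 315 by norm_num, show (898128000 : ℕ) = 2 ^ 7 * 7016625 by norm_num,
      padicValNat.mul (by norm_num) (by norm_num), padicValNat.mul (by norm_num) (by norm_num),
      padicValNat.eq_zero_of_not_dvd (show ¬ 2 ∣ 315 by norm_num),
      padicValNat.eq_zero_of_not_dvd (show ¬ 2 ∣ 7016625 by norm_num)]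
  let S : Sylow 2 QY := Sylow.ofCard _ hcP
  obtain ⟨⟨z, hzN⟩, hz⟩ := exists_prime_orderOf_dvd_card' 2 hN
  rw [Subgroup.orderOf_mk] at hz
  have hpg : IsPGroup 2 (Subgroup.zpowers z) := IsPGroup.of_card (n := 1) (by
    rw [Nat.card_zpowers, hz, pow_one])
  obtain ⟨S', hS'⟩ := hpg.exists_le_sylow
  obtain ⟨g, hg⟩ := MulAction.exists_smul_eq QY S' S
  have hgz : g * z * g⁻¹ ∈ (S : Subgroup QY) := by
    rw [← hg]
    exact Subgroup.smul_mem_pointwise_smul z (MulAut.conj g) _ (hS' (Subgroup.mem_zpowers z))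
  obtain ⟨p, -, hp⟩ := (hgz : g * z * g⁻¹ ∈ (P : Subgroup (dQ π)).map (dQ π).subtype)
  have hzD : g * z * g⁻¹ ∈ dQ π := hp ▸ p.2
  have hzN' : g * z * g⁻¹ ∈ N := (inferInstance : N.Normal).conj_mem z hzN g
  -- pull back to the lifts
  let ι : liftEight π →* QY :=
    { toFun := fun d => ((⟨(d.1 : G), by
        rw [Subgroup.mem_centralizer_singleton_iff]
        exact congrArg Subtype.val (liftEight_comm hk hC d.2)⟩ : cY) : QY)
      map_one' := rfl
      map_mul' := fun a b => rfl }
  have hι : ∀ q ∈ dQ π, ∃ d, ι d = q := by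
    rintro _ ⟨gg, ⟨d, hd, hdg⟩, rfl⟩
    exact ⟨⟨d, hd⟩, congrArg QuotientGroup.mk (Subtype.ext hdg)⟩
  set M := N.comap ι with hM
  let ψ : liftEight π →* AEight :=
    ((MonoidHom.ofInjective embEight_injective).symm.toMonoidHom).comp
      ((π.comp (liftEight π).subtype).codRestrict embEight.range fun d => d.2)
  have hψ : ∀ d : liftEight π, embEight (ψ d) = π d.1 := fun d => by
    exact congrArg Subtype.val ((MonoidHom.ofInjective embEight_injective).apply_symm_apply ⟨π d.1, d.2⟩)
  have hψs : Function.Surjective ψ := fun σ => by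
    obtain ⟨d, hd⟩ := hs (embEight σ)
    exact ⟨⟨d, σ, hd.symm⟩, embEight_injective ((hψ _).trans hd)⟩
  haveI := simple_AEight
  haveI : (M.map ψ).Normal := Subgroup.Normal.map (inferInstance : M.Normal) ψ hψs
  let tD : liftEight π := ⟨tX, tX_mem_liftEight hk⟩
  obtain ⟨h, y, hyD, hy2, hy1, hyT, yc, hyc, hyh⟩ := exists_conj_dQ hk hC
  have hιt : ι tD = (tC : QY) := rfl
  have hιy : ι ⟨y, hyD⟩ = h⁻¹ * tC * h := by
    rw [← hyh]
    exact congrArg QuotientGroup.mk (Subtype.ext hyc)
  have htop : M.map ψ = ⊤ := by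
    refine (Subgroup.Normal.eq_bot_or_eq_top (inferInstance : (M.map ψ).Normal)).resolve_left fun e => ?_
    -- all of `M` lies over the identity
    have hall : ∀ d ∈ M, d = 1 ∨ d = tD := fun d hd => by
      have hd' : ψ d = 1 := Subgroup.mem_bot.mp (e ▸ Subgroup.mem_map_of_mem ψ hd)
      have h1 : π d.1 = 1 := by rw [← hψ, hd', map_one]
      rcases ker_cases hk h1 with h' | h'
      · exact Or.inl (Subtype.ext h')
      · exact Or.inr (Subtype.ext h')
    obtain ⟨d, hd⟩ := hι _ hzD
    have hdM : d ∈ M := by rw [hM, Subgroup.mem_comap, hd]; exact hzN'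
    rcases hall d hdM with e' | e'
    · rw [e', map_one] at hd
      have h' : z = 1 := by
        calc z = g⁻¹ * (g * z * g⁻¹) * g := by group
          _ = 1 := by rw [← hd]; group
      rw [h', orderOf_one] at hz
      omega
    · rw [e', hιt] at hd
      have hyM : (⟨y, hyD⟩ : liftEight π) ∈ M := by
        rw [hM, Subgroup.mem_comap, hιy, hd]
        simpa using (inferInstance : N.Normal).conj_mem _ hzN' h⁻¹
      rcases hall _ hyM with e'' | e''
      · exact hy1 (congrArg Subtype.val e'')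
      · exact hyT (congrArg Subtype.val e'')
  -- a lift of a double transposition squares to the involution
  obtain ⟨σ, hσ2, hσ4⟩ : ∃ σ : AEight, σ.1 * σ.1 = 1 ∧ σ.1.support.card = 4 :=
    ⟨⟨eightDD, Equiv.Perm.mem_alternatingGroup.mpr eightDD_facts.1⟩, eightDD_facts.2⟩
  obtain ⟨d, hdM, hdσ⟩ := (htop ▸ Subgroup.mem_top σ : σ ∈ M.map ψ)
  have hd2 : d.1 * d.1 = tX := by
    refine sq_of_dd hs hk hE ?_ ?_ <;> rw [← hψ, hdσ]
    · rw [← Subgroup.coe_mul, ← map_mul, show σ * σ = 1 from Subtype.ext hσ2, map_one]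
      rfl
    · rw [support_embEight, hσ4]
  have htM : tD ∈ M := by
    have := mul_mem hdM hdM
    rwa [show d * d = tD from Subtype.ext hd2] at this
  intro q hq
  obtain ⟨d', rfl⟩ := hι q hq
  obtain ⟨m, hm, hmd⟩ := (htop ▸ Subgroup.mem_top (ψ d') : ψ d' ∈ M.map ψ)
  have h1 : π (m⁻¹ * d').1 = 1 := by
    rw [← hψ, map_mul, map_inv, hmd, inv_mul_cancel, map_one]
  have hrest : m⁻¹ * d' ∈ M := by
    rcases ker_cases hk h1 with e | e
    · rw [show m⁻¹ * d' = 1 from Subtype.ext e]
      exact one_mem _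
    · rw [show m⁻¹ * d' = tD from Subtype.ext e]
      exact htM
  have := mul_mem hm hrest
  rwa [mul_inv_cancel_left] at this

theorem mul_self_tC : (tC : QY) * (tC : QY) = 1 := by
  rw [← QuotientGroup.mk_mul, show tC * tC = 1 from Subtype.ext T_sq]
  rfl

/-- a normal subgroup of odd order is trivial -/
theorem odd_trivial (hs : Function.Surjective π) (hk : π.ker = Subgroup.zpowers tX)
    (hE : π (yX 0 * yX 1) = aE) (hC : π (yX 0) = aC) {N : Subgroup QY} [hNn : N.Normal]
    (hN : ¬ 2 ∣ Nat.card N) : N = ⊥ := by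
  haveI := finite_QY
  haveI : Fact (Nat.Prime 2) := ⟨Nat.prime_two⟩
  set t : QY := (tC : QY)
  -- the centraliser of `t` meets the subgroup trivially
  have hfix : ∀ n ∈ N, n * t = t * n → n = 1 := by
    intro n hn hc
    obtain ⟨g, hg, rfl⟩ := comm_t_mem hk hC hc
    by_contra hne
    have h2 : (N ⊓ dQ π) ≠ ⊥ := fun e => hne (Subgroup.mem_bot.mp (e ▸ ⟨hn, g, hg, rfl⟩))
    obtain ⟨d, hd, hdg⟩ := hg
    set D : Subgroup (liftEight π) := (N.comap (QuotientGroup.mk' zY)).comap
      ({ toFun := fun d => (⟨(d.1 : G), by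
            rw [Subgroup.mem_centralizer_singleton_iff]
            exact congrArg Subtype.val (liftEight_comm hk hC d.2)⟩ : cY)
         map_one' := rfl
         map_mul' := fun a b => rfl } : liftEight π →* cY) with hD
    let ψ : liftEight π →* A := π.comp (liftEight π).subtype
    have hdD : (⟨d, hd⟩ : liftEight π) ∈ D := by
      rw [hD, Subgroup.mem_comap, Subgroup.mem_comap]
      show QuotientGroup.mk' zY _ ∈ N
      convert hn using 2
      exact Subtype.ext hdg
    have hodd : ∀ e ∈ D, ¬ 2 ∣ orderOf e := fun e he h2' => by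
      refine hN (h2'.trans ?_)
      let j : liftEight π →* QY :=
        (QuotientGroup.mk' zY).comp ({ toFun := fun d => (⟨(d.1 : G), by
            rw [Subgroup.mem_centralizer_singleton_iff]
            exact congrArg Subtype.val (liftEight_comm hk hC d.2)⟩ : cY)
                                       map_one' := rfl
                                       map_mul' := fun a b => rfl } : liftEight π →* cY)
      have hjN : j e ∈ N := he
      have hinj : Function.Injective j := by
        rw [← MonoidHom.ker_eq_bot_iff, Subgroup.eq_bot_iff_forall]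
        intro x hx
        have := mk_injOn hC (g := ⟨(x.1 : G), by
          rw [Subgroup.mem_centralizer_singleton_iff]
          exact congrArg Subtype.val (liftEight_comm hk hC x.2)⟩) (mem_dC x.2 rfl)
          (MonoidHom.mem_ker.mp hx)
        exact Subtype.ext (Subtype.ext (congrArg (fun z : cY => (z : G)) this))
      have h' := orderOf_dvd_natCard (⟨j e, hjN⟩ : N)
      rwa [Subgroup.orderOf_mk, orderOf_injective j hinj e] at h'
    -- its image among the permutations
    let ρ : liftEight π →* AEight :=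
      ((MonoidHom.ofInjective embEight_injective).symm.toMonoidHom).comp
        (ψ.codRestrict embEight.range fun d => d.2)
    have hρ : ∀ d : liftEight π, embEight (ρ d) = π d.1 := fun d => by
      exact congrArg Subtype.val
        ((MonoidHom.ofInjective embEight_injective).apply_symm_apply ⟨π d.1, d.2⟩)
    have hρs : Function.Surjective ρ := fun σ => by
      obtain ⟨d, hd⟩ := hs (embEight σ)
      exact ⟨⟨d, σ, hd.symm⟩, embEight_injective ((hρ _).trans hd)⟩
    haveI := simple_AEight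
    haveI : (D.map ρ).Normal := Subgroup.Normal.map (inferInstance : D.Normal) ρ hρs
    rcases Subgroup.Normal.eq_bot_or_eq_top (inferInstance : (D.map ρ).Normal) with e | e
    · have h1 : π d = 1 := by
        have := Subgroup.mem_bot.mp (e ▸ Subgroup.mem_map_of_mem ρ hdD)
        rw [← hρ ⟨d, hd⟩, this, map_one]
      rcases ker_cases hk h1 with h' | h'
      · refine hne ?_
        have : g = 1 := Subtype.ext ((hdg.symm.trans (congrArg Subtype.val h')).trans rfl)
        rw [this, map_one]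
      · refine hodd _ hdD ?_
        rw [show (⟨d, hd⟩ : liftEight π) = ⟨tX, tX_mem_liftEight hk⟩ from Subtype.ext h',
          Subgroup.orderOf_mk, orderOf_tX]
    · obtain ⟨σ, hσ⟩ : ∃ σ : AEight, orderOf σ = 2 := exists_prime_orderOf_dvd_card' 2 (by
        rw [card_AEight]; norm_num)
      obtain ⟨d', hd', hdσ⟩ := (e ▸ Subgroup.mem_top σ : σ ∈ D.map ρ)
      refine hodd d' hd' ?_
      rw [← hσ, ← hdσ]
      exact orderOf_map_dvd ρ d'
  -- so `t` and its second conjugate invert the subgroup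
  have hinv : ∀ s : QY, s * s = 1 → (∀ n ∈ N, n * s = s * n → n = 1) → ∀ m ∈ N, s * m * s = m⁻¹ := by
    intro s hs2 hf m hm
    have hsi : s⁻¹ = s := inv_eq_of_mul_eq_one_right hs2
    let F : N → N := fun n => ⟨n.1⁻¹ * (s * n.1 * s), mul_mem (inv_mem n.2) (by
      simpa [hsi] using hNn.conj_mem n.1 n.2 s)⟩
    have hFi : Function.Injective F := by
      intro a b h
      have h' : a.1⁻¹ * (s * a.1 * s) = b.1⁻¹ * (s * b.1 * s) := congrArg Subtype.val h
      have e : b.1 * a.1⁻¹ * s = s * (b.1 * a.1⁻¹) := by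
        calc b.1 * a.1⁻¹ * s = b.1 * (a.1⁻¹ * (s * a.1 * s)) * (s⁻¹ * a.1⁻¹) := by group
          _ = b.1 * (b.1⁻¹ * (s * b.1 * s)) * (s⁻¹ * a.1⁻¹) := by rw [h']
          _ = s * (b.1 * a.1⁻¹) := by group
      have := hf _ (mul_mem b.2 (inv_mem a.2)) e
      exact Subtype.ext (mul_inv_eq_one.mp this).symm
    obtain ⟨n, hn⟩ := Finite.surjective_of_injective hFi ⟨m, hm⟩
    have hn' : n.1⁻¹ * (s * n.1 * s) = m := congrArg Subtype.val hn
    rw [← hn', mul_inv_rev, inv_inv, mul_inv_rev, mul_inv_rev, hsi]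
    calc s * (n.1⁻¹ * (s * n.1 * s)) * s = s * n.1⁻¹ * s * n.1 * (s * s) := by group
      _ = s * (n.1⁻¹ * s) * n.1 := by rw [hs2]; group
      _ = _ := by group
  obtain ⟨h, y, hyD, hy2, hy1, hyT, yc, hyc, hyh⟩ := exists_conj_dQ hk hC
  set y' : QY := h⁻¹ * t * h with hy'
  have ht2 : t * t = 1 := mul_self_tC
  have hy'2 : y' * y' = 1 := by
    calc y' * y' = h⁻¹ * (t * t) * h := by rw [hy']; group
      _ = 1 := by rw [ht2]; group
  have hfy : ∀ n ∈ N, n * y' = y' * n → n = 1 := by
    intro n hn e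
    have e' : (h * n * h⁻¹) * t = t * (h * n * h⁻¹) := by
      calc (h * n * h⁻¹) * t = h * (n * y') * h⁻¹ := by rw [hy']; group
        _ = h * (y' * n) * h⁻¹ := by rw [e]
        _ = t * (h * n * h⁻¹) := by rw [hy']; group
    have := hfix _ (hNn.conj_mem n hn h) e'
    rwa [mul_inv_eq_one, mul_eq_left] at this
  -- the product centralises the subgroup
  set M : Subgroup QY := Subgroup.centralizer (N : Set QY) with hM
  haveI : M.Normal := by rw [hM]; infer_instance
  have hprod : t * y' ∈ M := by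
    rw [hM, Subgroup.mem_centralizer_iff]
    intro m hm
    have i1 := hinv t ht2 hfix m hm
    have i2 := hinv y' hy'2 hfy m⁻¹ (inv_mem hm)
    rw [inv_inv] at i2
    calc m * (t * y') = (y' * m⁻¹ * y') * (t * y') := by rw [i2]
      _ = y' * (t * m * t) * y' * (t * y') := by rw [i1]
      _ = _ := by
        have hyt : y' * t = t * y' := by
          rw [← hyh, ← QuotientGroup.mk_mul, ← QuotientGroup.mk_mul]
          refine congrArg QuotientGroup.mk (Subtype.ext ?_)
          show (yc : G) * T = T * yc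
          rw [← hyc]
          exact congrArg Subtype.val (tX_comm y)
        calc y' * (t * m * t) * y' * (t * y') = (y' * t) * m * (t * (y' * t) * y') := by group
          _ = (t * y') * m * ((t * t) * (y' * y')) := by rw [hyt]; group
          _ = t * y' * m := by rw [ht2, hy'2, one_mul, mul_one]
  have hord : orderOf (t * y') = 2 := by
    refine orderOf_eq_prime ?_ fun e => ?_
    · have hyt : y' * t = t * y' := by
        rw [← hyh, ← QuotientGroup.mk_mul, ← QuotientGroup.mk_mul]
        refine congrArg QuotientGroup.mk (Subtype.ext ?_)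
        show (yc : G) * T = T * yc
        rw [← hyc]
        exact congrArg Subtype.val (tX_comm y)
      calc (t * y') ^ 2 = t * (y' * t) * y' := by rw [pow_two]; group
        _ = (t * t) * (y' * y') := by rw [hyt]; group
        _ = 1 := by rw [ht2, hy'2, one_mul]
    · have hyc' : (yc : QY) = t := by
        rw [hyh]
        calc y' = t * t * y' := by rw [ht2, one_mul]
          _ = t := by rw [mul_assoc, e, mul_one]
      have hmem : tC⁻¹ * yc ∈ dC π := mul_mem (inv_mem (tC_mem hk)) (mem_dC hyD hyc)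
      have := mk_injOn hC hmem (by
        rw [QuotientGroup.mk_mul, QuotientGroup.mk_inv, hyc', inv_mul_cancel])
      rw [inv_mul_eq_one] at this
      exact hyT (Subtype.ext (hyc.trans (congrArg Subtype.val this.symm)))
  have h2M : 2 ∣ Nat.card M := by
    have h' := orderOf_dvd_natCard (⟨t * y', hprod⟩ : M)
    rwa [Subgroup.orderOf_mk, hord] at h'
  have htM : t ∈ M := dQ_le hs hk hE hC h2M ⟨tC, tC_mem hk, rfl⟩
  rw [Subgroup.eq_bot_iff_forall]
  intro n hn
  exact hfix n hn (Subgroup.mem_centralizer_iff.mp htM n hn)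

/-- the normaliser of a Sylow 2-subgroup among the lifts stays among them -/
theorem normalizer_le (hs : Function.Surjective π) (hk : π.ker = Subgroup.zpowers tX)
    (hE : π (yX 0 * yX 1) = aE) (hC : π (yX 0) = aC) {S : Subgroup QY} (hS : S ≤ dQ π)
    (hcard : Nat.card S = 128) (htS : (tC : QY) ∈ S) :
    Subgroup.normalizer (S : Set QY) ≤ dQ π := by
  intro h hh
  refine comm_t_mem hk hC ?_
  have hn := Subgroup.mem_normalizer_iff.1 hh
  set x : QY := h * tC * h⁻¹ with hx
  suffices x = (tC : QY) by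
    rw [hx, mul_inv_eq_iff_eq_mul] at this
    exact this
  by_contra hne
  -- pull back to the lifts
  let ι : liftEight π →* QY :=
    (QuotientGroup.mk' zY).comp ({ toFun := fun d => (⟨(d.1 : G), by
            rw [Subgroup.mem_centralizer_singleton_iff]
            exact congrArg Subtype.val (liftEight_comm hk hC d.2)⟩ : cY)
                                   map_one' := rfl
                                   map_mul' := fun a b => rfl } : liftEight π →* cY)
  have hinj : Function.Injective ι := by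
    rw [← MonoidHom.ker_eq_bot_iff, Subgroup.eq_bot_iff_forall]
    intro x hx
    have := mk_injOn hC (g := ⟨(x.1 : G), by
      rw [Subgroup.mem_centralizer_singleton_iff]
      exact congrArg Subtype.val (liftEight_comm hk hC x.2)⟩) (mem_dC x.2 rfl)
      (MonoidHom.mem_ker.mp hx)
    exact Subtype.ext (Subtype.ext (congrArg (fun z : cY => (z : G)) this))
  have hrange : S ≤ ι.range := by
    intro q hq
    obtain ⟨g, ⟨d, hd, hdg⟩, rfl⟩ := hS hq
    exact ⟨⟨d, hd⟩, congrArg (QuotientGroup.mk' zY) (Subtype.ext hdg)⟩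
  have hxS : x ∈ S := (hn _).1 htS
  obtain ⟨d, hd⟩ := hrange hxS
  have hd2 : d * d = 1 := hinj (by
    rw [map_mul, hd, map_one, hx]
    calc h * (tC : QY) * h⁻¹ * (h * tC * h⁻¹) = h * ((tC : QY) * tC) * h⁻¹ := by group
      _ = 1 := by rw [mul_self_tC]; group)
  have hd1 : d ≠ 1 := fun e => by
    rw [e, map_one, hx, eq_comm, mul_inv_eq_one] at hd
    have ht1 : (tC : QY) = 1 := mul_left_cancel (hd.trans (mul_one h).symm)
    have := mk_injOn hC (tC_mem hk) ht1
    exact T_ne (congrArg Subtype.val this)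
  have hdT : (d : subX) ≠ tX := fun e => hne (by
    rw [← hd, show d = ⟨tX, tX_mem_liftEight hk⟩ from Subtype.ext e]
    rfl)
  refine not_128_dvd hs hk hE hd2 hd1 hdT ?_
  have hcS : Nat.card (S.comap ι) = 128 := by
    rw [← Subgroup.card_map_of_injective hinj, Subgroup.map_comap_eq_self hrange, hcard]
  rw [← hcS]
  refine Subgroup.card_dvd_of_le fun a ha => ?_
  rw [Subgroup.mem_centralizer_singleton_iff]
  apply hinj
  rw [map_mul, map_mul, hd]
  -- `x` is central because `t` is
  have hb : h⁻¹ * ι a * h ∈ S := (hn _).2 (by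
    rw [show h * (h⁻¹ * ι a * h) * h⁻¹ = ι a by group]
    exact ha)
  obtain ⟨b, hb'⟩ := hrange hb
  have hc : h⁻¹ * ι a * h * (tC : QY) = (tC : QY) * (h⁻¹ * ι a * h) := by
    rw [← hb']
    show ι b * ι ⟨tX, tX_mem_liftEight hk⟩ = ι ⟨tX, tX_mem_liftEight hk⟩ * ι b
    rw [← map_mul, ← map_mul]
    exact congrArg ι (Subtype.ext (tX_comm b.1))
  rw [hx]
  calc ι a * (h * tC * h⁻¹) = h * (h⁻¹ * ι a * h * tC) * h⁻¹ := by group
    _ = h * ((tC : QY) * (h⁻¹ * ι a * h)) * h⁻¹ := by rw [hc]
    _ = h * tC * h⁻¹ * ι a := by group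

theorem simple_QY : IsSimpleGroup QY := by
  haveI := finite_QY
  haveI : Fact (Nat.Prime 2) := ⟨Nat.prime_two⟩
  haveI : Nontrivial QY := Finite.one_lt_card_iff_nontrivial.mp (by rw [card_QY]; norm_num)
  obtain ⟨π, hs, hk, hE, hC⟩ := exists_mapC
  refine ⟨fun N hN => or_iff_not_imp_left.mpr fun hne => ?_⟩
  haveI := hN
  have h2 : 2 ∣ Nat.card N := by
    by_contra h
    exact hne (odd_trivial hs hk hE hC h)
  have hle := dQ_le hs hk hE hC h2
  -- a Sylow 2-subgroup of the lifts containing the involution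
  have htD : (tC : QY) ∈ dQ π := ⟨tC, tC_mem hk, rfl⟩
  have hot : orderOf (⟨(tC : QY), htD⟩ : dQ π) = 2 := by
    rw [Subgroup.orderOf_mk]
    refine orderOf_eq_prime (by rw [pow_two]; exact mul_self_tC) fun e => ?_
    exact T_ne (congrArg Subtype.val (mk_injOn hC (tC_mem hk) e))
  have hpg : IsPGroup 2 (Subgroup.zpowers (⟨(tC : QY), htD⟩ : dQ π)) :=
    IsPGroup.of_card (n := 1) (by rw [Nat.card_zpowers, hot, pow_one])
  obtain ⟨P, hP⟩ := hpg.exists_le_sylow
  set S : Subgroup QY := (P : Subgroup (dQ π)).map (dQ π).subtype with hSdef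
  have hcS : Nat.card S = 128 := by
    rw [hSdef, Subgroup.card_map_of_injective (dQ π).subtype_injective, P.card_eq_multiplicity,
      card_dQ hs hk hC, Nat.factorization_def _ Nat.prime_two,
      show (40320 : ℕ) = 2 ^ 7 * 315 by norm_num, padicValNat.mul (by norm_num) (by norm_num),
      padicValNat.prime_pow, padicValNat.eq_zero_of_not_dvd (show ¬ 2 ∣ 315 by norm_num)]
    norm_num
  have hSD : S ≤ dQ π := Subgroup.map_subtype_le _
  have htS : (tC : QY) ∈ S := ⟨⟨_, htD⟩, hP (Subgroup.mem_zpowers _), rfl⟩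
  have hSN : S ≤ N := hSD.trans hle
  -- the Frattini argument
  have hcN : Nat.card (S.subgroupOf N) = 2 ^ (Nat.card N).factorization 2 := by
    rw [Nat.card_congr (Subgroup.subgroupOfEquivOfLe hSN).toEquiv, hcS]
    have hd1 : 128 ∣ Nat.card N := hcS ▸ Subgroup.card_dvd_of_le hSN
    have hd2 : Nat.card N ∣ 898128000 := card_QY ▸ Subgroup.card_subgroup_dvd_card N
    have hpos : Nat.card N ≠ 0 := Nat.card_pos.ne'
    have h7 : 7 ≤ (Nat.card N).factorization 2 :=
      (Nat.prime_two.pow_dvd_iff_le_factorization hpos).1 (by norm_num; exact hd1)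
    have h7' : (Nat.card N).factorization 2 ≤ 7 := by
      by_contra hlt
      have h8 : 2 ^ 8 ∣ Nat.card N :=
        (Nat.prime_two.pow_dvd_iff_le_factorization hpos).2 (by omega)
      have := h8.trans hd2
      norm_num at this
    rw [show (Nat.card N).factorization 2 = 7 by omega]
    norm_num
  let SN : Sylow 2 N := Sylow.ofCard (S.subgroupOf N) hcN
  have hfr := Sylow.normalizer_sup_eq_top SN
  have hmap : ((SN : Subgroup N).map N.subtype) = S := by
    show (S.subgroupOf N).map N.subtype = S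
    exact Subgroup.map_subgroupOf_eq_of_le hSN
  rw [hmap] at hfr
  rw [eq_top_iff, ← hfr]
  exact sup_le ((normalizer_le hs hk hE hC hSD hcS htS).trans hle) le_rfl

theorem center_cY : Subgroup.center cY = zY := by
  haveI := finite_QY
  haveI := simple_QY
  refine le_antisymm (fun g hg => ?_) (Subgroup.zpowers_le.mpr yC_central)
  let K : Subgroup QY := (Subgroup.center cY).map (QuotientGroup.mk' zY)
  haveI : K.Normal := Subgroup.Normal.map inferInstance _ (QuotientGroup.mk'_surjective zY)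
  rcases Subgroup.Normal.eq_bot_or_eq_top (inferInstance : K.Normal) with h | h
  · rw [← QuotientGroup.eq_one_iff]
    exact Subgroup.mem_bot.mp (h ▸ (⟨g, hg, rfl⟩ : (g : QY) ∈ K))
  · exfalso
    letI : CommGroup QY :=
      { (inferInstance : Group QY) with
        mul_comm := fun a b => by
          obtain ⟨x, hx, rfl⟩ := (h ▸ Subgroup.mem_top a : a ∈ K)
          obtain ⟨y, rfl⟩ := QuotientGroup.mk'_surjective zY b
          rw [← map_mul, ← map_mul, Subgroup.mem_center_iff.mp hx y] }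
    have hp := IsSimpleGroup.prime_card (α := QY)
    rw [card_QY] at hp
    norm_num at hp

theorem lyons_triple : ∃ (H : Type) (_ : Group H) (_ : Finite H), Cfsg.IsLy H ∧ ∃ x : H,
    orderOf x = 3 ∧ Nat.card (Subgroup.center (Subgroup.centralizer ({x} : Set H))) = 3 ∧
      Cfsg.IsMcL ((Subgroup.centralizer ({x} : Set H)) ⧸
        Subgroup.center (Subgroup.centralizer ({x} : Set H))) := by
  refine ⟨G, inferInstance, finite_G, isLy, Y 0, ?_, ?_, ?_, ?_⟩
  · haveI : Fact (Nat.Prime 3) := ⟨by norm_num⟩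
    refine orderOf_eq_prime ?_ Y0_ne
    rw [pow_succ, pow_two]
    exact Y_cube (by norm_num)
  · show Nat.card (Subgroup.center cY) = 3
    rw [center_cY, Nat.card_zpowers, orderOf_yC]
  · haveI := simple_QY
    exact (QuotientGroup.quotientMulEquivOfEq center_cY).isSimpleGroup
  · show Nat.card (cY ⧸ Subgroup.center cY) = _
    rw [Nat.card_congr (QuotientGroup.quotientMulEquivOfEq center_cY).toEquiv]
    exact card_QY

end CfsgLib.LyCent.Three
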