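import Cfsg.Agent.Lib.LyCent.ThreeSlp

/-!
Kernel checks of the further programs and their equations.
-/

set_option autoImplicit false
set_option Elab.async false

namespace CfsgLib.LyCent.Three

open CfsgLib.CosetEnum CfsgLib.LyPres CfsgLib.LyRep

theorem moreChk0 : ((List.range 5).all fun k => moreOK moreWords moreVals k) = true := by decide +kernel

theorem moreChk1 : ((List.range 5).all fun k => moreOK moreWords moreVals (5 + k)) = true := by
  decide +kernel

theorem threeRels_ok : threeRels.all eqOK = true := by decide +kernel

theorem more_facts : moreWords.length = 10 ∧ moreVals.length = 10 ∧ 12 + defWords.length = 66 ∧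
    keyPos.getD 0 0 < 66 ∧ keyPos.getD 10 0 < 66 ∧ keyPos.getD 12 0 < 66 := by decide +kernel

theorem z_slot : zOff < 12321 ∧
    Nat.beq (slot ((baseN ++ moreVals.map spread).getD cZ oneN) zOff) (slot oneN zOff) = false := by
  decide +kernel

end CfsgLib.LyCent.Three
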