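import Cfsg.Agent.Lib.LyCent.FixChk
import Cfsg.Agent.Lib.LyCent.ThreeTables

/-!
Counts of conjugates of an element of order three inside tabulated subgroups of the group on 3906
points.
-/

set_option autoImplicit false

namespace CfsgLib.LyCent.Three

open CfsgLib.CosetEnum CfsgLib.TwistCoset CfsgLib.LyPres

/-- the word of the element of order three -/
def xW : List ℕ := [2, 0, 3, 1]

/-- the element of order three -/
noncomputable def x0 : P0 := prodW gen0 xW

/-- the inverse word -/
noncomputable def invW (p : List ℕ) : List ℕ := p.reverse.map certA.inv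

theorem prodW_invW : ∀ p : List ℕ, prodW gen0 (invW p) = (prodW gen0 p)⁻¹
  | [] => by simp [invW]
  | c :: p => by
    rw [invW, List.reverse_cons, List.map_append, prodW_append, ← invW, prodW_invW p]
    simp only [List.map_cons, List.map_nil, prodW_cons, prodW_nil, mul_one, mul_inv_rev]
    rw [← inv_eq_of_mul_eq_one_right (gen0_inv_mul c)]

/-- read a word from its digits in base 16 -/
noncomputable def readW : ℕ → ℕ → List ℕ
  | 0, _ => []
  | n + 1, x => if Nat.beq (x % 16) 0 then [] else (x % 16 - 1) :: readW n (x / 16)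

/-- the path of conjugate `j` -/
noncomputable def clsPath (j : ℕ) : List ℕ :=
  readW 16 (entW 64 (clsPaths.getD (j / 64) 0) (j % 64))

/-- the word of conjugate `j` -/
noncomputable def clsWord (j : ℕ) : List ℕ := invW (clsPath j) ++ (xW ++ clsPath j)

/-- the images of the base points under a word, packed -/
noncomputable def imgKey (w : List ℕ) : ℕ :=
  certA.run 0 w + 4096 * certA.run 13 w + 16777216 * certA.run 2 w + 68719476736 * certA.run 65 w

/-- the check at one place -/
noncomputable def clsOK (j : ℕ) : Bool :=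
  (clsWord j).all (fun c => Nat.blt c 10) && Nat.blt (imgKey (clsWord j)) (imgKey (clsWord (j + 1)))

theorem run_eq_of_eq {w w' : List ℕ} (hw : ∀ g ∈ w, g < certA.K) (hw' : ∀ g ∈ w', g < certA.K)
    (h : prodW gen0 w = prodW gen0 w') {b : ℕ} (hb : b < certA.N) :
    certA.run b w = certA.run b w' := by
  have e1 := act.apply w hw ⟨b, hb⟩
  have e2 := act.apply w' hw' ⟨b, hb⟩
  rw [h] at e1
  exact e1.symm.trans e2

theorem imgKey_eq {w w' : List ℕ} (hw : ∀ g ∈ w, g < certA.K) (hw' : ∀ g ∈ w', g < certA.K)
    (h : prodW gen0 w = prodW gen0 w') : imgKey w = imgKey w' := by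
  have hN : certA.N = 3906 := certA_facts.2.1
  unfold imgKey
  rw [run_eq_of_eq hw hw' h (b := 0) (by omega), run_eq_of_eq hw hw' h (b := 13) (by omega),
    run_eq_of_eq hw hw' h (b := 2) (by omega), run_eq_of_eq hw hw' h (b := 65) (by omega)]

theorem prodW_clsWord (j : ℕ) :
    prodW gen0 (clsWord j) = (prodW gen0 (clsPath j))⁻¹ * x0 * prodW gen0 (clsPath j) := by
  rw [clsWord, prodW_append, prodW_append, prodW_invW, mul_assoc, x0]

theorem card_cent_x0 (hok : ∀ j < 11499, clsOK j = true)
    (hlast : (clsWord 11499).all (fun c => Nat.blt c 10) = true) :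
    Nat.card (Subgroup.centralizer ({x0} : Set P0)) * 11500 ≤ 5859000000 := by
  haveI := finite_P0
  have hlt : ∀ j ≤ 11499, ∀ g ∈ clsWord j, g < certA.K := fun j hj g hg => by
    rw [certA_facts.2.2.1]
    rcases Nat.lt_or_eq_of_le hj with h | h
    · have := hok j h
      simp only [clsOK, Bool.and_eq_true, List.all_eq_true, Nat.blt_eq] at this
      exact this.1 g hg
    · subst h
      rw [List.all_eq_true] at hlast
      exact Nat.blt_eq.mp (hlast g hg)
  have hmono : ∀ i j, i < j → j ≤ 11499 → imgKey (clsWord i) < imgKey (clsWord j) := by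
    intro i j hij
    induction j with
    | zero => omega
    | succ j ih =>
      intro hj
      have h := hok j (by omega)
      simp only [clsOK, Bool.and_eq_true, Nat.blt_eq] at h
      rcases Nat.lt_or_eq_of_le (Nat.lt_succ_iff.mp hij) with h' | h'
      · exact lt_trans (ih h' (by omega)) h.2
      · exact h' ▸ h.2
  set C := Subgroup.centralizer ({x0} : Set P0) with hC
  let f : Fin 11500 → P0 ⧸ C := fun j => (((prodW gen0 (clsPath j))⁻¹ : P0) : P0 ⧸ C)
  have hf : Function.Injective f := by
    intro i j h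
    have h' : ((prodW gen0 (clsPath i))⁻¹)⁻¹ * (prodW gen0 (clsPath j))⁻¹ ∈ C := QuotientGroup.eq.mp h
    rw [inv_inv, hC, Subgroup.mem_centralizer_singleton_iff] at h'
    have e : prodW gen0 (clsWord i) = prodW gen0 (clsWord j) := by
      rw [prodW_clsWord, prodW_clsWord]
      generalize prodW gen0 (clsPath i) = p at h'
      generalize prodW gen0 (clsPath j) = q at h'
      calc p⁻¹ * x0 * p = p⁻¹ * (x0 * (p * q⁻¹)) * q := by group
        _ = p⁻¹ * (p * q⁻¹ * x0) * q := by rw [h']
        _ = q⁻¹ * x0 * q := by group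
    have hk := imgKey_eq (hlt i (by omega)) (hlt j (by omega)) e
    apply Fin.ext
    rcases Nat.lt_trichotomy (i : ℕ) j with hl | hl | hl
    · exact absurd hk (Nat.ne_of_lt (hmono _ _ hl (by omega)))
    · exact hl
    · exact absurd hk.symm (Nat.ne_of_lt (hmono _ _ hl (by omega)))
  have h2 := Nat.card_le_card_of_injective f hf
  rw [Nat.card_eq_fintype_card, Fintype.card_fin] at h2
  have h3 := Subgroup.card_mul_index C
  rw [card_P0] at h3
  rw [← h3]
  exact Nat.mul_le_mul_left _ h2

/-- candidates for elements of order three -/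
noncomputable def triList (S : ElTab) : List ℕ :=
  (List.range S.size).filter fun j =>
    strict j fun j => !(Nat.beq j 0) && Nat.beq (S.follow (S.follow j (S.path j)) (S.path j)) 0

/-- one conjugation to an element without fixed points -/
noncomputable def witOK (S : ElTab) (free : List ℕ) (e : ℕ × ℕ × ℕ) : Bool :=
  Nat.blt e.2.1 free.length && Nat.blt e.2.2 S.size &&
    Nat.beq (S.follow e.1 (S.path e.2.2)) (S.follow e.2.2 (S.path (free.getD e.2.1 0)))

/-- every candidate is kept or conjugated to an element without fixed points -/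
noncomputable def triCover (S : ElTab) (keep free : List ℕ) (wit : List (ℕ × ℕ × ℕ)) : Bool :=
  wit.all (witOK S free) && free.all (fun r => Nat.blt r S.size) &&
    (triList S).all fun j => keep.contains j || wit.any fun e => Nat.beq e.1 j

/-- the element of the table moves every point -/
noncomputable def freeOK (S : ElTab) (r : ℕ) : Bool :=
  strict r fun r => (List.range 3906).all fun v => !(Nat.beq (certA.run v (S.word (S.path r))) v)

theorem mem_word {S : ElTab} : ∀ x ∈ Subgroup.closure {x | ∃ g ∈ S.gens, prodW gen0 g = x},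
    ∃ p, (∀ a ∈ p, a < S.gens.length) ∧ prodW gen0 (S.word p) = x := by
  haveI := finite_P0
  intro x hx
  rw [← Subgroup.mem_toSubmonoid, Subgroup.closure_toSubmonoid_of_finite] at hx
  induction hx using Submonoid.closure_induction with
  | mem y hy =>
    obtain ⟨g, hg, rfl⟩ := hy
    obtain ⟨a, ha, rfl⟩ := List.getElem_of_mem hg
    exact ⟨[a], by simpa using ha,
      by simp [ElTab.word, pathWord, List.getElem?_eq_getElem ha]⟩
  | one => exact ⟨[], by simp, by simp [ElTab.word, pathWord]⟩
  | mul a b _ _ iha ihb =>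
    obtain ⟨p, hp1, rfl⟩ := iha
    obtain ⟨q, hq1, rfl⟩ := ihb
    exact ⟨p ++ q, fun a ha => (List.mem_append.mp ha).elim (hp1 a) (hq1 a),
      by rw [S.word_append, prodW_append]⟩

theorem path_spec {S : ElTab} (hp : S.pathsOK = true) {j : ℕ} (hj : j < S.size) :
    S.follow 0 (S.path j) = j ∧ ∀ a ∈ S.path j, a < S.gens.length := by
  simp only [ElTab.pathsOK, List.all_eq_true, List.mem_range, strict_eq, Bool.and_eq_true,
    Nat.blt_eq] at hp
  exact ⟨Nat.eq_of_beq_eq_true (hp j hj).1.1, (hp j hj).1.2⟩

theorem pos_size {S : ElTab} (he : S.edgesOK = true) : 0 < S.size := by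
  simp only [ElTab.edgesOK, Bool.and_eq_true, Nat.blt_eq] at he
  exact he.1.1.2

/-- the element of index `j` -/
noncomputable def tEl (S : ElTab) (j : ℕ) : P0 := prodW gen0 (S.word (S.path j))

theorem follow_zero {S : ElTab} (he : S.edgesOK = true) (hp : S.pathsOK = true) {p : List ℕ}
    (hpl : ∀ a ∈ p, a < S.gens.length) :
    S.follow 0 p < S.size ∧ prodW gen0 (S.word p) = tEl S (S.follow 0 p) := by
  obtain ⟨h1, -⟩ := S.follow_keys he p 0 (pos_size he) hpl
  obtain ⟨h2, h3⟩ := path_spec hp h1
  exact ⟨h1, S.eq_of_follow he hpl h3 h2.symm⟩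

theorem tEl_mul {S : ElTab} (he : S.edgesOK = true) (hp : S.pathsOK = true) {i j : ℕ}
    (hi : i < S.size) (hj : j < S.size) :
    S.follow i (S.path j) < S.size ∧ tEl S i * tEl S j = tEl S (S.follow i (S.path j)) := by
  obtain ⟨a1, a2⟩ := path_spec hp hi
  obtain ⟨b1, b2⟩ := path_spec hp hj
  have hl : ∀ a ∈ S.path i ++ S.path j, a < S.gens.length :=
    fun a ha => (List.mem_append.mp ha).elim (a2 a) (b2 a)
  obtain ⟨h1, h2⟩ := follow_zero he hp hl
  rw [S.follow_append, a1] at h1 h2
  exact ⟨h1, by rw [← h2, S.word_append, prodW_append]; rfl⟩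

theorem tEl_zero {S : ElTab} (he : S.edgesOK = true) (hp : S.pathsOK = true) : tEl S 0 = 1 := by
  obtain ⟨a1, a2⟩ := path_spec hp (pos_size he)
  have h := S.eq_of_follow he a2 (q := []) (by simp) (a1.trans rfl)
  simpa [tEl, ElTab.word, pathWord] using h

/-- distinct indices have distinct images of the base points -/
noncomputable def sepOK (S : ElTab) : Bool :=
  (List.range S.size).all fun i => (List.range i).all fun j =>
    !((List.range 4).all fun c => Nat.beq (S.key c i) (S.key c j))

theorem key_eq {S : ElTab} (he : S.edgesOK = true) (hp : S.pathsOK = true) {i j : ℕ}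
    (hi : i < S.size) (hj : j < S.size) (h : tEl S i = tEl S j) :
    ∀ c < 4, S.key c i = S.key c j := by
  intro c hc
  obtain ⟨a1, a2⟩ := path_spec hp hi
  obtain ⟨b1, b2⟩ := path_spec hp hj
  have h1 := (S.follow_keys he (S.path i) 0 (pos_size he) a2).2 c hc
  have h2 := (S.follow_keys he (S.path j) 0 (pos_size he) b2).2 c hc
  rw [a1] at h1
  rw [b1] at h2
  have he' := he
  simp only [ElTab.edgesOK, Bool.and_eq_true, List.all_eq_true, List.mem_range, Nat.blt_eq] at he'
  obtain ⟨⟨⟨-, -⟩, hroot⟩, -⟩ := he'
  have hb : tw.B.getD c 0 < certA.N := by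
    have hall : ∀ c < 4, tw.B.getD c 0 < certA.N := by decide +kernel
    exact hall c hc
  rw [Nat.eq_of_beq_eq_true (hroot c hc)] at h1 h2
  rw [h1, h2]
  exact run_eq_of_eq (S.word_lt he _) (S.word_lt he _) h hb

theorem tEl_mem {S : ElTab} (hp : S.pathsOK = true) {j : ℕ} (hj : j < S.size) :
    tEl S j ∈ Subgroup.closure {x | ∃ g ∈ S.gens, prodW gen0 g = x} := by
  obtain ⟨-, hl⟩ := path_spec hp hj
  unfold tEl
  generalize S.path j = p at hl
  induction p with
  | nil => simpa [ElTab.word, pathWord] using one_mem _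
  | cons a p ih =>
    rw [show a :: p = [a] ++ p from rfl, S.word_append, prodW_append]
    refine mul_mem ?_ (ih fun b hb => hl b (List.mem_cons_of_mem _ hb))
    have ha := hl a List.mem_cons_self
    refine Subgroup.subset_closure ⟨S.gens[a], List.getElem_mem ha, ?_⟩
    simp [ElTab.word, pathWord, List.getElem?_eq_getElem ha]

theorem card_closure {S : ElTab} (he : S.edgesOK = true) (hp : S.pathsOK = true)
    (hsep : sepOK S = true) :
    Nat.card (Subgroup.closure {x | ∃ g ∈ S.gens, prodW gen0 g = x}) = S.size := by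
  haveI := finite_P0
  simp only [sepOK, List.all_eq_true, List.mem_range] at hsep
  let f : Fin S.size → Subgroup.closure {x | ∃ g ∈ S.gens, prodW gen0 g = x} :=
    fun j => ⟨tEl S j, tEl_mem hp j.2⟩
  rw [← Nat.card_eq_of_bijective f ⟨fun i j h => ?_, fun x => ?_⟩, Nat.card_eq_fintype_card,
    Fintype.card_fin]
  · have hk := key_eq he hp i.2 j.2 (congrArg Subtype.val h)
    apply Fin.ext
    rcases Nat.lt_trichotomy (i : ℕ) j with hl | hl | hl
    · have := hsep j j.2 i hl
      rw [Bool.not_eq_true', ← Bool.not_eq_true, List.all_eq_true] at this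
      exact (this fun c hc => by rw [hk c (List.mem_range.mp hc)]; exact Nat.beq_refl _).elim
    · exact hl
    · have := hsep i i.2 j hl
      rw [Bool.not_eq_true', ← Bool.not_eq_true, List.all_eq_true] at this
      exact (this fun c hc => by rw [hk c (List.mem_range.mp hc)]; exact Nat.beq_refl _).elim
  · obtain ⟨p, hl, e⟩ := mem_word x.1 x.2
    obtain ⟨h1, h2⟩ := follow_zero he hp hl
    exact ⟨⟨_, h1⟩, Subtype.ext (h2.symm.trans e)⟩

/-- the conjugates of the element of order three in a tabulated subgroup -/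
theorem card_conj_le {S : ElTab} (he : S.edgesOK = true) (hp : S.pathsOK = true) {K : Subgroup P0}
    (hK : K ≤ Subgroup.closure {x | ∃ g ∈ S.gens, prodW gen0 g = x})
    {keep free : List ℕ} {wit : List (ℕ × ℕ × ℕ)} (hc : triCover S keep free wit = true)
    (hfree : ∀ r ∈ free, freeOK S r = true) (h3 : x0 ^ 3 = 1) (h1 : x0 ≠ 1)
    (hfix : certA.run 0 xW = 0) :
    Nat.card {y : P0 // y ∈ K ∧ ∃ g : P0, g⁻¹ * x0 * g = y} ≤ keep.length := by
  haveI := finite_P0
  letI := Fintype.ofFinite P0
  classical
  simp only [triCover, Bool.and_eq_true, List.all_eq_true, Nat.blt_eq, Bool.or_eq_true,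
    List.any_eq_true, List.contains_iff_mem] at hc
  obtain ⟨⟨hw, hfr⟩, hcov⟩ := hc
  have hsub : (Finset.univ.filter fun y : P0 => y ∈ K ∧ ∃ g : P0, g⁻¹ * x0 * g = y) ⊆
      keep.toFinset.image (tEl S) := by
    intro y hy
    rw [Finset.mem_filter] at hy
    obtain ⟨-, hyK, g, hg⟩ := hy
    obtain ⟨p, hl, e⟩ := mem_word y (hK hyK)
    obtain ⟨hj, hpj⟩ := follow_zero he hp hl
    rw [e] at hpj
    generalize S.follow 0 p = j at hj hpj
    have hy3 : tEl S j * tEl S j * tEl S j = 1 := by
      rw [← hpj, ← hg]
      calc g⁻¹ * x0 * g * (g⁻¹ * x0 * g) * (g⁻¹ * x0 * g) = g⁻¹ * (x0 * x0 * x0) * g := by group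
        _ = 1 := by rw [show x0 * x0 * x0 = x0 ^ 3 by rw [pow_succ, pow_two], h3]; group
    have hjne : j ≠ 0 := fun e0 => h1 (by
      rw [e0, tEl_zero he hp, ← hg] at hpj
      have : g⁻¹ * x0 * g = g⁻¹ * 1 * g := by rw [hpj]; group
      exact mul_left_cancel (mul_right_cancel this))
    have hcand : j ∈ triList S := by
      obtain ⟨a1, a2⟩ := tEl_mul he hp hj hj
      obtain ⟨b1, b2⟩ := tEl_mul he hp a1 hj
      rw [← a2, hy3] at b2
      simp only [triList, List.mem_filter, List.mem_range, strict_eq, Bool.and_eq_true]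
      have hb0 : (!Nat.beq j 0) = true := by
        rw [Bool.not_eq_true']
        exact Bool.eq_false_iff.mpr fun h => hjne (Nat.eq_of_beq_eq_true h)
      refine ⟨hj, by simpa using hb0, ?_⟩
      by_contra hne
      obtain ⟨m1, m2⟩ := path_spec hp b1
      have hp' := hp
      simp only [ElTab.pathsOK, List.all_eq_true, List.mem_range, strict_eq, Bool.and_eq_true,
        Bool.or_eq_true] at hp'
      rcases (hp' _ b1).2 with h0 | h0
      · exact hne h0
      · rw [Bool.not_eq_true', ← Bool.not_eq_true, List.all_eq_true] at h0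
        refine h0 fun c hc => ?_
        rw [List.mem_range] at hc
        have he' := he
        simp only [ElTab.edgesOK, Bool.and_eq_true, List.all_eq_true, List.mem_range,
          Nat.blt_eq] at he'
        rw [key_eq he hp b1 (pos_size he) (b2.symm.trans (tEl_zero he hp).symm) c hc]
        exact he'.1.2 c hc
    rcases hcov j hcand with hk | ⟨⟨k, r, h⟩, hmem, hke⟩
    · exact Finset.mem_image.mpr ⟨j, List.mem_toFinset.mpr hk, hpj.symm⟩
    · exfalso
      have hke' : k = j := Nat.eq_of_beq_eq_true hke
      subst hke'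
      have hW := hw _ hmem
      simp only [witOK, Bool.and_eq_true, Nat.blt_eq] at hW
      obtain ⟨⟨hr, hh⟩, heq⟩ := hW
      have hrmem : free.getD r 0 ∈ free := by
        rw [List.getD_eq_getElem _ _ hr]; exact List.getElem_mem _
      obtain ⟨-, c2⟩ := tEl_mul he hp hj hh
      obtain ⟨-, d2⟩ := tEl_mul he hp hh (hfr _ hrmem)
      rw [Nat.eq_of_beq_eq_true heq, ← d2, ← hpj, ← hg] at c2
      -- so the free element is a conjugate of `x₀`
      set q := g * tEl S h with hq
      have hrq : tEl S (free.getD r 0) = q⁻¹ * x0 * q := by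
        rw [hq, mul_inv_rev]
        calc tEl S (free.getD r 0) = (tEl S h)⁻¹ * (tEl S h * tEl S (free.getD r 0)) := by group
          _ = (tEl S h)⁻¹ * (g⁻¹ * x0 * g * tEl S h) := by rw [← c2]
          _ = _ := by group
      have hN : certA.N = 3906 := certA_facts.2.1
      let o : Fin certA.N := ⟨0, by omega⟩
      have hxo : act.left x0⁻¹ o = o := Fin.ext (by
        rw [Act.left_apply, inv_inv, x0, act.apply _ (by rw [certA_facts.2.2.1]; decide)]
        exact hfix)
      have hmove : act.left (q⁻¹ * x0⁻¹ * q) (act.left q⁻¹ o) = act.left q⁻¹ o := by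
        rw [← Equiv.Perm.mul_apply, ← map_mul, mul_assoc, mul_inv_cancel, mul_one, map_mul,
          Equiv.Perm.mul_apply, hxo]
      generalize act.left q⁻¹ o = v at hmove
      have hrun : certA.run v (S.word (S.path (free.getD r 0))) = (v : ℕ) := by
        have hinv : q⁻¹ * x0⁻¹ * q = (tEl S (free.getD r 0))⁻¹ := by rw [hrq]; group
        rw [hinv, Act.left_apply, inv_inv] at hmove
        rw [← act.apply _ (S.word_lt he _) v]
        exact congrArg Fin.val hmove
      have hf := hfree _ hrmem
      simp only [freeOK, strict_eq, List.all_eq_true, List.mem_range, Bool.not_eq_true'] at hf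
      have := hf v (hN ▸ v.2)
      rw [hrun, Nat.beq_refl] at this
      exact Bool.noConfusion this
  rw [Nat.card_eq_fintype_card, Fintype.card_subtype]
  calc _ ≤ _ := Finset.card_le_card (by convert hsub)
    _ ≤ keep.toFinset.card := Finset.card_image_le
    _ ≤ keep.length := keep.toFinset_card_le

/-- the table of the group of order 125 -/
noncomputable def tabFive : ElTab := ⟨fiveGens, 125, fiveKeys, fiveNext, fivePaths⟩

/-- the points fixed by the element -/
noncomputable def fixThree : List ℕ :=
  (List.range 3906).filter fun x => Nat.beq (certA.run x (invW xW)) x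

end CfsgLib.LyCent.Three
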