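import Cfsg.Agent.Lib.LyCent.ThreeSlpChk
import Cfsg.Agent.Lib.LyCent.ThreeChk
import Cfsg.Agent.Lib.LyCent.Fusion

/-!
Elements centralising an element of order three in the Lyons group.
-/

set_option autoImplicit false
set_option linter.style.haveILetI false

namespace CfsgLib.LyCent.Three

open CfsgLib.CosetEnum CfsgLib.LyPres

/-- the element of order three in the Lyons group -/
noncomputable def X : G := toG x0

theorem three_mat : List.Forall₂ IsMat (baseN ++ moreVals.map spread) allEl := by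
  refine more_mat list_mat (more_facts.1.trans more_facts.2.1.symm) fun k hk => ?_
  rw [more_facts.1] at hk
  by_cases h : k < 5
  · exact List.all_eq_true.mp moreChk0 k (List.mem_range.mpr h)
  · have := List.all_eq_true.mp moreChk1 (k - 5) (List.mem_range.mpr (by omega))
    rwa [show 5 + (k - 5) = k by omega] at this

theorem three_rel {r : List ℕ × List ℕ} (h : r ∈ threeRels) : prodW gN r.1 = prodW gN r.2 :=
  eqOK_spec three_mat (List.all_eq_true.mp threeRels_ok r h)

theorem gN_x : prodW gN [2, 0, 3, 1] = X := by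
  rw [gN_word _ (by decide), X, x0, toG_word (by decide)]
  rfl

theorem gN_el0 : gN (keyPos.getD 0 0) = E0 := by
  obtain ⟨-, -, h, h0, -, -⟩ := more_facts
  rw [gN_key h0 h]; unfold E0; rfl

theorem gN_el10 : gN (keyPos.getD 10 0) = T := by
  obtain ⟨-, -, h, -, h1, -⟩ := more_facts
  rw [gN_key h1 h]; unfold T; rfl

theorem gN_el12 : gN (keyPos.getD 12 0) = Y 0 := by
  obtain ⟨-, -, h, -, -, h2⟩ := more_facts
  rw [gN_key h2 h]; unfold Y; rfl

theorem X_conj : (gN cX)⁻¹ * X * gN cX = Y 0 := by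
  have h := three_rel (r := ([2, 0, 3, 1] ++ [cX], [cX, keyPos.getD 12 0]))
    (by simp [threeRels])
  rw [prodW_append, gN_x] at h
  simp only [prodW_cons, prodW_nil, mul_one, gN_el12] at h
  rw [mul_assoc, h, inv_mul_cancel_left]

theorem cX_T : Commute (gN cX) T := by
  have h := three_rel (r := ([cX, keyPos.getD 10 0], [keyPos.getD 10 0, cX]))
    (by simp [threeRels])
  simp only [prodW_cons, prodW_nil, mul_one, gN_el10] at h
  exact h

theorem cX_mem : gN cX ∈ subX := by
  rw [← centralizer_T, Subgroup.mem_centralizer_singleton_iff]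
  exact cX_T.eq

theorem E0_conj : (gN cE)⁻¹ * E0 * gN cE = Y 0 := by
  have h := three_rel (r := ([keyPos.getD 0 0, cE], [cE, keyPos.getD 12 0]))
    (by simp [threeRels])
  simp only [prodW_cons, prodW_nil, mul_one, gN_el0, gN_el12] at h
  rw [mul_assoc, h, inv_mul_cancel_left]

theorem cZ_comm : Commute (gN cZ) X := by
  have h := three_rel (r := (cZ :: [2, 0, 3, 1], [2, 0, 3, 1] ++ [cZ]))
    (by simp [threeRels])
  rw [prodW_cons, prodW_append, gN_x] at h
  simp only [prodW_cons, prodW_nil, mul_one] at h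
  exact h

theorem orderOf_cZ : orderOf (gN cZ) = 11 := by
  haveI : Fact (Nat.Prime 11) := ⟨by norm_num⟩
  refine orderOf_eq_prime ?_ (slot_ne three_mat z_slot.1 z_slot.2)
  have h := three_rel (r := (List.replicate 11 cZ, [])) (by simp [threeRels])
  rw [prodW_nil] at h
  simpa [List.replicate, prodW_cons, pow_succ, mul_assoc] using h

theorem X_cube : X * X * X = 1 := by
  have h : X = gN cX * Y 0 * (gN cX)⁻¹ := by rw [← X_conj]; group
  rw [h, show gN cX * Y 0 * (gN cX)⁻¹ * (gN cX * Y 0 * (gN cX)⁻¹) * (gN cX * Y 0 * (gN cX)⁻¹) =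
    gN cX * (Y 0 * Y 0 * Y 0) * (gN cX)⁻¹ by group, Y_cube (by norm_num)]
  group

theorem X_ne : X ≠ 1 := by
  intro e
  have h := X_conj
  rw [e, mul_one, inv_mul_cancel] at h
  exact Y0_ne h.symm

theorem x0_cube : x0 ^ 3 = 1 := by
  refine toG_injective ?_
  rw [map_pow, map_one, pow_succ, pow_two]
  exact X_cube

theorem x0_ne : x0 ≠ 1 := fun e => X_ne (by rw [X, e, map_one])

theorem word_checks :
    (w14 (([0, 0, 0, 0] : List ℕ) ++ xW) == w14 (xW ++ [0, 0, 0, 0])) &&
    (w14 (([4, 3, 4, 2, 7, 5, 3, 5, 2, 7, 3, 4, 2, 4] : List ℕ) ++ xW) ==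
      w14 (xW ++ [4, 3, 4, 2, 7, 5, 3, 5, 2, 7, 3, 4, 2, 4])) &&
    (fiveGens.all fun w => w14 (w ++ xW) == w14 (xW ++ w)) &&
    (w14 ((invW [4, 3, 4, 2, 7, 5, 3, 5, 2, 7, 3, 4, 2, 4] ++ ([0, 0, 0, 0] ++
        [4, 3, 4, 2, 7, 5, 3, 5, 2, 7, 3, 4, 2, 4])) ++ [0, 0, 0, 0]) ==
      w14 ([0, 0, 0, 0] ++ (invW [4, 3, 4, 2, 7, 5, 3, 5, 2, 7, 3, 4, 2, 4] ++ ([0, 0, 0, 0] ++
        [4, 3, 4, 2, 7, 5, 3, 5, 2, 7, 3, 4, 2, 4])))) = true := by
  decide +kernel

theorem wit_ne : CfsgLib.LyRep.Small.mat (w14 (invW [4, 3, 4, 2, 7, 5, 3, 5, 2, 7, 3, 4, 2, 4] ++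
      ([0, 0, 0, 0] ++ [4, 3, 4, 2, 7, 5, 3, 5, 2, 7, 3, 4, 2, 4]))) ≠
    CfsgLib.LyRep.Small.mat (w14 [0, 0, 0, 0]) := by
  decide +kernel

theorem five_letters : ∀ w ∈ fiveGens, ∀ c ∈ w, c < 10 := by
  have h := five_comm
  simp only [List.all_eq_true, Nat.blt_eq] at h
  exact h

theorem t0_x0 : Commute t0 x0 := by
  have h := word_checks
  simp only [Bool.and_eq_true, beq_iff_eq, decide_eq_true_eq] at h
  have e := Fus.word_eq (by decide) (by decide) h.1.1.1
  rw [prodW_append, prodW_append] at e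
  exact e

theorem five_x0 {y : P0} (hy : y ∈ Subgroup.closure {x | ∃ g ∈ tabFive.gens, prodW gen0 g = x}) :
    Commute y x0 := by
  have h : Subgroup.closure {x | ∃ g ∈ tabFive.gens, prodW gen0 g = x} ≤
      Subgroup.centralizer ({x0} : Set P0) := by
    rw [Subgroup.closure_le]
    rintro _ ⟨w, hw, rfl⟩
    have hc := word_checks
    simp only [Bool.and_eq_true, beq_iff_eq, decide_eq_true_eq, List.all_eq_true] at hc
    have hl := five_letters w hw
    have hx : ∀ c ∈ xW, c < 10 := by decide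
    have e := Fus.word_eq (fun c hc => (List.mem_append.mp hc).elim (hl c) (hx c))
      (fun c hc => (List.mem_append.mp hc).elim (hx c) (hl c)) (hc.1.2 w hw)
    rw [prodW_append, prodW_append] at e
    rw [SetLike.mem_coe, Subgroup.mem_centralizer_singleton_iff]
    exact e
  exact Subgroup.mem_centralizer_singleton_iff.mp (h hy)

/-- a second involution of the centraliser of `X`, conjugate to `T` there -/
theorem exists_wit : ∃ g : G, Commute g X ∧ g⁻¹ * T * g ∈ subX ∧ g⁻¹ * T * g ≠ T := by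
  set gw : List ℕ := [4, 3, 4, 2, 7, 5, 3, 5, 2, 7, 3, 4, 2, 4] with hgw
  have hl : ∀ c ∈ invW gw, c < 10 := by rw [hgw]; decide +kernel
  have hl' : ∀ c ∈ gw, c < 10 := by rw [hgw]; decide +kernel
  have hc := word_checks
  rw [← hgw] at hc
  simp only [Bool.and_eq_true, beq_iff_eq, decide_eq_true_eq] at hc
  have hx : ∀ c ∈ xW, c < 10 := by decide
  have ht : ∀ c ∈ ([0, 0, 0, 0] : List ℕ), c < 10 := by decide
  have hu : ∀ c ∈ invW gw ++ ([0, 0, 0, 0] ++ gw), c < 10 := fun c hc => by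
    rcases List.mem_append.mp hc with h | h
    · exact hl c h
    · exact (List.mem_append.mp h).elim (ht c) (hl' c)
  have e1 := Fus.word_eq (fun c hc => (List.mem_append.mp hc).elim (hl' c) (hx c))
    (fun c hc => (List.mem_append.mp hc).elim (hx c) (hl' c)) hc.1.1.2
  have e2 := Fus.word_eq (fun c hc => (List.mem_append.mp hc).elim (hu c) (ht c))
    (fun c hc => (List.mem_append.mp hc).elim (ht c) (hu c)) hc.2
  rw [prodW_append, prodW_append] at e1
  rw [prodW_append (w := invW gw ++ _), prodW_append (w := [0, 0, 0, 0])] at e2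
  have hU : prodW gen0 (invW gw ++ ([0, 0, 0, 0] ++ gw)) =
      (prodW gen0 gw)⁻¹ * t0 * prodW gen0 gw := by
    rw [prodW_append, prodW_append, prodW_invW, mul_assoc]
    rfl
  rw [hU] at e2
  refine ⟨toG (prodW gen0 gw), (show Commute _ _ from e1).map toG, ?_, ?_⟩
  · rw [T_eq, ← map_inv, ← map_mul, ← map_mul, ← centralizer_T,
      Subgroup.mem_centralizer_singleton_iff, T_eq, ← map_mul, ← map_mul]
    exact congrArg toG e2
  · rw [T_eq, ← map_inv, ← map_mul, ← map_mul]
    intro e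
    refine wit_ne ?_
    rw [← hgw]
    have e3 := congrArg toGL (toG_injective e)
    rw [← hU, t0, toGL_word hu, toGL_word ht] at e3
    have e4 := congrArg Units.val e3
    rw [val_gUnit, val_gUnit, ← w14_eq, ← w14_eq] at e4
    have e5 := congrArg (fun M => Matrix.submatrix M idxEquiv.symm idxEquiv.symm) e4
    simp only [Matrix.submatrix_submatrix, Equiv.self_comp_symm, Matrix.submatrix_id_id] at e5
    exact e5

end CfsgLib.LyCent.Three
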